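import Cfsg.Agent.Lib.ClassesSp.Arith

/-!
Counting the codes of the classes of the orthogonal groups in even dimension, odd characteristic.
-/

set_option autoImplicit false
set_option linter.unusedSectionVars false
set_option linter.style.haveILetI false

namespace Cfsg.Agent.Lib.Elem70.ClassesO

open Polynomial
open Cfsg.Agent.Lib.ClassesSp (SD FlC Fl card_Fl ww ww_series EP card_EP)

universe u

variable {F : Type u} [Field F] [Fintype F]

/-- No flags, even degree, constant term one. -/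
def Plain (p : F[X] × Bool × Bool) : Prop :=
  SD p.1 ∧ Even p.1.natDegree ∧ p.1.coeff 0 = 1 ∧ p.2.1 = false ∧ p.2.2 = false

/-- The condition at the exponent `e`. -/
def PosC (e : ℕ) (p : F[X] × Bool × Bool) : Prop := if Odd e then FlC p else Plain p

/-- The number of plain components. -/
def cE (q d : ℕ) : ℕ := if Even d then q ^ (d / 2) else 0

/-- The number of components at the exponent `e`. -/
def cO (q e d : ℕ) : ℕ := if Odd e then ww q d else cE q d

theorem card_plain (d : ℕ) :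
    Finite {p : F[X] × Bool × Bool // Plain p ∧ p.1.natDegree = d} ∧
      Nat.card {p : F[X] × Bool × Bool // Plain p ∧ p.1.natDegree = d} ≤ cE (Fintype.card F) d := by
  by_cases hd : Even d
  · obtain ⟨m, rfl⟩ := hd
    haveI := (card_EP (F := F) m).1
    let f : {p : F[X] × Bool × Bool // Plain p ∧ p.1.natDegree = m + m} → EP F m := fun p =>
      ⟨p.1.1, p.2.1.1, by rw [p.2.2]; ring, p.2.1.2.2.1⟩
    have hf : Function.Injective f := fun p p' h => Subtype.ext (Prod.ext (congrArg Subtype.val h :)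
      (Prod.ext (p.2.1.2.2.2.1.trans p'.2.1.2.2.2.1.symm) (p.2.1.2.2.2.2.trans p'.2.1.2.2.2.2.symm)))
    refine ⟨Finite.of_injective f hf, (Nat.card_le_card_of_injective f hf).trans ((card_EP m).2.trans ?_)⟩
    rw [cE, if_pos (Even.add_self m), show (m + m) / 2 = m by omega]
  · haveI : IsEmpty {p : F[X] × Bool × Bool // Plain p ∧ p.1.natDegree = d} :=
      ⟨fun p => hd (p.2.2 ▸ p.2.1.2.1)⟩
    exact ⟨inferInstance, by simp⟩

theorem card_posC (h2 : (2 : F) ≠ 0) (e d : ℕ) :
    Finite {p : F[X] × Bool × Bool // PosC e p ∧ p.1.natDegree = d} ∧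
      Nat.card {p : F[X] × Bool × Bool // PosC e p ∧ p.1.natDegree = d} ≤ cO (Fintype.card F) e d := by
  by_cases he : Odd e
  · have h := card_Fl (F := F) h2 d
    simp only [PosC, cO, if_pos he]
    exact h
  · have h := card_plain (F := F) d
    simp only [PosC, cO, if_neg he]
    exact h

/-- The weight of a sequence. -/
noncomputable def wt {I : ℕ} (p : Fin I → F[X] × Bool × Bool) : ℕ :=
  ∑ i : Fin I, ((i : ℕ) + 1) * (p i).1.natDegree

/-- Sequences with a condition at each exponent. -/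
abbrev Seq (P : ℕ → F[X] × Bool × Bool → Prop) (I m : ℕ) : Type u :=
  {p : Fin I → F[X] × Bool × Bool // (∀ i : Fin I, P ((i : ℕ) + 1) (p i)) ∧ wt p = m}

/-- The recursion for their number. -/
def K (c : ℕ → ℕ → ℕ) : ℕ → ℕ → ℕ
  | 0, m => if m = 0 then 1 else 0
  | I + 1, m => ∑ d ∈ Finset.range (m / (I + 1) + 1), c (I + 1) d * K c I (m - (I + 1) * d)

theorem card_seq {P : ℕ → F[X] × Bool × Bool → Prop} {c : ℕ → ℕ → ℕ}
    (hP : ∀ e d, Finite {p : F[X] × Bool × Bool // P e p ∧ p.1.natDegree = d} ∧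
      Nat.card {p : F[X] × Bool × Bool // P e p ∧ p.1.natDegree = d} ≤ c e d) :
    ∀ I m, Finite (Seq P I m) ∧ Nat.card (Seq P I m) ≤ K c I m
  | 0, m => by
    haveI : Subsingleton (Seq P 0 m) := ⟨fun a b => Subtype.ext (funext fun i => i.elim0)⟩
    refine ⟨inferInstance, ?_⟩
    rw [K]
    split_ifs with h
    · exact Finite.card_le_one_iff_subsingleton.2 inferInstance
    · haveI : IsEmpty (Seq P 0 m) := ⟨fun a => h (by rw [← a.2.2, wt]; rfl)⟩
      simp
  | I + 1, m => by
    classical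
    haveI := fun d => (hP (I + 1) d).1
    haveI := fun r => (card_seq hP I r).1
    have hw : ∀ p : Seq P (I + 1) m, wt (fun i => p.1 (Fin.castSucc i)) +
        (I + 1) * (p.1 (Fin.last I)).1.natDegree = m := fun p => by
      have := p.2.2
      rw [wt, Fin.sum_univ_castSucc] at this
      simpa [wt] using this
    let f : Seq P (I + 1) m → Σ d : Fin (m / (I + 1) + 1),
        {p : F[X] × Bool × Bool // P (I + 1) p ∧ p.1.natDegree = (d : ℕ)} × Seq P I (m - (I + 1) * d) :=
      fun p => ⟨⟨(p.1 (Fin.last I)).1.natDegree, Nat.lt_succ_of_le ((Nat.le_div_iff_mul_le (by omega)).2 (by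
          have := hw p; rw [mul_comm]; omega))⟩,
        ⟨p.1 (Fin.last I), by simpa using p.2.1 (Fin.last I), rfl⟩,
        ⟨fun i => p.1 (Fin.castSucc i), fun i => by simpa using p.2.1 (Fin.castSucc i), by
          have := hw p
          show _ = m - (I + 1) * (p.1 (Fin.last I)).1.natDegree
          omega⟩⟩
    let g : (Σ d : Fin (m / (I + 1) + 1),
        {p : F[X] × Bool × Bool // P (I + 1) p ∧ p.1.natDegree = (d : ℕ)} × Seq P I (m - (I + 1) * d)) →
        (Fin (I + 1) → F[X] × Bool × Bool) := fun s => Fin.snoc s.2.2.1 s.2.1.1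
    have hg : ∀ p, g (f p) = p.1 := fun p => Fin.snoc_init_self p.1
    have hf : Function.Injective f := fun p p' h => Subtype.ext (by rw [← hg p, ← hg p', h])
    refine ⟨Finite.of_injective f hf, (Nat.card_le_card_of_injective f hf).trans ?_⟩
    rw [Nat.card_sigma, K, ← Fin.sum_univ_eq_sum_range]
    refine Finset.sum_le_sum fun d _ => ?_
    rw [Nat.card_prod]
    exact Nat.mul_le_mul (hP _ _).2 (card_seq hP I _).2

/-! ### Numerics -/

theorem cE_series {q : ℕ} {y : ℝ} (_hy : 0 ≤ y) (hqy : (q : ℝ) * y ^ 2 < 1) :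
    ∀ k, ∑ d ∈ Finset.range k, (cE q d : ℝ) * y ^ d ≤ 1 / (1 - q * y ^ 2) := by
  have h1 : 0 < 1 - (q : ℝ) * y ^ 2 := by linarith
  set R := 1 / (1 - (q : ℝ) * y ^ 2) with hR
  have hR1 : 1 ≤ R := by
    rw [hR, le_div_iff₀ h1]; linarith [mul_nonneg (Nat.cast_nonneg (α := ℝ) q) (sq_nonneg y)]
  intro k
  induction k using Nat.strong_induction_on with
  | _ k ih =>
    match k with
    | 0 => simp only [Finset.sum_range_zero]; linarith
    | 1 => simpa [cE] using hR1
    | k + 2 =>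
      rw [Finset.sum_range_succ', Finset.sum_range_succ']
      have e : ∀ d, (cE q (d + 1 + 1) : ℝ) * y ^ (d + 1 + 1) = (q : ℝ) * y ^ 2 * ((cE q d : ℝ) * y ^ d) := by
        intro d
        rw [cE, cE, show (d + 1 + 1) / 2 = d / 2 + 1 by omega,
          if_congr (show Even (d + 1 + 1) ↔ Even d by simp [Nat.even_add_one]) rfl rfl]
        split_ifs
        · push_cast; ring
        · simp
      simp only [e, ← Finset.mul_sum, zero_add]
      have h' : (q : ℝ) * y ^ 2 * ∑ d ∈ Finset.range k, (cE q d : ℝ) * y ^ d ≤ (q : ℝ) * y ^ 2 * R :=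
        mul_le_mul_of_nonneg_left (ih k (by omega)) (by positivity)
      have hfix : (q : ℝ) * y ^ 2 * R + 1 = R := by rw [hR]; field_simp; ring
      rw [show (cE q 0 : ℝ) = 1 by simp [cE], show (cE q 1 : ℝ) = 0 by simp [cE], zero_mul, pow_zero, one_mul]
      linarith

/-- The growth constants with flags. -/
noncomputable def TT : ℕ → ℝ
  | 0 => 1
  | e + 1 => if e = 0 then 3.112
      else TT e * (if Odd (e + 1) then (1 + (5774 / 10000) ^ (e + 1)) ^ 4 else 1) / (1 - (1 / 3) ^ e)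

/-- The growth constants without flags. -/
noncomputable def TN : ℕ → ℝ
  | 0 => 1
  | e + 1 => if e = 0 then 1 else TN e / (1 - (1 / 3) ^ e)

theorem third_lt_one {e : ℕ} (he : e ≠ 0) : ((1 : ℝ) / 3) ^ e < 1 := pow_lt_one₀ (by norm_num) (by norm_num) he

theorem TT_nonneg : ∀ e, 0 ≤ TT e
  | 0 => zero_le_one
  | e + 1 => by
    rw [TT]
    split_ifs with h h'
    · norm_num
    · exact div_nonneg (mul_nonneg (TT_nonneg e) (by positivity)) (by linarith [third_lt_one h])
    · exact div_nonneg (by rw [mul_one]; exact TT_nonneg e) (by linarith [third_lt_one h])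

theorem TN_nonneg : ∀ e, 0 ≤ TN e
  | 0 => zero_le_one
  | e + 1 => by
    rw [TN]
    split_ifs with h
    · norm_num
    · exact div_nonneg (TN_nonneg e) (by linarith [third_lt_one h])

theorem TT_le_aux : ∀ e, 12 ≤ e → TT e ≤ 16.7 * (1 - 7 * (5774 / 10000) ^ e) := by
  intro e he
  induction e, he using Nat.le_induction with
  | base => norm_num [TT, Nat.odd_iff]
  | succ e he ih =>
    set y : ℝ := (5774 / 10000) ^ e with hy
    have hy0 : 0 < y := by positivity
    have hy1 : y ≤ 1 / 700 := by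
      rw [hy]; exact (pow_le_pow_of_le_one (by norm_num) (by norm_num) he).trans (by norm_num)
    have hz : ((1 : ℝ) / 3) ^ e ≤ y ^ 2 := by
      rw [hy, ← pow_mul, mul_comm, pow_mul]
      exact pow_le_pow_left₀ (by norm_num) (by norm_num) _
    rw [TT, if_neg (by omega), show ((5774 : ℝ) / 10000) ^ (e + 1) = y * (5774 / 10000) from pow_succ _ _,
      div_le_iff₀ (by linarith [third_lt_one (show e ≠ 0 by omega)])]
    have h4 : (if Odd (e + 1) then (1 + y * (5774 / 10000)) ^ 4 else 1) ≤ 1 + 2.3096 * y + 3 * y ^ 2 := by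
      split_ifs
      · nlinarith [mul_le_mul_of_nonneg_left hy1 (sq_nonneg y), mul_le_mul_of_nonneg_left hy1 (pow_nonneg hy0.le 3)]
      · nlinarith
    refine (mul_le_mul ih h4 (by split_ifs <;> positivity) (by nlinarith)).trans ?_
    calc 16.7 * (1 - 7 * y) * (1 + 2.3096 * y + 3 * y ^ 2)
        ≤ 16.7 * (1 - 7 * (y * (5774 / 10000))) * (1 - y ^ 2) := by nlinarith
      _ ≤ _ := mul_le_mul_of_nonneg_left (by linarith) (by nlinarith)

theorem TT_le (e : ℕ) : TT e ≤ 16.7 := by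
  rcases Nat.lt_or_ge e 12 with h | h
  · interval_cases e <;> norm_num [TT, Nat.odd_iff]
  · refine (TT_le_aux e h).trans ?_
    have : (0 : ℝ) ≤ (5774 / 10000) ^ e := by positivity
    linarith

theorem TN_le_aux : ∀ e, 8 ≤ e → TN e ≤ 1.83 * (1 - 3 * (1 / 3) ^ e) := by
  intro e he
  induction e, he using Nat.le_induction with
  | base => norm_num [TN]
  | succ e he ih =>
    set y : ℝ := (1 / 3) ^ e with hy
    have hy0 : 0 < y := by positivity
    have hy1 : y ≤ 1 / 100 := by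
      rw [hy]; exact (pow_le_pow_of_le_one (by norm_num) (by norm_num) he).trans (by norm_num)
    rw [TN, if_neg (by omega), pow_succ, ← hy, div_le_iff₀ (by linarith)]
    refine ih.trans ?_
    nlinarith

theorem TN_le (e : ℕ) : TN e ≤ 1.83 := by
  rcases Nat.lt_or_ge e 8 with h | h
  · interval_cases e <;> norm_num [TN]
  · refine (TN_le_aux e h).trans ?_
    have : (0 : ℝ) ≤ (1 / 3) ^ e := by positivity
    linarith

theorem K_one (c : ℕ → ℕ → ℕ) (m : ℕ) : K c 1 m = c 1 m := by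
  rw [K, Nat.zero_add, Nat.div_one, Finset.sum_eq_single m]
  · simp [K]
  · intro d hd hdm
    have := Finset.mem_range.1 hd
    rw [K, if_neg (by omega), mul_zero]
  · simp

theorem pow_sub_inv {s : ℝ} (hs : s ≠ 0) {m a : ℕ} (h : a ≤ m) : s ^ (m - a) = s ^ m * s⁻¹ ^ a := by
  rw [pow_sub₀ _ hs h, inv_pow]

theorem K_step {c : ℕ → ℕ → ℕ} {I : ℕ} {T R s : ℝ} (hs : 0 < s) (hT : 0 ≤ T)
    (h : ∀ r, (K c I r : ℝ) ≤ s ^ r * T)
    (hc : ∀ k, ∑ d ∈ Finset.range k, (c (I + 1) d : ℝ) * (s⁻¹ ^ (I + 1)) ^ d ≤ R) (m : ℕ) :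
    (K c (I + 1) m : ℝ) ≤ s ^ m * (T * R) := by
  rw [K]
  push_cast
  calc _ ≤ ∑ d ∈ Finset.range (m / (I + 1) + 1), s ^ m * T * ((c (I + 1) d : ℝ) * (s⁻¹ ^ (I + 1)) ^ d) := by
        refine Finset.sum_le_sum fun d hd => ?_
        have hle : (I + 1) * d ≤ m := by
          have := Finset.mem_range.1 hd
          rw [mul_comm]; exact (Nat.le_div_iff_mul_le (by omega)).1 (by omega)
        refine (mul_le_mul_of_nonneg_left (h _) (by positivity)).trans (le_of_eq ?_)
        rw [pow_sub_inv hs.ne' hle, ← pow_mul]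
        ring
    _ ≤ _ := by
        rw [← Finset.mul_sum, mul_assoc]
        exact mul_le_mul_of_nonneg_left (mul_le_mul_of_nonneg_left (hc _) hT) (by positivity)

section

variable {q : ℕ} {s : ℝ}

theorem inv_facts (hq : 3 ≤ q) (hs : 0 < s) (hsq : s ^ 2 = q) :
    0 ≤ s⁻¹ ∧ s⁻¹ ≤ 5774 / 10000 ∧ s⁻¹ ^ 2 ≤ 1 / 3 ∧ (q : ℝ) * s⁻¹ ^ 2 = 1 := by
  have hq' : (3 : ℝ) ≤ q := by exact_mod_cast hq
  have h : (q : ℝ) * s⁻¹ ^ 2 = 1 := by rw [← hsq, ← mul_pow, mul_inv_cancel₀ hs.ne', one_pow]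
  have h2 : s⁻¹ ^ 2 ≤ 1 / 3 := by nlinarith [sq_nonneg s⁻¹]
  refine ⟨by positivity, ?_, h2, h⟩
  nlinarith [sq_nonneg (s⁻¹ - 5774 / 10000), (inv_pos.2 hs).le]

theorem qy_eq (hq : 3 ≤ q) (hs : 0 < s) (hsq : s ^ 2 = q) (e : ℕ) :
    (q : ℝ) * (s⁻¹ ^ (e + 1)) ^ 2 = (s⁻¹ ^ 2) ^ e := by
  rw [← pow_mul, show (e + 1) * 2 = 2 + 2 * e by ring, pow_add, ← mul_assoc,
    (inv_facts hq hs hsq).2.2.2, one_mul, pow_mul]

theorem ww_le (hq : 3 ≤ q) (hs : 0 < s) (hsq : s ^ 2 = q) : ∀ d, (ww q d : ℝ) ≤ s ^ d * 3.112 := by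
  have hq' : (3 : ℝ) ≤ q := by exact_mod_cast hq
  have hs2 : (17 : ℝ) / 10 ≤ s := by nlinarith
  intro d
  induction d using Nat.strong_induction_on with
  | _ d ih =>
    match d with
    | 0 => norm_num [ww]
    | 1 => norm_num [ww]; nlinarith
    | 2 => norm_num [ww, Nat.choose_two_right]; rw [hsq]; linarith
    | 3 =>
      norm_num [ww, show Nat.choose 4 3 = 4 by decide]
      nlinarith [mul_le_mul_of_nonneg_left (show (1732 : ℝ) / 1000 ≤ s by nlinarith) (show (0 : ℝ) ≤ q by positivity),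
        show s ^ 3 = q * s by rw [← hsq]; ring]
    | 4 =>
      norm_num [ww, show Nat.choose 4 4 = 1 by decide, show Nat.choose 4 2 = 6 by decide]
      nlinarith [show s ^ 4 = (q : ℝ) ^ 2 by rw [← hsq]; ring]
    | d + 5 =>
      rw [show d + 5 = (d + 3) + 2 from rfl, ww, Nat.choose_eq_zero_of_lt (by omega), add_zero, pow_add, hsq]
      push_cast
      nlinarith [ih (d + 3) (by omega)]

theorem cE_le (hsq : s ^ 2 = q) (hs : 0 < s) (d : ℕ) : (cE q d : ℝ) ≤ s ^ d := by
  rw [cE]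
  split_ifs with h
  · obtain ⟨m, rfl⟩ := h
    push_cast
    rw [show (m + m) / 2 = m by omega, ← hsq, ← pow_mul, two_mul]
  · simp; positivity

theorem K_cO_le (hq : 3 ≤ q) (hs : 0 < s) (hsq : s ^ 2 = q) :
    ∀ e, 1 ≤ e → ∀ m, (K (cO q) e m : ℝ) ≤ s ^ m * TT e := by
  obtain ⟨hx0, hx, hx2, -⟩ := inv_facts hq hs hsq
  intro e he
  induction e, he using Nat.le_induction with
  | base => intro m; rw [K_one, cO, if_pos odd_one, TT, if_pos rfl]; exact ww_le hq hs hsq m
  | succ e he ih =>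
    intro m
    have hqy : (q : ℝ) * (s⁻¹ ^ (e + 1)) ^ 2 ≤ (1 / 3) ^ e := by
      rw [qy_eq hq hs hsq]; exact pow_le_pow_left₀ (by positivity) hx2 _
    have h1 := third_lt_one (show e ≠ 0 by omega)
    rw [TT, if_neg (by omega), mul_div_assoc]
    refine K_step hs (TT_nonneg e) ih (fun k => ?_) m
    by_cases ho : Odd (e + 1)
    · simp only [cO, if_pos ho]
      refine (ww_series (by positivity) (by linarith) k).trans ?_
      exact div_le_div₀ (by positivity)
        (pow_le_pow_left₀ (by positivity) (by linarith [pow_le_pow_left₀ hx0 hx (e + 1)]) _) (by linarith)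
        (by linarith)
    · simp only [cO, if_neg ho]
      refine (cE_series (by positivity) (by linarith) k).trans ?_
      exact div_le_div₀ zero_le_one le_rfl (by linarith) (by linarith)

theorem K_cE_le (hq : 3 ≤ q) (hs : 0 < s) (hsq : s ^ 2 = q) :
    ∀ e, 1 ≤ e → ∀ m, (K (fun _ => cE q) e m : ℝ) ≤ s ^ m * TN e := by
  obtain ⟨hx0, hx, hx2, -⟩ := inv_facts hq hs hsq
  intro e he
  induction e, he using Nat.le_induction with
  | base => intro m; rw [K_one, TN, if_pos rfl, mul_one]; exact cE_le hsq hs m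
  | succ e he ih =>
    intro m
    have hqy : (q : ℝ) * (s⁻¹ ^ (e + 1)) ^ 2 ≤ (1 / 3) ^ e := by
      rw [qy_eq hq hs hsq]; exact pow_le_pow_left₀ (by positivity) hx2 _
    have h1 := third_lt_one (show e ≠ 0 by omega)
    rw [TN, if_neg (by omega), div_eq_mul_one_div]
    refine K_step hs (TN_nonneg e) ih (fun k => ?_) m
    refine (cE_series (by positivity) (by linarith) k).trans ?_
    exact div_le_div₀ zero_le_one le_rfl (by linarith) (by linarith)

theorem K_bound (hq : 3 ≤ q) {n : ℕ} (hn : 1 ≤ n) :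
    K (cO q) (n + n) (n + n) + K (fun _ => cE q) (n + n) (n + n) ≤ 19 * q ^ n := by
  have hs : 0 < Real.sqrt q := Real.sqrt_pos.2 (by exact_mod_cast (by omega : 0 < q))
  have hsq : Real.sqrt q ^ 2 = q := Real.sq_sqrt (Nat.cast_nonneg q)
  have e : Real.sqrt q ^ (n + n) = (q : ℝ) ^ n := by rw [← two_mul, pow_mul, hsq]
  have hA := K_cO_le hq hs hsq (n + n) (by omega) (n + n)
  have hB := K_cE_le hq hs hsq (n + n) (by omega) (n + n)
  rw [e] at hA hB
  have hpos : (0 : ℝ) ≤ (q : ℝ) ^ n := by positivity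
  have : ((K (cO q) (n + n) (n + n) + K (fun _ => cE q) (n + n) (n + n) : ℕ) : ℝ) ≤ ((19 * q ^ n : ℕ) : ℝ) := by
    push_cast
    nlinarith [TT_le (n + n), TN_le (n + n)]
  exact_mod_cast this

end

end Cfsg.Agent.Lib.Elem70.ClassesO
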