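import Cfsg.Prelude.Def_Classical
import Cfsg.Agent.Lib.Forms.Basis

/-!
Orthogonal groups of symmetric matrices: classification by the determinant and transport.
-/

set_option autoImplicit false
set_option linter.unusedSectionVars false

namespace Cfsg.Agent.Lib.Elem70.ClassesO

open Matrix Module

universe u

variable {F : Type u} [Field F]
variable {ι ι' : Type} [Fintype ι] [DecidableEq ι] [Fintype ι'] [DecidableEq ι']

/-- The orthogonal group of a matrix. -/
def OS (S : Matrix ι ι F) : Subgroup (GL ι F) where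
  carrier := {g | (g : Matrix ι ι F)ᵀ * S * g = S}
  one_mem' := by simp
  mul_mem' {a b} ha hb := by
    simp only [Set.mem_ofPred_eq, Units.val_mul, Matrix.transpose_mul] at ha hb ⊢
    calc (b : Matrix ι ι F)ᵀ * (a : Matrix ι ι F)ᵀ * S * ((a : Matrix ι ι F) * b)
        = (b : Matrix ι ι F)ᵀ * ((a : Matrix ι ι F)ᵀ * S * a) * b := by simp only [Matrix.mul_assoc]
      _ = S := by rw [ha, hb]
  inv_mem' {a} ha := by
    simp only [Set.mem_ofPred_eq] at ha ⊢
    conv_lhs => rw [← ha]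
    rw [← Matrix.mul_assoc, ← Matrix.mul_assoc, ← Matrix.transpose_mul, ← Units.val_mul, mul_inv_cancel,
      Units.val_one, Matrix.transpose_one, Matrix.one_mul, Matrix.mul_assoc, ← Units.val_mul, mul_inv_cancel,
      Units.val_one, Matrix.mul_one]

theorem mem_OS {S : Matrix ι ι F} {g : GL ι F} : g ∈ OS S ↔ (g : Matrix ι ι F)ᵀ * S * g = S := Iff.rfl

theorem symm_apply {S : Matrix ι ι F} (hS : S.IsSymm) (u v : ι → F) :
    u ⬝ᵥ S *ᵥ v = v ⬝ᵥ S *ᵥ u := by
  rw [dotProduct_mulVec, ← mulVec_transpose, hS.eq, dotProduct_comm]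

/-- A symmetric matrix is determined by its quadratic form. -/
theorem eq_of_quad (h2 : (2 : F) ≠ 0) {A B : Matrix ι ι F} (hA : A.IsSymm) (hB : B.IsSymm)
    (h : ∀ v, v ⬝ᵥ A *ᵥ v = v ⬝ᵥ B *ᵥ v) : A = B := by
  ext i j
  have h1 := h (Pi.single i 1 + Pi.single j 1)
  simp only [mulVec_add, add_dotProduct, dotProduct_add, h (Pi.single i 1), h (Pi.single j 1)] at h1
  rw [symm_apply hA (Pi.single j 1) (Pi.single i 1), symm_apply hB (Pi.single j 1) (Pi.single i 1)] at h1
  have e : (2 : F) * (Pi.single i 1 ⬝ᵥ A *ᵥ Pi.single j 1) = 2 * (Pi.single i 1 ⬝ᵥ B *ᵥ Pi.single j 1) := by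
    linear_combination h1
  simpa using mul_left_cancel₀ h2 e

theorem isometry_eq_OS (h2 : (2 : F) ≠ 0) {S : Matrix ι ι F} (hS : S.IsSymm) {Q : (ι → F) → F}
    (hQ : ∀ v, v ⬝ᵥ S *ᵥ v = 2 * Q v) : Cfsg.isometryGroup F Q = OS S := by
  ext g
  have e : ∀ v, v ⬝ᵥ ((g : Matrix ι ι F)ᵀ * S * (g : Matrix ι ι F)) *ᵥ v =
      2 * Q ((g : Matrix ι ι F) *ᵥ v) := fun v => by
    rw [← hQ, Matrix.mul_assoc, ← mulVec_mulVec, dotProduct_mulVec, vecMul_transpose, mulVec_mulVec]
  constructor
  · intro h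
    have h' : ∀ u v : ι → F, Q ((g : Matrix ι ι F) *ᵥ u) = Q u := h
    exact eq_of_quad h2 (by rw [Matrix.IsSymm, transpose_mul, transpose_mul, transpose_transpose, hS.eq,
      Matrix.mul_assoc]) hS fun v => by rw [e, h' v v, hQ]
  · intro h u v
    show Q ((g : Matrix ι ι F) *ᵥ u) = Q u
    have h1 := e u
    rw [mem_OS.1 h, hQ] at h1
    exact (mul_left_cancel₀ h2 h1).symm

/-- Orthogonal groups of congruent matrices are isomorphic. -/
def osReindex (S : Matrix ι ι F) (e : ι ≃ ι') : OS S ≃* OS (Matrix.reindex e e S) where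
  toFun g := ⟨Units.map (Matrix.reindexAlgEquiv F F e).toMonoidHom g.1, by
    have h := congrArg (Matrix.reindexAlgEquiv F F e) (mem_OS.1 g.2)
    rw [map_mul, map_mul] at h
    rw [mem_OS]
    refine Eq.trans ?_ h
    simp⟩
  invFun g := ⟨Units.map (Matrix.reindexAlgEquiv F F e.symm).toMonoidHom g.1, by
    have h := congrArg (Matrix.reindexAlgEquiv F F e.symm) (mem_OS.1 g.2)
    rw [map_mul, map_mul] at h
    rw [mem_OS]
    refine Eq.trans ?_ (h.trans ?_)
    · simp
    · simp⟩
  left_inv g := Subtype.ext (Units.ext (by simp))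
  right_inv g := Subtype.ext (Units.ext (by simp))
  map_mul' a b := Subtype.ext (map_mul _ a.1 b.1)

/-- The determinants lie in the same class modulo squares. -/
def SameClass (a b : F) : Prop := ∃ d : F, d ≠ 0 ∧ a = d * d * b

theorem SameClass.symm {a b : F} (h : SameClass a b) : SameClass b a := by
  obtain ⟨d, hd, rfl⟩ := h
  exact ⟨d⁻¹, inv_ne_zero hd, by field_simp⟩

theorem SameClass.trans {a b c : F} (h : SameClass a b) (h' : SameClass b c) : SameClass a c := by
  obtain ⟨d, hd, rfl⟩ := h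
  obtain ⟨d', hd', rfl⟩ := h'
  exact ⟨d * d', mul_ne_zero hd hd', by ring⟩

theorem sameClass_congr {S S' : Matrix ι ι F} {P : GL ι F} (h : (P : Matrix ι ι F)ᵀ * S * P = S') :
    SameClass S'.det S.det :=
  ⟨(P : Matrix ι ι F).det, (P.isUnit.map (Matrix.detMonoidHom)).ne_zero, by
    rw [← h, det_mul, det_mul, det_transpose]; ring⟩

variable {N : ℕ}

theorem isUnit_of_det {A : Matrix ι ι F} (h : A.det ≠ 0) : IsUnit A :=
  (Matrix.isUnit_iff_isUnit_det A).2 h.isUnit

theorem exists_congr_diag [Finite F] (h2 : (2 : F) ≠ 0) {α : F} (hα : ¬ IsSquare α)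
    {S : Matrix (Fin (N + 1)) (Fin (N + 1)) F} (hS : S.IsSymm) (hd : S.det ≠ 0) :
    ∃ (P : GL (Fin (N + 1)) F) (d : F), (d = 1 ∨ d = α) ∧
      (P : Matrix (Fin (N + 1)) (Fin (N + 1)) F)ᵀ * S * P =
        Matrix.diagonal (Function.update (fun _ => (1 : F)) (Fin.last N) d) := by
  let B := Matrix.toBilin' S
  have hB : B.IsSymm := ⟨fun x y => by
    simp only [B, Matrix.toBilin'_apply']; exact symm_apply hS x y⟩
  obtain ⟨b, hb1, hb2, hb3⟩ := Forms.exists_orth_basis_symm h2 hα N B hB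
    (LinearMap.BilinForm.nondegenerate_toBilin'_iff_det_ne_zero.2 hd) (by simp)
  let P : Matrix (Fin (N + 1)) (Fin (N + 1)) F := Matrix.of fun i j => b j i
  have hcol : ∀ j, P *ᵥ Pi.single j 1 = b j := fun j => by funext i; simp [P]
  have e : Pᵀ * S * P = Matrix.diagonal (Function.update (fun _ => (1 : F)) (Fin.last N)
      (B (b (Fin.last N)) (b (Fin.last N)))) := by
    ext i j
    have h1 : (Pᵀ * S * P) i j = Pi.single i 1 ⬝ᵥ (Pᵀ * S * P) *ᵥ Pi.single j 1 := by simp
    rw [h1, Matrix.mul_assoc, ← mulVec_mulVec, ← mulVec_mulVec, dotProduct_mulVec, vecMul_transpose, hcol, hcol,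
      ← Matrix.toBilin'_apply']
    rcases eq_or_ne i j with rfl | hij
    · rw [diagonal_apply_eq]
      rcases eq_or_ne i (Fin.last N) with rfl | hi
      · rw [Function.update_self]
      · rw [Function.update_of_ne hi]; exact hb2 i hi
    · rw [diagonal_apply_ne _ hij]; exact hb1 i j hij
  have hPd : P.det ≠ 0 := by
    intro h0
    have := congrArg Matrix.det e
    rw [det_mul, h0, mul_zero, det_diagonal, eq_comm, Finset.prod_eq_zero_iff] at this
    obtain ⟨i, -, hi⟩ := this
    rcases eq_or_ne i (Fin.last N) with rfl | hne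
    · rw [Function.update_self] at hi
      rcases hb3 with h | h
      · rw [h] at hi; exact one_ne_zero hi
      · rw [h] at hi; exact hα (hi ▸ IsSquare.zero)
    · rw [Function.update_of_ne hne] at hi; exact one_ne_zero hi
  obtain ⟨Pu, hPu⟩ := isUnit_of_det hPd
  exact ⟨Pu, _, hb3, by rw [hPu]; exact e⟩

theorem det_diag_update (d : F) :
    (Matrix.diagonal (Function.update (fun _ : Fin (N + 1) => (1 : F)) (Fin.last N) d)).det = d := by
  rw [det_diagonal, Fin.prod_univ_castSucc, Function.update_self, Finset.prod_eq_one fun i _ => ?_, one_mul]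
  exact Function.update_of_ne (Fin.castSucc_ne_last i) _ _

/-- Symmetric matrices with determinants in one class are congruent. -/
theorem exists_congr [Finite F] (h2 : (2 : F) ≠ 0) {α : F} (hα : ¬ IsSquare α) {S S' : Matrix (Fin N) (Fin N) F}
    (hS : S.IsSymm) (hS' : S'.IsSymm) (hd : S.det ≠ 0) (h : SameClass S.det S'.det) :
    ∃ P : GL (Fin N) F, (P : Matrix (Fin N) (Fin N) F)ᵀ * S * P = S' := by
  cases N with
  | zero => exact ⟨1, Matrix.ext fun i => i.elim0⟩
  | succ N =>
    have hd' : S'.det ≠ 0 := by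
      obtain ⟨c, -, hc⟩ := h
      intro h0; exact hd (by rw [hc, h0, mul_zero])
    obtain ⟨P, d, hd1, hP⟩ := exists_congr_diag h2 hα hS hd
    obtain ⟨P', d', hd1', hP'⟩ := exists_congr_diag h2 hα hS' hd'
    have e : SameClass d d' := by
      have a := sameClass_congr hP
      have b := sameClass_congr hP'
      rw [det_diag_update] at a b
      exact (a.trans h).trans b.symm
    have hdd : d = d' := by
      obtain ⟨c, hc, he⟩ := e
      have hsq : ∀ {x : F}, x * x * 1 = α ∨ x * x * α = 1 → x ≠ 0 → False := by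
        rintro x (hx | hx) h0
        · exact hα ⟨x, by rw [← hx, mul_one]⟩
        · exact hα ⟨x⁻¹, by field_simp; linear_combination hx⟩
      rcases hd1 with rfl | rfl <;> rcases hd1' with rfl | rfl
      · rfl
      · exact (hsq (Or.inr he.symm) hc).elim
      · exact (hsq (Or.inl he.symm) hc).elim
      · rfl
    subst hdd
    refine ⟨P * P'⁻¹, ?_⟩
    have h1 : (P' : Matrix (Fin (N + 1)) (Fin (N + 1)) F) * ((P'⁻¹ : GL (Fin (N + 1)) F) :
        Matrix (Fin (N + 1)) (Fin (N + 1)) F) = 1 := Units.mul_inv P'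
    rw [Units.val_mul, transpose_mul,
      show ((P'⁻¹ : GL (Fin (N + 1)) F) : Matrix (Fin (N + 1)) (Fin (N + 1)) F)ᵀ *
          (P : Matrix (Fin (N + 1)) (Fin (N + 1)) F)ᵀ * S *
          ((P : Matrix (Fin (N + 1)) (Fin (N + 1)) F) *
            ((P'⁻¹ : GL (Fin (N + 1)) F) : Matrix (Fin (N + 1)) (Fin (N + 1)) F)) =
          ((P'⁻¹ : GL (Fin (N + 1)) F) : Matrix (Fin (N + 1)) (Fin (N + 1)) F)ᵀ *
            ((P : Matrix (Fin (N + 1)) (Fin (N + 1)) F)ᵀ * S * P) *
            ((P'⁻¹ : GL (Fin (N + 1)) F) : Matrix (Fin (N + 1)) (Fin (N + 1)) F) by simp only [Matrix.mul_assoc],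
      hP, ← hP', ← Matrix.mul_assoc, ← Matrix.mul_assoc, ← transpose_mul, h1, transpose_one, Matrix.one_mul,
      Matrix.mul_assoc, h1, Matrix.mul_one]

end Cfsg.Agent.Lib.Elem70.ClassesO
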