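import Cfsg.Agent.Lib.Elem70.ClassesO.Local
import Cfsg.Agent.Lib.Elem70.ClassesO.Count
import Cfsg.Agent.Lib.Elem70.ClassesO.Gram
import Cfsg.Agent.Lib.ClassesSp.Main

/-!
The invariant of an orthogonal matrix in odd characteristic: elementary divisors and signs. Equal
invariants give congruent forms with conjugate operators.
-/

set_option autoImplicit false
set_option linter.unusedSectionVars false
set_option linter.style.haveILetI false

namespace Cfsg.Agent.Lib.Elem70.ClassesO

open Polynomial Module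
open Cfsg.Agent.Lib.ClassesGLBound
open Cfsg.Agent.Lib.ClassesSL
open Cfsg.Agent.Lib.Symplectic (restr)
open Cfsg.Agent.Lib.ClassesSp (Skew shiftT shiftT_apply shiftT_pow_mem coe_shiftT_restrict_pow perp_ker_range
  isCompl_ker_range SD FlC Blk card_ker_cayley odd_component invT_rdual)

universe u

variable {F : Type u} [Field F] [Fintype F] {N : ℕ}

/-- The bilinear form of a matrix. -/
noncomputable def bf (S : Matrix (Fin N) (Fin N) F) : (Fin N → F) →ₗ[F] (Fin N → F) →ₗ[F] F :=
  Matrix.toBilin' S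

theorem bf_apply (S : Matrix (Fin N) (Fin N) F) (u v : Fin N → F) : bf S u v = dotProduct u (S.mulVec v) :=
  Matrix.toBilin'_apply' S u v

theorem bf_isSymm {S : Matrix (Fin N) (Fin N) F} (hS : S.IsSymm) (hd : S.det ≠ 0) : IsSymmForm (bf S) where
  symm u v := by rw [bf_apply, bf_apply]; exact symm_apply hS u v
  nondeg x h := (LinearMap.BilinForm.nondegenerate_toBilin'_iff_det_ne_zero.2 hd).1 x h

theorem bf_injective : Function.Injective (bf (F := F) (N := N)) := fun _ _ h => Matrix.toBilin'.injective h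

/-- The linear map of a matrix. -/
noncomputable def lin (x : GL (Fin N) F) : Module.End F (Fin N → F) :=
  Matrix.toLin' (x : Matrix (Fin N) (Fin N) F)

theorem lin_bijective (x : GL (Fin N) F) : Function.Bijective (lin x) := by
  refine (Module.End.isUnit_iff _).1 ?_
  exact (x.isUnit.map (Matrix.toLinAlgEquiv' : Matrix (Fin N) (Fin N) F ≃ₐ[F] _).toMonoidHom)

theorem bf_congr (S : Matrix (Fin N) (Fin N) F) (P : Matrix (Fin N) (Fin N) F) (u v : Fin N → F) :
    bf S (Matrix.toLin' P u) (Matrix.toLin' P v) = bf (P.transpose * S * P) u v := by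
  simp only [bf_apply, Matrix.toLin'_apply]
  rw [Matrix.mul_assoc, ← Matrix.mulVec_mulVec, Matrix.dotProduct_mulVec (v := u), Matrix.vecMul_transpose,
    Matrix.mulVec_mulVec]

theorem lin_isometry {S : Matrix (Fin N) (Fin N) F} {x : GL (Fin N) F} (hx : x ∈ OS S) (u v : Fin N → F) :
    bf S (lin x u) (lin x v) = bf S u v := by rw [lin, bf_congr, mem_OS.1 hx]

theorem lin_pow (x : GL (Fin N) F) (k : ℕ) : lin (x ^ k) = lin x ^ k := by
  rw [lin, lin, Units.val_pow_eq_pow_val, Matrix.toLin'_pow]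

theorem finrank_space : finrank F (Fin N → F) = N := Module.finrank_fin_fun F

/-- The generalised eigenspace. -/
noncomputable abbrev eig (x : GL (Fin N) F) (ε : F) : Submodule F (Fin N → F) :=
  LinearMap.ker (shiftT (lin x) ε ^ N)

/-- The matrix on the generalised eigenspace. -/
noncomputable abbrev linE (x : GL (Fin N) F) (ε : F) : Module.End F (eig x ε) :=
  (lin x).restrict (p := eig x ε) (q := eig x ε) fun _ h => shiftT_pow_mem h

theorem eig_symm {S : Matrix (Fin N) (Fin N) F} (hB : IsSymmForm (bf S)) {x : GL (Fin N) F} (hx : x ∈ OS S)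
    {ε : F} (hε : ε * ε = 1) : IsSymmForm (restr (bf S) (eig x ε)) := by
  refine restr_nondeg hB (isCompl_ker_range finrank_space.le _) ?_
  rintro u hu _ ⟨z, rfl⟩
  exact perp_ker_range (lin_bijective x) (lin_isometry hx) hε _ u z hu

theorem coe_linE_pow (x : GL (Fin N) F) (ε c : F) (k : ℕ) (v : eig x ε) :
    (((shiftT (linE x ε) c ^ k) v : eig x ε) : Fin N → F) = (shiftT (lin x) c ^ k) v.1 :=
  coe_shiftT_restrict_pow _ c k v

theorem eig_nil (x : GL (Fin N) F) (ε : F) : shiftT (linE x ε) ε ^ N = 0 :=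
  LinearMap.ext fun v => Subtype.ext (by rw [coe_linE_pow]; exact v.2)

theorem card_eq_kerCard (x : GL (Fin N) F) (ε : F) (k : ℕ) :
    kerCard x (X - C ε) k = Nat.card {v : eig x ε // (shiftT (linE x ε) ε ^ k) v = 0} := by
  have h1 : Nat.card {v : eig x ε // (shiftT (linE x ε) ε ^ k) v = 0} =
      Nat.card {v : Fin N → F // (shiftT (lin x) ε ^ k) v = 0} := by
    refine Nat.card_congr
      { toFun := fun v => ⟨v.1.1, by rw [← coe_linE_pow, v.2]; rfl⟩
        invFun := fun v => ⟨⟨v.1, ?_⟩, Subtype.ext (by rw [coe_linE_pow]; exact v.2)⟩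
        left_inv := fun v => rfl
        right_inv := fun v => rfl }
    show (shiftT (lin x) ε ^ N) v.1 = 0
    rcases le_total k N with hk | hk
    · have e : shiftT (lin x) ε ^ N = shiftT (lin x) ε ^ (N - k) * shiftT (lin x) ε ^ k := by
        rw [← pow_add, Nat.sub_add_cancel hk]
      rw [e, Module.End.mul_apply, v.2, map_zero]
    · have h := v.2
      rw [← LinearMap.mem_ker] at h ⊢
      rw [Module.End.ker_pow_eq_ker_pow_finrank_of_le (f := shiftT (lin x) ε) (finrank_space.le.trans hk)] at h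
      rw [Module.End.ker_pow_eq_ker_pow_finrank_of_le (f := shiftT (lin x) ε) finrank_space.le]
      exact h
  rw [h1, kerCard]
  refine Nat.card_congr (Equiv.subtypeEquivRight fun v => ?_)
  rw [map_pow, map_sub, aeval_X, aeval_C, Algebra.algebraMap_eq_smul_one]
  rfl

/-- The numbers of blocks at `ε` are the multiplicities of the elementary divisors `(X - ε) ^ e`. -/
theorem r_eq_count [DecidableEq F] (h2 : (2 : F) ≠ 0) {α : F} (hα : α ≠ 0) {S : Matrix (Fin N) (Fin N) F}
    (x : GL (Fin N) F) {ε : F} (hε : ε * ε = 1) {D : Module.End F (eig x ε)}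
    (hD : D * shiftT (linE x ε) (-ε) = shiftT (linE x ε) ε)
    (hskew : Skew (restr (bf S) (eig x ε)) D) (P : NF (restr (bf S) (eig x ε)) D α N) (j : Fin N) :
    P.r ((j : ℕ) + 1) =
      Multiset.count (X - C ε) (UniqueFactorizationMonoid.normalizedFactors ((invT x).1 j)) := by
  classical
  show _ = Multiset.count _ (UniqueFactorizationMonoid.normalizedFactors (tup (keyOf x) N j))
  rw [← card_fibre_eq (keyOf_spec x).1]
  have hsum : ∀ k, ∑ b : Blk P.r N, min (b.1 : ℕ) k =
      ∑ i : {i // (keyOf x i).2 = X - C ε}, min (keyOf x i.1).1 k := by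
    intro k
    have h := card_eq_kerCard x ε k
    rw [card_ker_cayley h2 hε (eig_nil x ε) hD, kerCard_eq _ (irreducible_X_sub_C ε) (monic_X_sub_C ε)] at h
    have e : Nat.card {v : eig x ε // (D ^ k) v = 0} = Nat.card (LinearMap.ker (D ^ k)) := rfl
    rw [e, Module.natCard_eq_pow_finrank (K := F), Nat.card_eq_fintype_card, natDegree_X_sub_C, one_mul] at h
    rw [← (P.coords hα hskew).finrank_ker_pow, ← Nat.pow_right_injective Fintype.one_lt_card h,
      ← Finset.sum_filter,
      Finset.sum_subtype (Finset.univ.filter fun i => (keyOf x i).2 = X - C ε)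
        (p := fun i => (keyOf x i).2 = X - C ε) (fun i => by simp)]
    exact Finset.sum_congr rfl fun i _ => min_comm _ _
  rw [← P.card_blocks ((j : ℕ) + 1) j.2, JordanType.count_eq hsum (Nat.le_add_left 1 _), ← Fintype.card_subtype]
  refine Fintype.card_congr
    { toFun := fun i => ⟨i.1.1, Prod.ext i.2 i.1.2⟩
      invFun := fun i => ⟨⟨i.1, congrArg Prod.snd i.2⟩, congrArg Prod.fst i.2⟩
      left_inv := fun i => rfl
      right_inv := fun i => rfl }

/-- `s` is a sign function at `ε`. -/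
def Signs (S : Matrix (Fin N) (Fin N) F) (x : GL (Fin N) F) (ε α : F) (s : ℕ → Bool) : Prop :=
  HasCode (restr (bf S) (eig x ε)) (linE x ε) ε α N s

theorem Signs.supp {S : Matrix (Fin N) (Fin N) F} {x : GL (Fin N) F} {ε α : F} {s : ℕ → Bool}
    (h : Signs S x ε α s) {e : ℕ} (he : s e = true) : Odd e ∧ 1 ≤ e ∧ e ≤ N := by
  obtain ⟨D, -, -, P, rfl⟩ := h
  obtain ⟨h1, h0⟩ := P.supp e he
  exact ⟨h1, P.bound e (by omega)⟩

theorem Signs.root (h2 : (2 : F) ≠ 0) {S : Matrix (Fin N) (Fin N) F} {x : GL (Fin N) F} {ε α : F}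
    (hα : α ≠ 0) (hε : ε * ε = 1) {s : ℕ → Bool} (h : Signs S x ε α s) (j : Fin N)
    (hj : s ((j : ℕ) + 1) = true) : ((invT x).1 j).eval ε = 0 := by
  classical
  obtain ⟨D, hD, hskew, P, rfl⟩ := h
  have h0 := (P.supp _ hj).2
  rw [r_eq_count h2 hα x hε hD hskew P j, Multiset.count_pos] at h0
  exact dvd_iff_isRoot.1 (UniqueFactorizationMonoid.dvd_of_mem_normalizedFactors h0)

theorem Signs.even_mult (h2 : (2 : F) ≠ 0) {S : Matrix (Fin N) (Fin N) F} {x : GL (Fin N) F} {ε α : F}
    (hα : α ≠ 0) (hε : ε * ε = 1) {s : ℕ → Bool} (h : Signs S x ε α s) (j : Fin N)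
    (hj : ¬ Odd ((j : ℕ) + 1)) : Even (rootMultiplicity ε ((invT x).1 j)) := by
  classical
  obtain ⟨D, hD, hskew, P, rfl⟩ := h
  have h0 := P.par ((j : ℕ) + 1) (Nat.not_odd_iff_even.1 hj)
  rw [r_eq_count h2 hα x hε hD hskew P j] at h0
  have hne : (invT x).1 j ≠ 0 := ((invT x).2.1 j).1.ne_zero
  convert h0 using 1
  refine (UniqueFactorizationMonoid.count_normalizedFactors_eq (irreducible_X_sub_C ε)
    (monic_X_sub_C ε).normalize_eq_self (pow_rootMultiplicity_dvd _ ε) ?_).symm
  intro hdvd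
  have := (le_rootMultiplicity_iff hne).2 hdvd
  omega

theorem exists_signs (h2 : (2 : F) ≠ 0) {α : F} (hα : ¬ IsSquare α) {S : Matrix (Fin N) (Fin N) F}
    (hB : IsSymmForm (bf S)) {x : GL (Fin N) F} (hx : x ∈ OS S) {ε : F} (hε : ε * ε = 1) :
    ∃ s : ℕ → Bool, Signs S x ε α s :=
  exists_code (V := eig x ε) h2 hα (eig_symm hB hx hε) (fun u v => lin_isometry hx u.1 v.1) hε (eig_nil x ε)

/-- `c` is an invariant of `(x, S)`. -/
def Valid (α : F) (S : Matrix (Fin N) (Fin N) F) (x : GL (Fin N) F) (c : Fin N → F[X] × Bool × Bool) : Prop :=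
  ∃ sp sm : ℕ → Bool, Signs S x 1 α sp ∧ Signs S x (-1) α sm ∧
    ∀ j : Fin N, c j = ((invT x).1 j, sp ((j : ℕ) + 1), sm ((j : ℕ) + 1))

theorem exists_valid (h2 : (2 : F) ≠ 0) {α : F} (hα : ¬ IsSquare α) {S : Matrix (Fin N) (Fin N) F}
    (hB : IsSymmForm (bf S)) {x : GL (Fin N) F} (hx : x ∈ OS S) : ∃ c, Valid α S x c := by
  obtain ⟨sp, hsp⟩ := exists_signs h2 hα hB hx (ε := 1) (one_mul 1)
  obtain ⟨sm, hsm⟩ := exists_signs h2 hα hB hx (ε := -1) (by norm_num)
  exact ⟨_, sp, sm, hsp, hsm, fun j => rfl⟩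

theorem isConj_inv {S : Matrix (Fin N) (Fin N) F} (hd : S.det ≠ 0) {x : GL (Fin N) F} (hx : x ∈ OS S) :
    IsConj x x⁻¹ := by
  obtain ⟨Su, hSu⟩ := isUnit_of_det hd
  obtain ⟨w, hw⟩ := TransposeConj.isConj_transpose (x : Matrix (Fin N) (Fin N) F)
  have h : SemiconjBy ((Su⁻¹ : GL (Fin N) F) : Matrix (Fin N) (Fin N) F)
      ((x : Matrix (Fin N) (Fin N) F).transpose) ((x⁻¹ : GL (Fin N) F) : Matrix (Fin N) (Fin N) F) := by
    refine Units.inv_mul_eq_iff_eq_mul Su |>.2 ?_
    rw [← mul_assoc, Units.eq_mul_inv_iff_mul_eq, hSu]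
    conv_rhs => rw [← hx]
    rw [Matrix.mul_assoc, Matrix.mul_assoc, ← Units.val_mul, mul_inv_cancel, Units.val_one, Matrix.mul_one]
  obtain ⟨v, hv⟩ := IsConj.trans ⟨w, hw⟩ ⟨Su⁻¹, h⟩
  exact ⟨toUnits v, Units.ext hv⟩

theorem valid_mem (h2 : (2 : F) ≠ 0) {α : F} (hα : α ≠ 0) {S : Matrix (Fin N) (Fin N) F}
    (hd : S.det ≠ 0) {x : GL (Fin N) F} (hx : x ∈ OS S) {c : Fin N → F[X] × Bool × Bool}
    (hc : Valid α S x c) : (∀ j : Fin N, PosC ((j : ℕ) + 1) (c j)) ∧ wt c = N := by
  obtain ⟨sp, sm, hsp, hsm, hc⟩ := hc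
  have hSD : ∀ j, SD ((invT x).1 j) := fun j =>
    ⟨((invT x).2.1 j).1, ((invT x).2.1 j).2, invT_rdual _ (isConj_inv hd hx) j⟩
  refine ⟨fun j => ?_, ?_⟩
  · rw [hc j, PosC]
    split_ifs with ho
    · exact ⟨hSD j, fun h => hsp.root h2 hα (one_mul 1) j h, fun h => hsm.root h2 hα (by norm_num) j h⟩
    · obtain ⟨h1, h3⟩ := odd_component h2 (hSD j) (hsp.even_mult h2 hα (one_mul 1) j ho)
        (hsm.even_mult h2 hα (by norm_num) j ho)
      exact ⟨hSD j, h1, h3, Bool.eq_false_iff.2 fun h => ho (hsp.supp h).1,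
        Bool.eq_false_iff.2 fun h => ho (hsm.supp h).1⟩
  · rw [wt]
    simp only [hc]
    exact (invT x).2.2

/-- Equal invariants: a congruence carrying one operator to the other. -/
theorem exists_congr_of_valid (h2 : (2 : F) ≠ 0) {α : F} (hα : α ≠ 0) (hN : 1 ≤ N)
    {S S' : Matrix (Fin N) (Fin N) F} (hB : IsSymmForm (bf S)) (hB2 : IsSymmForm (bf S')) {x y : GL (Fin N) F}
    (hx : x ∈ OS S) (hy : y ∈ OS S') {c : Fin N → F[X] × Bool × Bool}
    (hcx : Valid α S x c) (hcy : Valid α S' y c) :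
    ∃ P : GL (Fin N) F, (P : Matrix (Fin N) (Fin N) F).transpose * S' * P = S ∧ P * x = y * P := by
  obtain ⟨sp, sm, hsp, hsm, hcx⟩ := hcx
  obtain ⟨sp', sm', hsp', hsm', hcy⟩ := hcy
  have hj : ∀ j : Fin N, (invT x).1 j = (invT y).1 j ∧ sp ((j : ℕ) + 1) = sp' ((j : ℕ) + 1) ∧
      sm ((j : ℕ) + 1) = sm' ((j : ℕ) + 1) := fun j => by
    simpa using (hcx j).symm.trans (hcy j)
  have hagree : ∀ {ε : F} (a b : ℕ → Bool), Signs S x ε α a → Signs S' y ε α b →
      (∀ j : Fin N, a ((j : ℕ) + 1) = b ((j : ℕ) + 1)) → a = b := by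
    intro ε a b ha hb hab
    funext e
    by_cases he : 1 ≤ e ∧ e ≤ N
    · have := hab ⟨e - 1, by omega⟩
      rwa [show e - 1 + 1 = e by omega] at this
    · rw [Bool.eq_false_iff.2 fun h => he (ha.supp h).2, Bool.eq_false_iff.2 fun h => he (hb.supp h).2]
  have esp := hagree _ _ hsp hsp' fun j => (hj j).2.1
  have esm := hagree _ _ hsm hsm' fun j => (hj j).2.2
  subst esp esm
  obtain ⟨c₀, hc₀⟩ := isConj_iff.1 (invT_eq_iff.1 (Subtype.ext (funext fun j => (hj j).1) : invT x = invT y))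
  let g : (Fin N → F) ≃ₗ[F] (Fin N → F) := LinearEquiv.ofBijective _ (lin_bijective c₀)
  have hgT : ∀ v, g (lin x v) = lin y (g v) := fun v => by
    show lin c₀ (lin x v) = lin y (lin c₀ v)
    rw [← hc₀]
    simp only [lin, Matrix.toLin'_apply, Matrix.mulVec_mulVec, ← Units.val_mul, inv_mul_cancel_right]
  let B' := (bf S').compl₁₂ (g : (Fin N → F) →ₗ[F] _) (g : (Fin N → F) →ₗ[F] _)
  have hB' : ∀ u v, B' u v = bf S' (g u) (g v) := fun u v => rfl
  have hB's : IsSymmForm B' := ⟨fun u v => hB2.symm _ _, fun u hu => g.injective (by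
    rw [map_zero]
    exact hB2.nondeg _ fun v => by
      obtain ⟨w, rfl⟩ := g.surjective v
      exact hu w)⟩
  have heq : ∀ (ε : F) (s : ℕ → Bool), Signs S' y ε α s →
      HasCode (restr B' (eig x ε)) (linE x ε) ε α N s := by
    intro ε s hcodey
    have hpow : ∀ (k : ℕ) v, g ((shiftT (lin x) ε ^ k) v) = (shiftT (lin y) ε ^ k) (g v) := fun k => by
      induction k with
      | zero => intro v; rfl
      | succ k ih =>
        intro v
        rw [pow_succ, pow_succ, Module.End.mul_apply, Module.End.mul_apply, ih, shiftT_apply, shiftT_apply,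
          map_sub, map_smul, hgT]
    let ψ : eig y ε ≃ₗ[F] eig x ε :=
      { toFun := fun v => ⟨g.symm v.1, g.injective (by
          rw [hpow, g.apply_symm_apply, map_zero]; exact v.2)⟩
        map_add' := fun v w => Subtype.ext (map_add g.symm _ _)
        map_smul' := fun a v => Subtype.ext (map_smul g.symm _ _)
        invFun := fun v => ⟨g v.1, by
          show (shiftT (lin y) ε ^ N) (g v.1) = 0
          rw [← hpow, show (shiftT (lin x) ε ^ N) v.1 = 0 from v.2, map_zero]⟩
        left_inv := fun v => Subtype.ext (g.apply_symm_apply _)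
        right_inv := fun v => Subtype.ext (g.symm_apply_apply _) }
    refine hcodey.map ψ (fun u v => ?_) (fun v => Subtype.ext ?_)
    · show B' (g.symm u.1) (g.symm v.1) = _
      rw [hB', g.apply_symm_apply, g.apply_symm_apply]; rfl
    · show g.symm (lin y v.1) = lin x (g.symm v.1)
      rw [g.symm_apply_eq, hgT, g.apply_symm_apply]
  haveI : Finite (GL (Fin N) F) := inferInstance
  obtain ⟨e, he, hiso⟩ := good_of_codes h2 hα hB hB's (lin_isometry hx)
    (fun u v => by rw [hB', hB', hgT, hgT, lin_isometry hy])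
    (k := orderOf x) (orderOf_pos x).ne'
    (by rw [← lin_pow, pow_orderOf_eq_one]; exact Matrix.toLin'_one)
    (M := N) hN finrank_space.le (s := sp) (t := sm)
    (fun C hC => by
      rcases hC with rfl | rfl
      · exact hsp
      · exact heq 1 _ hsp')
    (fun C hC => by
      rcases hC with rfl | rfl
      · exact hsm
      · exact heq (-1) _ hsm')
  let H := e.trans g
  obtain ⟨P, hP⟩ : IsUnit (LinearMap.toMatrix' H.toLinearMap) :=
    isUnit_of_det (by rw [LinearMap.det_toMatrix']; exact (LinearEquiv.isUnit_det' H).ne_zero)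
  have hPv : ∀ v, Matrix.toLin' (P : Matrix (Fin N) (Fin N) F) v = g (e v) := fun v => by
    rw [hP, Matrix.toLin'_toMatrix']; rfl
  refine ⟨P, bf_injective (LinearMap.ext fun u => LinearMap.ext fun v => ?_), Units.ext ?_⟩
  · rw [← bf_congr, hPv, hPv]; exact hiso u v
  · refine Matrix.toLin'.injective (LinearMap.ext fun v => ?_)
    rw [Units.val_mul, Units.val_mul, Matrix.toLin'_mul, Matrix.toLin'_mul, LinearMap.comp_apply,
      LinearMap.comp_apply, hPv, hPv]
    show g (e (lin x v)) = lin y (g (e v))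
    rw [he, hgT]

end Cfsg.Agent.Lib.Elem70.ClassesO
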