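import Cfsg.Agent.Lib.Elem70.ClassesO.GrowthOdd

/-!
The number of codes of odd weight, with and without roots `-1` at odd exponents.
-/

set_option autoImplicit false
set_option linter.unusedSectionVars false
set_option linter.style.haveILetI false

namespace Cfsg.Agent.Lib.Elem70.ClassesO

open Polynomial
open Cfsg.Agent.Lib.ClassesSp (SD FlC Fl card_Fl EP card_EP ww)

universe u

variable {F : Type u} [Field F] [Fintype F]

/-- A component with a possible sign at `1` and no root `-1`. -/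
def NoMinus (p : F[X] × Bool × Bool) : Prop := FlC p ∧ p.1.eval (-1) ≠ 0

/-- The condition at the exponent `e` without roots `-1` at odd exponents. -/
def PosN (e : ℕ) (p : F[X] × Bool × Bool) : Prop := if Odd e then NoMinus p else Plain p

/-- Self-reciprocal polynomials of degree `2m` without root `-1`. -/
def nr (q m : ℕ) : ℕ := if m = 0 then 1 else (q - 1) * q ^ (m - 1)

/-- The number of components without root `-1`. -/
def zz (q d : ℕ) : ℕ := nr q (d / 2) + if d = 0 then 0 else nr q ((d - 1) / 2)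

/-- The number of components at the exponent `e`. -/
def cN (q e d : ℕ) : ℕ := if Odd e then zz q d else cE q d

theorem SD.coeff_eq_one_of_eval {g : F[X]} (h : SD g) (hd : Even g.natDegree) (h1 : g.eval (-1) ≠ 0) :
    g.coeff 0 = 1 := by
  have e := ClassesSp.aeval_reverse (F := F) (E := F) (show (-1 : F) * -1 = 1 by norm_num) g
  have e2 := congrArg (Polynomial.eval (-1 : F)) h.2.2
  rw [ClassesSp.rdual, eval_mul, eval_C] at e2
  simp only [coe_aeval_eq_eval] at e
  rw [e, hd.neg_one_pow, one_mul] at e2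
  have h3 : (g.coeff 0)⁻¹ = 1 := mul_right_cancel₀ h1 (e2.trans (one_mul _).symm)
  exact inv_eq_one.1 h3

theorem SD.root_one_of_eval (h2 : (2 : F) ≠ 0) {g : F[X]} (h : SD g) (hd : Odd g.natDegree)
    (h1 : g.eval (-1) ≠ 0) : g.eval 1 = 0 := by
  by_contra h0
  have hev : ∀ c : F, c * c = 1 → g.eval c ≠ 0 → c ^ g.natDegree = g.coeff 0 := by
    intro c hc hne
    have e := ClassesSp.aeval_reverse (F := F) (E := F) hc g
    have e2 := congrArg (Polynomial.eval c) h.2.2
    rw [ClassesSp.rdual, eval_mul, eval_C] at e2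
    simp only [coe_aeval_eq_eval] at e
    rw [e, ← mul_assoc] at e2
    have h3 : (g.coeff 0)⁻¹ * c ^ g.natDegree = 1 := mul_right_cancel₀ hne (e2.trans (one_mul _).symm)
    rw [inv_mul_eq_one₀ h.2.1] at h3
    exact h3.symm
  have a := hev 1 (one_mul 1) h0
  have b := hev (-1) (by norm_num) h1
  rw [one_pow] at a
  rw [hd.neg_one_pow, ← a] at b
  exact h2 (by linear_combination -b)

/-- Self-reciprocal polynomials of degree `d` without root `-1`. -/
abbrev NRT (F : Type u) [Field F] [Fintype F] (d : ℕ) : Type u :=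
  {g : F[X] // (SD g ∧ g.natDegree = d) ∧ g.eval (-1) ≠ 0}

theorem card_NRT_even (m : ℕ) : Finite (NRT F (2 * m)) ∧ Nat.card (NRT F (2 * m)) ≤ nr (Fintype.card F) m := by
  classical
  have hg : ∀ g : NRT F (2 * m), g.1.coeff 0 = 1 := fun g =>
    SD.coeff_eq_one_of_eval g.2.1.1 ⟨m, by rw [g.2.1.2]; ring⟩ g.2.2
  rcases Nat.eq_zero_or_pos m with rfl | hm
  · haveI : Subsingleton (NRT F (2 * 0)) := ⟨fun a b => Subtype.ext (by
      rw [eq_one_of_monic_natDegree_zero a.2.1.1.1 a.2.1.2, eq_one_of_monic_natDegree_zero b.2.1.1.1 b.2.1.2])⟩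
    exact ⟨inferInstance, by rw [nr, if_pos rfl]; exact Finite.card_le_one_iff_subsingleton.2 inferInstance⟩
  let f : NRT F (2 * m) → (Fin (m - 1) → F) × {c : F // c ≠ 0} := fun g =>
    (fun i => g.1.coeff ((i : ℕ) + 1), ⟨g.1.eval (-1), g.2.2⟩)
  have hf : Function.Injective f := by
    intro g g' h
    have hlow : ∀ i, i + 1 < m → g.1.coeff (i + 1) = g'.1.coeff (i + 1) := fun i hi =>
      congrFun (congrArg Prod.fst h) ⟨i, by omega⟩
    have hev : g.1.eval (-1) = g'.1.eval (-1) := congrArg Subtype.val (congrArg Prod.snd h)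
    have hall : ∀ i, i ≠ m → g.1.coeff i = g'.1.coeff i := by
      intro i hi
      rcases Nat.lt_or_ge i m with h1 | h1
      · cases i with
        | zero => rw [hg g, hg g']
        | succ i => exact hlow i h1
      · rcases le_or_gt i (2 * m) with h3 | h3
        · have e := g.2.1.1.coeff_sub (i := 2 * m - i) (by rw [g.2.1.2]; omega)
          have e' := g'.2.1.1.coeff_sub (i := 2 * m - i) (by rw [g'.2.1.2]; omega)
          rw [g.2.1.2, Nat.sub_sub_self h3, hg g, one_mul] at e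
          rw [g'.2.1.2, Nat.sub_sub_self h3, hg g', one_mul] at e'
          rw [e, e']
          cases hj : 2 * m - i with
          | zero => rw [hg g, hg g']
          | succ j => exact hlow j (by omega)
        · rw [coeff_eq_zero_of_natDegree_lt (by rw [g.2.1.2]; omega),
            coeff_eq_zero_of_natDegree_lt (by rw [g'.2.1.2]; omega)]
    have hC : g.1 = g'.1 + C (g.1.coeff m - g'.1.coeff m) * X ^ m := by
      ext i
      rw [coeff_add, coeff_C_mul_X_pow]
      split_ifs with h1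
      · subst h1; ring
      · rw [add_zero]; exact hall i h1
    refine Subtype.ext ?_
    have h1 := hev
    rw [hC, eval_add, add_eq_left, eval_mul, eval_C, eval_pow, eval_X, mul_eq_zero] at h1
    rw [hC, h1.resolve_right (pow_ne_zero _ (neg_ne_zero.2 one_ne_zero)), map_zero, zero_mul, add_zero]
  refine ⟨Finite.of_injective f hf, (Nat.card_le_card_of_injective f hf).trans_eq ?_⟩
  rw [nr, if_neg hm.ne', Nat.card_prod, Nat.card_fun, Nat.card_fin, Nat.card_eq_fintype_card,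
    Nat.card_eq_fintype_card, Fintype.card_subtype_compl, Fintype.card_subtype_eq, mul_comm]

theorem card_NRT (h2 : (2 : F) ≠ 0) (d : ℕ) :
    Finite (NRT F d) ∧ Nat.card (NRT F d) ≤ nr (Fintype.card F) (d / 2) := by
  rcases Nat.even_or_odd d with ⟨m, rfl⟩ | ⟨m, rfl⟩
  · rw [← two_mul, Nat.mul_div_cancel_left m two_pos]; exact card_NRT_even m
  · rw [show (2 * m + 1) / 2 = m by omega]
    choose k hk using fun g : NRT F (2 * m + 1) => g.2.1.1.divRoot (one_mul 1)
      (SD.root_one_of_eval h2 g.2.1.1 ⟨m, g.2.1.2⟩ g.2.2)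
    let f : NRT F (2 * m + 1) → NRT F (2 * m) := fun g =>
      ⟨k g, ⟨(hk g).1, by have := (hk g).2.2; rw [g.2.1.2] at this; omega⟩,
        fun e => g.2.2 (by rw [(hk g).2.1, eval_mul, e, mul_zero])⟩
    have hf : Function.Injective f := fun g g' h => Subtype.ext (by
      rw [(hk g).2.1, (hk g').2.1]
      exact congrArg (fun z : F[X] => (X - C (1 : F)) * z) (congrArg Subtype.val h))
    haveI := (card_NRT_even (F := F) m).1
    exact ⟨Finite.of_injective f hf, (Nat.card_le_card_of_injective f hf).trans (card_NRT_even m).2⟩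

theorem card_noMinus (h2 : (2 : F) ≠ 0) (d : ℕ) :
    Finite {p : F[X] × Bool × Bool // NoMinus p ∧ p.1.natDegree = d} ∧
      Nat.card {p : F[X] × Bool × Bool // NoMinus p ∧ p.1.natDegree = d} ≤ zz (Fintype.card F) d := by
  classical
  let T := {p : F[X] × Bool × Bool // NoMinus p ∧ p.1.natDegree = d}
  haveI := (card_NRT (F := F) h2 d).1
  let Tt := {g : NRT F d // g.1.eval 1 = 0}
  have hTt : Nat.card Tt ≤ if d = 0 then 0 else nr (Fintype.card F) ((d - 1) / 2) := by
    rcases Nat.eq_zero_or_pos d with rfl | hd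
    · haveI : IsEmpty Tt := ⟨fun g => one_ne_zero (α := F) (by
        have := g.2
        rwa [eq_one_of_monic_natDegree_zero g.1.2.1.1.1 g.1.2.1.2, eval_one] at this)⟩
      simp
    · rw [if_neg hd.ne']
      choose k hk using fun g : Tt => g.1.2.1.1.divRoot (one_mul 1) g.2
      haveI := (card_NRT (F := F) h2 (d - 1)).1
      let f : Tt → NRT F (d - 1) := fun g =>
        ⟨k g, ⟨(hk g).1, by have := (hk g).2.2; rw [g.1.2.1.2] at this; omega⟩,
          fun e => g.1.2.2 (by rw [(hk g).2.1, eval_mul, e, mul_zero])⟩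
      have hf : Function.Injective f := fun g g' h => Subtype.ext (Subtype.ext (by
        rw [(hk g).2.1, (hk g').2.1]
        exact congrArg (fun z : F[X] => (X - C (1 : F)) * z) (congrArg Subtype.val h)))
      exact (Nat.card_le_card_of_injective f hf).trans (card_NRT h2 (d - 1)).2
  let f : T → NRT F d ⊕ Tt := fun p =>
    if hp : p.1.2.1 = true then Sum.inr ⟨⟨p.1.1, ⟨p.2.1.1.1, p.2.2⟩, p.2.1.2⟩, p.2.1.1.2.1 hp⟩
    else Sum.inl ⟨p.1.1, ⟨p.2.1.1.1, p.2.2⟩, p.2.1.2⟩
  have hf : Function.Injective f := by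
    intro p p' h
    have hm : ∀ p : T, p.1.2.2 = false := fun p => Bool.eq_false_iff.2 fun e => p.2.1.2 (p.2.1.1.2.2 e)
    by_cases hp : p.1.2.1 = true <;> by_cases hp' : p'.1.2.1 = true <;>
      simp only [f, hp, hp', dite_true, dite_false, reduceCtorEq, Sum.inr.injEq, Sum.inl.injEq, Subtype.mk.injEq] at h
    · exact Subtype.ext (Prod.ext (congrArg (fun z : Tt => z.1.1) h) (Prod.ext (hp.trans hp'.symm) ((hm p).trans (hm p').symm)))
    · exact Subtype.ext (Prod.ext h (Prod.ext ((Bool.eq_false_iff.2 hp).trans (Bool.eq_false_iff.2 hp').symm)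
        ((hm p).trans (hm p').symm)))
  refine ⟨Finite.of_injective f hf, (Nat.card_le_card_of_injective f hf).trans ?_⟩
  rw [Nat.card_sum, zz]
  exact Nat.add_le_add (card_NRT h2 d).2 hTt

theorem card_posN (h2 : (2 : F) ≠ 0) (e d : ℕ) :
    Finite {p : F[X] × Bool × Bool // PosN e p ∧ p.1.natDegree = d} ∧
      Nat.card {p : F[X] × Bool × Bool // PosN e p ∧ p.1.natDegree = d} ≤ cN (Fintype.card F) e d := by
  by_cases he : Odd e
  · have h := card_noMinus (F := F) h2 d
    simp only [PosN, cN, if_pos he]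
    exact h
  · have h := card_plain (F := F) d
    simp only [PosN, cN, if_neg he]
    exact h

/-! ### Series split by parity -/

theorem series_le {qy : ℝ} (h0 : 0 ≤ qy) (h1 : qy < 1) {a t : ℕ → ℝ} (ha : ∀ d, 0 ≤ a d)
    (hrec : ∀ d, a (d + 2) = qy * a d + t (d + 2)) (ht : ∀ d, 5 ≤ d → t d = 0) (ha0 : a 0 = t 0) (ha1 : a 1 = t 1)
    {P : ℝ} (hP : ∑ d ∈ Finset.range 5, t d ≤ P) (k : ℕ) : ∑ d ∈ Finset.range k, a d ≤ P / (1 - qy) := by
  have hmono : ∀ i j : ℕ, i ≤ j → ∑ d ∈ Finset.range i, a d ≤ ∑ d ∈ Finset.range j, a d := fun i j h =>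
    Finset.sum_le_sum_of_subset_of_nonneg (Finset.range_mono h) fun _ _ _ => ha _
  have ht5 : ∑ d ∈ Finset.range (k + 5), t d = ∑ d ∈ Finset.range 5, t d := by
    refine (Finset.sum_subset (Finset.range_mono (by omega)) fun d _ hd => ht d ?_).symm
    simpa using hd
  have e : ∑ d ∈ Finset.range (k + 5), a d =
      qy * ∑ d ∈ Finset.range (k + 3), a d + ∑ d ∈ Finset.range (k + 5), t d := by
    rw [show k + 5 = k + 3 + 1 + 1 from rfl, Finset.sum_range_succ', Finset.sum_range_succ',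
      Finset.sum_range_succ' t, Finset.sum_range_succ' (fun k => t (k + 1))]
    simp only [show ∀ i, a (i + 1 + 1) = qy * a i + t (i + 1 + 1) from hrec, Finset.sum_add_distrib,
      ← Finset.mul_sum, ha0, ha1, zero_add]
    ring
  have h2 := hmono k (k + 5) (by omega)
  have h3 := mul_le_mul_of_nonneg_left (hmono (k + 3) (k + 5) (by omega)) h0
  refine h2.trans ?_
  rw [le_div_iff₀ (by linarith)]
  linarith

theorem even_add_two (d : ℕ) : Even (d + 2) ↔ Even d := by simp [Nat.even_add_one]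

theorem parity_series {q : ℕ} {y : ℝ} (hy : 0 ≤ y) (hqy : (q : ℝ) * y ^ 2 < 1) {c : ℕ → ℕ} {t : ℕ → ℝ}
    (hrec : ∀ d, (c (d + 2) : ℝ) = q * c d + t (d + 2)) (ht : ∀ d, 5 ≤ d → t d = 0)
    (h0 : (c 0 : ℝ) = t 0) (h1 : (c 1 : ℝ) = t 1) (ev : Bool) {P : ℝ}
    (hP : ∑ d ∈ Finset.range 5, (if (Even d ↔ ev = true) then t d * y ^ d else 0) ≤ P) (k : ℕ) :
    ∑ d ∈ Finset.range k, (if (Even d ↔ ev = true) then (c d : ℝ) * y ^ d else 0) ≤ P / (1 - q * y ^ 2) := by
  refine series_le (by positivity) hqy (t := fun d => if (Even d ↔ ev = true) then t d * y ^ d else 0)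
    (fun d => ?_) (fun d => ?_) (fun d hd => ?_) ?_ ?_ hP k
  · split_ifs <;> positivity
  · simp only [even_add_two]
    split_ifs
    · rw [hrec]; ring
    · ring
  · simp [ht d hd]
  · simp [h0]
  · simp [h1]

section

variable {q : ℕ} {s : ℝ}

/-- The bound at a weight, by parity. -/
noncomputable def bd (s : ℝ) (z : ℝ × ℝ) (m : ℕ) : ℝ := s ^ m * (if Even m then z.1 else s⁻¹ * z.2)

theorem K_step_odd {c : ℕ → ℕ → ℕ} {I : ℕ} {z : ℝ × ℝ} {A B : ℝ} (hs : 0 < s) (hz1 : 0 ≤ z.1) (hz2 : 0 ≤ z.2)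
    (hI : Odd (I + 1)) (h : ∀ r, (K c I r : ℝ) ≤ bd s z r)
    (hA : ∀ k, ∑ d ∈ Finset.range k, (if (Even d ↔ true = true) then (c (I + 1) d : ℝ) * (s⁻¹ ^ (I + 1)) ^ d else 0) ≤ A)
    (hB : ∀ k, ∑ d ∈ Finset.range k, (if (Even d ↔ false = true) then (c (I + 1) d : ℝ) * (s⁻¹ ^ (I + 1)) ^ d else 0) ≤
      s⁻¹ ^ (I + 1) * B) (m : ℕ) :
    (K c (I + 1) m : ℝ) ≤ bd s (A * z.1 + B * s⁻¹ ^ (I + 2) * z.2, A * z.2 + B * s⁻¹ ^ I * z.1) m := by
  rw [K]
  push_cast
  set R := Finset.range (m / (I + 1) + 1)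
  set t : ℕ → ℝ := fun d => (c (I + 1) d : ℝ) * (s⁻¹ ^ (I + 1)) ^ d
  have key : ∀ u v : ℝ, 0 ≤ u → 0 ≤ v →
      (∀ d, Even d → (if Even (m + (I + 1) * d) then z.1 else s⁻¹ * z.2) = u) →
      (∀ d, ¬ Even d → (if Even (m + (I + 1) * d) then z.1 else s⁻¹ * z.2) = v) →
      ∑ d ∈ R, (c (I + 1) d : ℝ) * K c I (m - (I + 1) * d) ≤ s ^ m * (A * u + s⁻¹ ^ (I + 1) * B * v) := by
    intro u v hu hv he ho
    calc _ ≤ ∑ d ∈ R, s ^ m * ((if (Even d ↔ true = true) then t d else 0) * u +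
          (if (Even d ↔ false = true) then t d else 0) * v) := by
          refine Finset.sum_le_sum fun d hd => ?_
          have hle : (I + 1) * d ≤ m := by
            have := Finset.mem_range.1 hd
            rw [mul_comm]; exact (Nat.le_div_iff_mul_le (by omega)).1 (by omega)
          refine (mul_le_mul_of_nonneg_left (h _) (by positivity)).trans (le_of_eq ?_)
          have hpar : Even (m - (I + 1) * d) ↔ Even (m + (I + 1) * d) := by
            rw [Nat.even_sub hle, Nat.even_add]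
          rw [bd, if_congr hpar rfl rfl, pow_sub_inv hs.ne' hle, pow_mul]
          by_cases hev : Even d
          · rw [he d hev]; simp [hev, t]; ring
          · rw [ho d hev]; simp [hev, t]; ring
      _ ≤ _ := by
          rw [← Finset.mul_sum, Finset.sum_add_distrib, ← Finset.sum_mul, ← Finset.sum_mul]
          exact mul_le_mul_of_nonneg_left
            (add_le_add (mul_le_mul_of_nonneg_right (hA _) hu) (mul_le_mul_of_nonneg_right (hB _) hv))
            (by positivity)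
  have hpar : ∀ d, Even (m + (I + 1) * d) ↔ (Even m ↔ Even d) := fun d => by
    rw [Nat.even_add, Nat.even_mul, or_iff_right (Nat.not_even_iff_odd.2 hI)]
  rw [bd]
  by_cases hm : Even m
  · rw [if_pos hm]
    refine (key z.1 (s⁻¹ * z.2) hz1 (by positivity) (fun d hd => ?_) (fun d hd => ?_)).trans (le_of_eq ?_)
    · rw [if_pos ((hpar d).2 (iff_of_true hm hd))]
    · rw [if_neg fun e => hd (((hpar d).1 e).1 hm)]
    · rw [show I + 2 = I + 1 + 1 from rfl, pow_succ s⁻¹ (I + 1)]; ring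
  · rw [if_neg hm]
    refine (key (s⁻¹ * z.2) z.1 (by positivity) hz1 (fun d hd => ?_) (fun d hd => ?_)).trans (le_of_eq ?_)
    · rw [if_neg fun e => hm (((hpar d).1 e).2 hd)]
    · rw [if_pos ((hpar d).2 (iff_of_false hm hd))]
    · rw [pow_succ s⁻¹ I]; ring

theorem K_step_even {c : ℕ → ℕ → ℕ} {I : ℕ} {z : ℝ × ℝ} {A : ℝ} (hs : 0 < s) (hz1 : 0 ≤ z.1) (hz2 : 0 ≤ z.2)
    (hI : ¬ Odd (I + 1)) (h : ∀ r, (K c I r : ℝ) ≤ bd s z r)
    (hA : ∀ k, ∑ d ∈ Finset.range k, (c (I + 1) d : ℝ) * (s⁻¹ ^ (I + 1)) ^ d ≤ A) (m : ℕ) :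
    (K c (I + 1) m : ℝ) ≤ bd s (A * z.1, A * z.2) m := by
  rw [K]
  push_cast
  have hpar : ∀ d, (I + 1) * d ≤ m → (Even (m - (I + 1) * d) ↔ Even m) := fun d hle => by
    rw [Nat.even_sub hle]
    exact iff_true_right (Even.mul_right (Nat.not_odd_iff_even.1 hI) d)
  calc _ ≤ ∑ d ∈ Finset.range (m / (I + 1) + 1),
        bd s z m * ((c (I + 1) d : ℝ) * (s⁻¹ ^ (I + 1)) ^ d) := by
        refine Finset.sum_le_sum fun d hd => ?_
        have hle : (I + 1) * d ≤ m := by
          have := Finset.mem_range.1 hd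
          rw [mul_comm]; exact (Nat.le_div_iff_mul_le (by omega)).1 (by omega)
        refine (mul_le_mul_of_nonneg_left (h _) (by positivity)).trans (le_of_eq ?_)
        rw [bd, bd, if_congr (hpar d hle) rfl rfl, pow_sub_inv hs.ne' hle, pow_mul]
        ring
    _ ≤ _ := by
        rw [← Finset.mul_sum]
        refine (mul_le_mul_of_nonneg_left (hA _) ?_).trans (le_of_eq ?_)
        · rw [bd]; split_ifs <;> positivity
        · rw [bd, bd]; split_ifs <;> ring

theorem bd_mono (hs : 0 < s) {z z' : ℝ × ℝ} (h1 : z.1 ≤ z'.1) (h2 : z.2 ≤ z'.2) (m : ℕ) :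
    bd s z m ≤ bd s z' m := by
  rw [bd, bd]
  split_ifs <;> gcongr

theorem pow_bounds (hq : 3 ≤ q) (hs : 0 < s) (hsq : s ^ 2 = q) (k : ℕ) :
    s⁻¹ ^ (2 * k) ≤ (1 / 3) ^ k := by
  rw [pow_mul]; exact pow_le_pow_left₀ (by positivity) (inv_facts hq hs hsq).2.2.1 _

/-- From the exponent two on, for a family given by `f` at odd exponents. -/
theorem K_par_le (hq : 3 ≤ q) (hs : 0 < s) (hsq : s ^ 2 = q) {c : ℕ → ℕ → ℕ} {f : ℕ → ℕ} {t : ℕ → ℝ} {p : Num}
    (hp : p.Nonneg) {a b : ℝ} (ha : 0 ≤ a) (hb : 0 ≤ b)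
    (hodd : ∀ e, Odd e → c e = f) (heven : ∀ e, ¬ Odd e → c e = cE q)
    (hrec : ∀ d, (f (d + 2) : ℝ) = q * f d + t (d + 2)) (ht : ∀ d, 5 ≤ d → t d = 0)
    (h0 : (f 0 : ℝ) = t 0) (h1 : (f 1 : ℝ) = t 1)
    (hP0 : ∀ y Y : ℝ, 0 ≤ y → y ^ 2 ≤ Y → t 0 + t 2 * y ^ 2 + t 4 * y ^ 4 ≤ p.p0 Y)
    (hP1 : ∀ y Y : ℝ, 0 ≤ y → y ^ 2 ≤ Y → t 1 * y + t 3 * y ^ 3 ≤ y * p.p1 Y)
    (hbase : ∀ m, (K c 2 m : ℝ) ≤ bd s (a, b) m) :
    ∀ e, 2 ≤ e → ∀ m, (K c e m : ℝ) ≤ bd s (TP p a b e) m := by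
  intro e he
  induction e, he using Nat.le_induction with
  | base => exact hbase
  | succ e he ih =>
    intro m
    obtain ⟨hz1, hz2⟩ := TP_nonneg hp ha hb e
    have hw := third_lt_one (show e ≠ 0 by omega)
    set y := s⁻¹ ^ (e + 1) with hy
    have hy0 : 0 ≤ y := by positivity
    have hqy : (q : ℝ) * y ^ 2 ≤ (1 / 3) ^ e := by
      rw [hy, qy_eq hq hs hsq, ← pow_mul]; exact pow_bounds hq hs hsq e
    rw [TP_succ p a b he, stepP, Nat.add_sub_cancel]
    by_cases ho : Odd (e + 1)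
    · rw [if_pos ho]
      set Y : ℝ := (1 / 3) ^ (e + 1) with hYdef
      have hY : y ^ 2 ≤ Y := by
        rw [hy, ← pow_mul, mul_comm]; exact pow_bounds hq hs hsq _
      obtain ⟨n0, n1⟩ := hp Y (by positivity)
      have hA : ∀ k, ∑ d ∈ Finset.range k, (if (Even d ↔ true = true) then (c (e + 1) d : ℝ) * y ^ d else 0) ≤
          p.p0 Y / (1 - (1 / 3) ^ e) := fun k => by
        rw [hodd _ ho]
        refine (parity_series hy0 (by linarith) hrec ht h0 h1 true (P := p.p0 Y) ?_ k).trans ?_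
        · refine le_trans (le_of_eq ?_) (hP0 y Y hy0 hY)
          simp [Finset.sum_range_succ, Nat.even_iff]
        · exact div_le_div_of_nonneg_left n0 (by linarith) (by linarith)
      have hB : ∀ k, ∑ d ∈ Finset.range k, (if (Even d ↔ false = true) then (c (e + 1) d : ℝ) * y ^ d else 0) ≤
          y * (p.p1 Y / (1 - (1 / 3) ^ e)) := fun k => by
        rw [hodd _ ho]
        refine (parity_series hy0 (by linarith) hrec ht h0 h1 false (P := y * p.p1 Y) ?_ k).trans ?_
        · refine le_trans (le_of_eq ?_) (hP1 y Y hy0 hY)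
          simp [Finset.sum_range_succ, Nat.even_iff]
        · rw [← mul_div_assoc]
          exact div_le_div_of_nonneg_left (mul_nonneg hy0 n1) (by linarith) (by linarith)
      obtain ⟨k, hk⟩ := ho
      have e1 : s⁻¹ ^ (e + 2) ≤ (1 / 3) ^ ((e + 1 + 1) / 2) := by
        rw [show (e + 1 + 1) / 2 = k + 1 by omega, show e + 2 = 2 * (k + 1) by omega]; exact pow_bounds hq hs hsq _
      have e2 : s⁻¹ ^ e ≤ (1 / 3) ^ ((e + 1) / 2) := by
        rw [show (e + 1) / 2 = k by omega, show e = 2 * k by omega]; exact pow_bounds hq hs hsq _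
      have hB0 : 0 ≤ p.p1 Y / (1 - (1 / 3) ^ e) := div_nonneg n1 (by linarith)
      refine (K_step_odd hs hz1 hz2 ⟨k, hk⟩ ih hA hB m).trans (bd_mono hs ?_ ?_ m)
      · refine (add_le_add le_rfl (mul_le_mul_of_nonneg_right (mul_le_mul_of_nonneg_left e1 hB0) hz2)).trans
          (le_of_eq ?_)
        ring
      · refine (add_le_add le_rfl (mul_le_mul_of_nonneg_right (mul_le_mul_of_nonneg_left e2 hB0) hz1)).trans
          (le_of_eq ?_)
        ring
    · rw [if_neg ho, div_eq_mul_one_div, div_eq_mul_one_div (TP p a b e).2, mul_comm _ (1 / _), mul_comm _ (1 / _)]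
      refine K_step_even hs hz1 hz2 ho ih (fun k => ?_) m
      rw [heven _ ho]
      exact (cE_series hy0 (by linarith) k).trans (div_le_div_of_nonneg_left zero_le_one (by linarith) (by linarith))

/-! ### The exponent two -/

theorem K_two_eq (c : ℕ → ℕ → ℕ) (hc : c 2 = cE q) (m : ℕ) :
    K c 2 (m + 4) = c 1 (m + 4) + q * K c 2 m := by
  rw [show K c 2 (m + 4) = ∑ d ∈ Finset.range ((m + 4) / 2 + 1), c 2 d * K c 1 (m + 4 - 2 * d) from rfl,
    show K c 2 m = ∑ d ∈ Finset.range (m / 2 + 1), c 2 d * K c 1 (m - 2 * d) from rfl,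
    show (m + 4) / 2 + 1 = m / 2 + 1 + 1 + 1 by omega, Finset.sum_range_succ', Finset.sum_range_succ',
    Finset.mul_sum, hc]
  have e0 : cE q 0 = 1 := by simp [cE]
  have e1 : cE q (0 + 1) = 0 := by simp [cE]
  rw [e0, e1, Nat.zero_mul, Nat.add_zero, Nat.one_mul, K_one, Nat.mul_zero, Nat.sub_zero, add_comm]
  congr 1
  refine Finset.sum_congr rfl fun d _ => ?_
  rw [cE, cE, show (d + 1 + 1) / 2 = d / 2 + 1 by omega, show m + 4 - 2 * (d + 1 + 1) = m - 2 * d by omega,
    if_congr (even_add_two d) rfl rfl]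
  split_ifs <;> ring

theorem pow_even (hsq : s ^ 2 = q) (j : ℕ) : s ^ (2 * j) = (q : ℝ) ^ j := by rw [pow_mul, hsq]

theorem bd_even (hsq : s ^ 2 = q) (z : ℝ × ℝ) (j : ℕ) : bd s z (2 * j) = (q : ℝ) ^ j * z.1 := by
  rw [bd, if_pos (even_two_mul j), pow_even hsq]

theorem bd_odd (hs : 0 < s) (hsq : s ^ 2 = q) (z : ℝ × ℝ) (j : ℕ) : bd s z (2 * j + 1) = (q : ℝ) ^ j * z.2 := by
  rw [bd, if_neg (Nat.not_even_iff_odd.2 (odd_two_mul_add_one j)), pow_succ, pow_even hsq]
  field_simp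

theorem base_le (hs : 0 < s) (hsq : s ^ 2 = q) {c : ℕ → ℕ → ℕ} (hc : c 2 = cE q) {a b : ℝ}
    (h0 : (c 1 0 : ℝ) ≤ a) (h1 : (c 1 1 : ℝ) ≤ b) (h2 : (c 1 2 : ℝ) ≤ q * a) (h3 : (c 1 3 : ℝ) ≤ q * b)
    (he : ∀ j, (c 1 (2 * j + 4) : ℝ) + q * ((q : ℝ) ^ j * a) ≤ (q : ℝ) ^ (j + 2) * a)
    (ho : ∀ j, (c 1 (2 * j + 5) : ℝ) + q * ((q : ℝ) ^ j * b) ≤ (q : ℝ) ^ (j + 2) * b) :
    ∀ m, (K c 2 m : ℝ) ≤ bd s (a, b) m := by
  have small : ∀ m, m < 4 → K c 2 m = c 1 m := by
    intro m hm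
    rw [show K c 2 m = ∑ d ∈ Finset.range (m / 2 + 1), c 2 d * K c 1 (m - 2 * d) from rfl, Finset.sum_range_succ',
      Finset.sum_eq_zero fun d hd => ?_, hc, K_one]
    · simp [cE]
    · have := Finset.mem_range.1 hd
      rw [hc, show d + 1 = 1 by omega]
      simp [cE]
  intro m
  induction m using Nat.strong_induction_on with
  | _ m ih =>
    match m with
    | 0 => rw [small 0 (by omega), show (0 : ℕ) = 2 * 0 from rfl, bd_even hsq]; simpa using h0
    | 1 => rw [small 1 (by omega), show (1 : ℕ) = 2 * 0 + 1 from rfl, bd_odd hs hsq]; simpa using h1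
    | 2 => rw [small 2 (by omega), show (2 : ℕ) = 2 * 1 from rfl, bd_even hsq]; simpa using h2
    | 3 => rw [small 3 (by omega), show (3 : ℕ) = 2 * 1 + 1 from rfl, bd_odd hs hsq]; simpa using h3
    | m + 4 =>
      rw [K_two_eq c hc]
      push_cast
      have hi := ih m (by omega)
      rcases Nat.even_or_odd' m with ⟨j, rfl | rfl⟩
      · rw [bd_even hsq] at hi
        rw [show 2 * j + 4 = 2 * (j + 2) by ring, bd_even hsq]
        have := he j
        rw [show 2 * j + 4 = 2 * (j + 2) by ring] at this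
        nlinarith [mul_le_mul_of_nonneg_left hi (Nat.cast_nonneg (α := ℝ) q)]
      · rw [bd_odd hs hsq] at hi
        rw [show 2 * j + 1 + 4 = 2 * (j + 2) + 1 by ring, bd_odd hs hsq]
        have := ho j
        rw [show 2 * j + 5 = 2 * (j + 2) + 1 by ring] at this
        nlinarith [mul_le_mul_of_nonneg_left hi (Nat.cast_nonneg (α := ℝ) q)]

theorem ww_closed : ∀ j, ww q (2 * j + 4) = q ^ j * (q ^ 2 + 6 * q + 1) ∧ ww q (2 * j + 5) = q ^ j * (4 * q ^ 2 + 4 * q)
  | 0 => by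
    have : Nat.choose 4 2 = 6 := by decide
    have : Nat.choose 4 3 = 4 := by decide
    have : Nat.choose 4 4 = 1 := by decide
    have : Nat.choose 4 5 = 0 := by decide
    constructor <;> simp [ww, *] <;> ring
  | j + 1 => by
    obtain ⟨h1, h2⟩ := ww_closed j
    refine ⟨?_, ?_⟩
    · rw [show 2 * (j + 1) + 4 = 2 * j + 4 + 2 by ring, ww, h1, Nat.choose_eq_zero_of_lt (by omega)]; ring
    · rw [show 2 * (j + 1) + 5 = 2 * j + 5 + 2 by ring, ww, h2, Nat.choose_eq_zero_of_lt (by omega)]; ring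

theorem K_all_odd (hq : 3 ≤ q) {n : ℕ} (hn : 1 ≤ n) :
    (K (cO q) (n + n + 1) (n + n + 1) : ℝ) ≤ (q : ℝ) ^ n * (2845 / 100) := by
  have hq' : (3 : ℝ) ≤ q := by exact_mod_cast hq
  have hs : 0 < Real.sqrt q := Real.sqrt_pos.2 (by linarith)
  have hsq : Real.sqrt q ^ 2 = q := Real.sq_sqrt (Nat.cast_nonneg q)
  have hC := (fun d => show (cO q 1 d) = ww q d by rw [cO, if_pos odd_one])
  have hbase : ∀ m, (K (cO q) 2 m : ℝ) ≤ bd (Real.sqrt q) (14 / 3, 8) m := by
    refine base_le hs hsq (funext fun d => by rw [cO, if_neg (by decide)]) ?_ ?_ ?_ ?_ (fun j => ?_) (fun j => ?_) <;>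
      rw [hC]
    · norm_num [ww]
    · norm_num [ww]
    · norm_num [ww, show Nat.choose 4 2 = 6 by decide]; linarith
    · norm_num [ww, show Nat.choose 4 3 = 4 by decide]; linarith
    · rw [(ww_closed j).1]
      push_cast
      have : (0 : ℝ) ≤ (q : ℝ) ^ j := by positivity
      rw [pow_add]
      nlinarith [mul_nonneg this (show (0:ℝ) ≤ (q : ℝ) ^ 2 * (14 / 3) - (q ^ 2 + 6 * q + 1) - q * (14 / 3) by nlinarith)]
    · rw [(ww_closed j).2]
      push_cast
      have : (0 : ℝ) ≤ (q : ℝ) ^ j := by positivity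
      rw [pow_add]
      nlinarith [mul_nonneg this (show (0:ℝ) ≤ (q : ℝ) ^ 2 * 8 - (4 * q ^ 2 + 4 * q) - q * 8 by nlinarith)]
  have h := K_par_le hq hs hsq (c := cO q) (f := ww q) (t := fun d => (Nat.choose 4 d : ℝ)) pA_nonneg
    (by norm_num) (by norm_num) (fun e he => funext fun d => by rw [cO, if_pos he])
    (fun e he => funext fun d => by rw [cO, if_neg he]) (fun d => by rw [ww]; push_cast; ring)
    (fun d hd => by simp [Nat.choose_eq_zero_of_lt (show 4 < d by omega)]) (by simp [ww]) (by simp [ww])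
    (fun y Y hy hY => by
      simp only [pA]
      norm_num [show Nat.choose 4 2 = 6 by decide, show Nat.choose 4 4 = 1 by decide]
      nlinarith [sq_nonneg y])
    (fun y Y hy hY => by
      simp only [pA]
      norm_num [show Nat.choose 4 3 = 4 by decide]
      nlinarith [mul_le_mul_of_nonneg_left hY hy])
    hbase (n + n + 1) (by omega) (n + n + 1)
  rw [← two_mul n] at h ⊢
  rw [bd_odd hs hsq] at h
  exact h.trans (mul_le_mul_of_nonneg_left (TPA_le (by omega)) (by positivity))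

/-- The tail of `zz`. -/
def tz : ℕ → ℝ
  | 0 => 1
  | 1 => 2
  | 3 => -2
  | 4 => -1
  | _ => 0

theorem zz_closed (j : ℕ) : zz q (2 * j + 4) = (q - 1) * q ^ (j + 1) + (q - 1) * q ^ j ∧
    zz q (2 * j + 5) = (q - 1) * q ^ (j + 1) + (q - 1) * q ^ (j + 1) := by
  constructor <;> rw [zz, if_neg (by omega)]
  · rw [show (2 * j + 4) / 2 = j + 2 by omega, show (2 * j + 4 - 1) / 2 = j + 1 by omega, nr, nr, if_neg (by omega),
      if_neg (by omega)]
    rfl
  · rw [show (2 * j + 5) / 2 = j + 2 by omega, show (2 * j + 5 - 1) / 2 = j + 2 by omega, nr, if_neg (by omega)]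
    rfl

theorem zz_small : zz q 0 = 1 ∧ zz q 1 = 2 ∧ zz q 2 = (q - 1) + 1 ∧ zz q 3 = (q - 1) + (q - 1) := by
  simp [zz, nr]

theorem zz_rec (hq : 3 ≤ q) : ∀ d, (zz q (d + 2) : ℝ) = q * zz q d + tz (d + 2) := by
  obtain ⟨h0, h1, h2, h3⟩ := zz_small (q := q)
  have hcast : (((q - 1 : ℕ)) : ℝ) = (q : ℝ) - 1 := by rw [Nat.cast_sub (by omega)]; simp
  intro d
  match d with
  | 0 => rw [h2, h0]; push_cast [hcast]; simp [tz]
  | 1 => rw [h3, h1]; push_cast [hcast]; simp [tz]; ring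
  | 2 => rw [show (2 : ℕ) + 2 = 2 * 0 + 4 from rfl, (zz_closed 0).1, h2]; push_cast [hcast]; simp [tz]; ring
  | 3 => rw [show (3 : ℕ) + 2 = 2 * 0 + 5 from rfl, (zz_closed 0).2, h3]; push_cast [hcast]; simp [tz]; ring
  | d + 4 =>
    rw [show tz (d + 4 + 2) = 0 from rfl, add_zero]
    rcases Nat.even_or_odd' d with ⟨j, rfl | rfl⟩
    · rw [show 2 * j + 4 + 2 = 2 * (j + 1) + 4 by ring, (zz_closed (j + 1)).1, (zz_closed j).1]
      push_cast; ring
    · rw [show 2 * j + 1 + 4 + 2 = 2 * (j + 1) + 5 by ring, (zz_closed (j + 1)).2,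
        show 2 * j + 1 + 4 = 2 * j + 5 by ring, (zz_closed j).2]
      push_cast; ring

theorem K_nominus_odd (hq : 3 ≤ q) {n : ℕ} (hn : 1 ≤ n) :
    (K (cN q) (n + n + 1) (n + n + 1) : ℝ) ≤ (q : ℝ) ^ n * (423 / 100) := by
  have hq' : (3 : ℝ) ≤ q := by exact_mod_cast hq
  have hs : 0 < Real.sqrt q := Real.sqrt_pos.2 (by linarith)
  have hsq : Real.sqrt q ^ 2 = q := Real.sq_sqrt (Nat.cast_nonneg q)
  obtain ⟨z0, z1, z2, z3⟩ := zz_small (q := q)
  have hcast : (((q - 1 : ℕ)) : ℝ) = (q : ℝ) - 1 := by rw [Nat.cast_sub (by omega)]; simp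
  have hC := (fun d => show (cN q 1 d) = zz q d by rw [cN, if_pos odd_one])
  have hbase : ∀ m, (K (cN q) 2 m : ℝ) ≤ bd (Real.sqrt q) (4 / 3, 2) m := by
    refine base_le hs hsq (funext fun d => by rw [cN, if_neg (by decide)]) ?_ ?_ ?_ ?_ (fun j => ?_) (fun j => ?_) <;>
      rw [hC]
    · rw [z0]; norm_num
    · rw [z1]; norm_num
    · rw [z2]; push_cast [hcast]; linarith
    · rw [z3]; push_cast [hcast]; linarith
    · rw [(zz_closed j).1]
      push_cast [hcast]
      have : (0 : ℝ) ≤ (q : ℝ) ^ j := by positivity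
      rw [pow_add, pow_add]
      nlinarith [mul_nonneg this (show (0:ℝ) ≤ (q : ℝ) ^ 2 * (4 / 3) - ((q : ℝ) - 1) * q - ((q : ℝ) - 1) - q * (4 / 3)
        by nlinarith)]
    · rw [(zz_closed j).2]
      push_cast [hcast]
      rw [pow_add, pow_add]
      ring_nf
      rfl
  have h := K_par_le hq hs hsq (c := cN q) (f := zz q) (t := tz) pN_nonneg
    (by norm_num) (by norm_num) (fun e he => funext fun d => by rw [cN, if_pos he])
    (fun e he => funext fun d => by rw [cN, if_neg he]) (zz_rec hq)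
    (fun d hd => by
      obtain ⟨k, rfl⟩ := Nat.exists_eq_add_of_le hd
      rw [show 5 + k = k + 5 by omega]; rfl)
    (by rw [z0]; simp [tz]) (by rw [z1]; simp [tz])
    (fun y Y hy hY => by simp only [pN, tz]; nlinarith [sq_nonneg (y ^ 2)])
    (fun y Y hy hY => by simp only [pN, tz]; nlinarith [pow_nonneg hy 3])
    hbase (n + n + 1) (by omega) (n + n + 1)
  rw [← two_mul n] at h ⊢
  rw [bd_odd hs hsq] at h
  exact h.trans (mul_le_mul_of_nonneg_left (TPN_le (by omega)) (by positivity))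

end

end Cfsg.Agent.Lib.Elem70.ClassesO
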