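import Cfsg.Agent.Lib.Elem70.ClassesO.Count

/-!
Counting the codes in odd dimension: bounds which keep track of the parity of the weight.
-/

set_option autoImplicit false
set_option linter.unusedSectionVars false
set_option linter.style.haveILetI false

namespace Cfsg.Agent.Lib.Elem70.ClassesO

open Polynomial
open Cfsg.Agent.Lib.ClassesSp (SD FlC EP card_EP ww)

universe u

/-- Bounds for the even and odd parts of the numerator of a series. -/
structure Num where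
  p0 : ℝ → ℝ
  p1 : ℝ → ℝ

/-- The numerators with flags. -/
noncomputable def pA : Num := ⟨fun Y => 1 + 6 * Y + Y ^ 2, fun Y => 4 + 4 * Y⟩

/-- The numerators without a root `-1`. -/
noncomputable def pN : Num := ⟨fun _ => 1, fun _ => 2⟩

/-- Non-negative on non-negative arguments. -/
def Num.Nonneg (p : Num) : Prop := ∀ Y, 0 ≤ Y → 0 ≤ p.p0 Y ∧ 0 ≤ p.p1 Y

theorem pA_nonneg : pA.Nonneg := fun Y hY => ⟨by simp only [pA]; positivity, by simp only [pA]; positivity⟩

theorem pN_nonneg : pN.Nonneg := fun _ _ => ⟨zero_le_one, zero_le_two⟩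

/-- Passing to the exponent `e`. -/
noncomputable def stepP (p : Num) (e : ℕ) (z : ℝ × ℝ) : ℝ × ℝ :=
  if Odd e then
    ((p.p0 ((1 / 3) ^ e) * z.1 + p.p1 ((1 / 3) ^ e) * (1 / 3) ^ ((e + 1) / 2) * z.2) / (1 - (1 / 3) ^ (e - 1)),
      (p.p0 ((1 / 3) ^ e) * z.2 + p.p1 ((1 / 3) ^ e) * (1 / 3) ^ (e / 2) * z.1) / (1 - (1 / 3) ^ (e - 1)))
  else (z.1 / (1 - (1 / 3) ^ (e - 1)), z.2 / (1 - (1 / 3) ^ (e - 1)))

/-- The growth constants for the two parities, from `(a, b)` at the exponent two. -/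
noncomputable def TP (p : Num) (a b : ℝ) : ℕ → ℝ × ℝ
  | 0 => (a, b)
  | e + 1 => if e < 2 then (a, b) else stepP p (e + 1) (TP p a b e)

theorem TP_succ (p : Num) (a b : ℝ) {e : ℕ} (he : 2 ≤ e) : TP p a b (e + 1) = stepP p (e + 1) (TP p a b e) := by
  rw [TP, if_neg (by omega)]

theorem stepP_nonneg {p : Num} (hp : p.Nonneg) {e : ℕ} (he : 2 ≤ e) {z : ℝ × ℝ} (h1 : 0 ≤ z.1) (h2 : 0 ≤ z.2) :
    0 ≤ (stepP p e z).1 ∧ 0 ≤ (stepP p e z).2 := by
  have hd : (0 : ℝ) ≤ 1 - (1 / 3) ^ (e - 1) := by linarith [third_lt_one (show e - 1 ≠ 0 by omega)]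
  obtain ⟨h3, h4⟩ := hp ((1 / 3) ^ e) (by positivity)
  rw [stepP]
  split_ifs <;> constructor <;> positivity

theorem TP_nonneg {p : Num} (hp : p.Nonneg) {a b : ℝ} (ha : 0 ≤ a) (hb : 0 ≤ b) :
    ∀ e, 0 ≤ (TP p a b e).1 ∧ 0 ≤ (TP p a b e).2
  | 0 => ⟨ha, hb⟩
  | e + 1 => by
    rw [TP]
    split_ifs with h
    · exact ⟨ha, hb⟩
    · exact stepP_nonneg hp (by omega) (TP_nonneg hp ha hb e).1 (TP_nonneg hp ha hb e).2

theorem TP_succ_le {p : Num} (hp : p.Nonneg) {a b : ℝ} (_ha : 0 ≤ a) (_hb : 0 ≤ b) {e : ℕ} {u v u' v' : ℝ}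
    (he : 2 ≤ e) (h : (TP p a b e).1 ≤ u ∧ (TP p a b e).2 ≤ v)
    (h1 : (stepP p (e + 1) (u, v)).1 ≤ u') (h2 : (stepP p (e + 1) (u, v)).2 ≤ v') :
    (TP p a b (e + 1)).1 ≤ u' ∧ (TP p a b (e + 1)).2 ≤ v' := by
  have hd : (0 : ℝ) < 1 - (1 / 3) ^ (e + 1 - 1) := by linarith [third_lt_one (show e + 1 - 1 ≠ 0 by omega)]
  obtain ⟨h3, h4⟩ := hp ((1 / 3) ^ (e + 1)) (by positivity)
  obtain ⟨hu, hv⟩ := h
  rw [TP_succ p a b he]
  rw [stepP] at h1 h2 ⊢
  split_ifs at h1 h2 ⊢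
  · simp only at h1 h2 ⊢
    exact ⟨le_trans (by gcongr) h1, le_trans (by gcongr) h2⟩
  · simp only at h1 h2 ⊢
    exact ⟨le_trans (by gcongr) h1, le_trans (by gcongr) h2⟩

theorem scal_step {p : Num} (hp : p.Nonneg) (hp' : ∀ Y, 0 ≤ Y → p.p0 Y ≤ 1 + 6 * Y + Y ^ 2 ∧ p.p1 Y ≤ 4 + 4 * Y)
    (hp1 : ∀ Y, 0 ≤ Y → 1 ≤ p.p0 Y)
    {e : ℕ} (he : 13 ≤ e) {z : ℝ × ℝ} (h1 : 0 ≤ z.1) (h2 : 0 ≤ z.2) :
    (stepP p (e + 1) z).2 - z.2 ≤
        (1733 / 1000 * (stepP p (e + 1) z).1 + (stepP p (e + 1) z).2) - (1733 / 1000 * z.1 + z.2) ∧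
      (1733 / 1000 * (stepP p (e + 1) z).1 + (stepP p (e + 1) z).2) * (1 - ((1 / 3) ^ e)) ≤
        (1733 / 1000 * z.1 + z.2) *
          (1 + 2.32 * (5774 / 10000) ^ e + 3 * ((5774 / 10000 : ℝ) ^ e) ^ 2) := by
  have hzl := third_lt_one (show e ≠ 0 by omega)
  set w : ℝ := (1 / 3) ^ e with hw
  set y : ℝ := (5774 / 10000) ^ e with hy
  have hy0 : 0 < y := by positivity
  have hw0 : 0 < w := by positivity
  have hy1 : y ≤ 1 / 1000 := by
    rw [hy]; exact (pow_le_pow_of_le_one (by norm_num) (by norm_num) he).trans (by norm_num)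
  have hwy : w ≤ y ^ 2 := by
    rw [hw, hy, ← pow_mul, mul_comm, pow_mul]
    exact pow_le_pow_left₀ (by norm_num) (by norm_num) _
  rw [stepP, Nat.add_sub_cancel, ← hw]
  by_cases ho : Odd (e + 1)
  · rw [if_pos ho]
    simp only
    set Y : ℝ := (1 / 3) ^ (e + 1) with hY
    have hY0 : 0 ≤ Y := by positivity
    have hY1 : Y ≤ y ^ 2 := le_trans (by rw [hY, hw, pow_succ]; nlinarith) hwy
    obtain ⟨n0, n1⟩ := hp Y hY0
    obtain ⟨b0, b1⟩ := hp' Y hY0
    have one0 := hp1 Y hY0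
    obtain ⟨k, hk⟩ := ho
    have hw2 : ((1 : ℝ) / 3) ^ k ≤ y := by
      rw [hy, show e = k + k by omega, pow_add, ← mul_pow]
      exact pow_le_pow_left₀ (by norm_num) (by norm_num) _
    rw [show (e + 1 + 1) / 2 = k + 1 by omega, show (e + 1) / 2 = k by omega, pow_succ]
    set v : ℝ := (1 / 3) ^ k with hv
    have hv0 : 0 ≤ v := by positivity
    constructor
    · have e1 : 0 ≤ ((p.p0 Y * z.1 + p.p1 Y * (v * (1 / 3)) * z.2) / (1 - w) - z.1) := by
        rw [sub_nonneg, le_div_iff₀ (by linarith)]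
        nlinarith [mul_nonneg (mul_nonneg n1 hv0) h2]
      linarith
    · rw [add_mul, mul_assoc (1733 / 1000 : ℝ), div_mul_cancel₀ _ (by linarith), div_mul_cancel₀ _ (by linarith)]
      have hA : p.p0 Y ≤ 1 + 7 * y ^ 2 := by
        nlinarith [mul_le_mul_of_nonneg_left (show Y ≤ 1 by nlinarith) hY0]
      have hB : p.p1 Y ≤ 4 + 4 * y ^ 2 := by nlinarith
      have hB1 : p.p1 Y * v ≤ (4 + 4 * y ^ 2) * y := mul_le_mul hB hw2 hv0 (by positivity)
      have hF : p.p0 Y + p.p1 Y * v * (5778 / 10000) ≤ 1 + 2.32 * y + 3 * y ^ 2 := by nlinarith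
      have q1 : 1733 / 1000 * (p.p1 Y * (v * (1 / 3)) * z.2) + p.p1 Y * v * z.1 ≤
          p.p1 Y * v * (5778 / 10000) * (1733 / 1000 * z.1 + z.2) := by
        nlinarith [mul_nonneg (mul_nonneg n1 hv0) h1, mul_nonneg (mul_nonneg n1 hv0) h2]
      nlinarith [mul_le_mul_of_nonneg_right hF (show 0 ≤ 1733 / 1000 * z.1 + z.2 by positivity)]
  · rw [if_neg ho]
    simp only
    constructor
    · have e1 : z.1 ≤ z.1 / (1 - w) := by rw [le_div_iff₀ (by linarith)]; nlinarith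
      linarith
    · rw [add_mul, mul_assoc (1733 / 1000 : ℝ), div_mul_cancel₀ _ (by linarith), div_mul_cancel₀ _ (by linarith)]
      exact le_mul_of_one_le_right (by positivity) (by nlinarith)

theorem TP_tail {p : Num} (hp : p.Nonneg) (hp' : ∀ Y, 0 ≤ Y → p.p0 Y ≤ 1 + 6 * Y + Y ^ 2 ∧ p.p1 Y ≤ 4 + 4 * Y)
    (hp1 : ∀ Y, 0 ≤ Y → 1 ≤ p.p0 Y) {a b C : ℝ} (ha : 0 ≤ a) (hb : 0 ≤ b) (hC : 0 ≤ C)
    (h13 : 1733 / 1000 * (TP p a b 13).1 + (TP p a b 13).2 ≤ C * (1 - 7 * (5774 / 10000) ^ 13)) :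
    ∀ e, 13 ≤ e → (TP p a b e).2 ≤ C - 1733 / 1000 * (TP p a b 13).1 := by
  suffices key : ∀ e, 13 ≤ e →
      1733 / 1000 * (TP p a b e).1 + (TP p a b e).2 ≤ C * (1 - 7 * (5774 / 10000) ^ e) ∧
      1733 / 1000 * (TP p a b 13).1 ≤ 1733 / 1000 * (TP p a b e).1 by
    intro e he
    obtain ⟨k1, k2⟩ := key e he
    have : (0 : ℝ) ≤ C * (5774 / 10000) ^ e := by positivity
    linarith
  intro e he
  induction e, he using Nat.le_induction with
  | base => exact ⟨h13, le_rfl⟩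
  | succ e he ih =>
    obtain ⟨h1, h2⟩ := TP_nonneg hp ha hb e
    obtain ⟨s1, s2⟩ := scal_step hp hp' hp1 he h1 h2
    rw [TP_succ p a b (by omega)]
    refine ⟨?_, by linarith⟩
    set y : ℝ := (5774 / 10000) ^ e with hy
    have hy0 : 0 < y := by positivity
    have hy1 : y ≤ 1 / 1000 := by
      rw [hy]; exact (pow_le_pow_of_le_one (by norm_num) (by norm_num) he).trans (by norm_num)
    have hw : ((1 : ℝ) / 3) ^ e ≤ y ^ 2 := by
      rw [hy, ← pow_mul, mul_comm, pow_mul]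
      exact pow_le_pow_left₀ (by norm_num) (by norm_num) _
    rw [pow_succ, ← hy]
    refine le_of_mul_le_mul_right ((s2.trans (mul_le_mul_of_nonneg_right ih.1 (by positivity))).trans ?_)
      (show 0 < 1 - ((1 : ℝ) / 3) ^ e by linarith [third_lt_one (show e ≠ 0 by omega)])
    calc C * (1 - 7 * y) * (1 + 2.32 * y + 3 * y ^ 2)
        ≤ C * ((1 - 7 * (y * (5774 / 10000))) * (1 - y ^ 2)) := by
          rw [mul_assoc]; refine mul_le_mul_of_nonneg_left ?_ hC; nlinarith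
      _ ≤ _ := by
          rw [mul_assoc]
          exact mul_le_mul_of_nonneg_left (mul_le_mul_of_nonneg_left (by linarith) (by nlinarith)) hC

theorem TPA_le {e : ℕ} (he : 2 ≤ e) : (TP pA (14 / 3) 8 e).2 ≤ 2845 / 100 := by
  have h2 : (TP pA (14 / 3) 8 2).1 ≤ 14 / 3 ∧
      (TP pA (14 / 3) 8 2).2 ≤ 8 := ⟨le_rfl, le_rfl⟩
  have h3 := TP_succ_le pA_nonneg (by norm_num) (by norm_num) (u' := 1057202 / 100000) (v' := 1827161 / 100000) (by norm_num) h2 (by norm_num [stepP, pA, Nat.odd_iff]) (by norm_num [stepP, pA, Nat.odd_iff])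
  have h4 := TP_succ_le pA_nonneg (by norm_num) (by norm_num) (u' := 1097864 / 100000) (v' := 1897437 / 100000) (by norm_num) h3 (by norm_num [stepP, pA, Nat.odd_iff]) (by norm_num [stepP, pA, Nat.odd_iff])
  have h5 := TP_succ_le pA_nonneg (by norm_num) (by norm_num) (u' := 1424840 / 100000) (v' := 2464696 / 100000) (by norm_num) h4 (by norm_num [stepP, pA, Nat.odd_iff]) (by norm_num [stepP, pA, Nat.odd_iff])
  have h6 := TP_succ_le pA_nonneg (by norm_num) (by norm_num) (u' := 1430728 / 100000) (v' := 2474881 / 100000) (by norm_num) h5 (by norm_num [stepP, pA, Nat.odd_iff]) (by norm_num [stepP, pA, Nat.odd_iff])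
  have h7 := TP_succ_le pA_nonneg (by norm_num) (by norm_num) (u' := 1559065 / 100000) (v' := 2697429 / 100000) (by norm_num) h6 (by norm_num [stepP, pA, Nat.odd_iff]) (by norm_num [stepP, pA, Nat.odd_iff])
  have h8 := TP_succ_le pA_nonneg (by norm_num) (by norm_num) (u' := 1559779 / 100000) (v' := 2698663 / 100000) (by norm_num) h7 (by norm_num [stepP, pA, Nat.odd_iff]) (by norm_num [stepP, pA, Nat.odd_iff])
  have h9 := TP_succ_le pA_nonneg (by norm_num) (by norm_num) (u' := 1604924 / 100000) (v' := 2776939 / 100000) (by norm_num) h8 (by norm_num [stepP, pA, Nat.odd_iff]) (by norm_num [stepP, pA, Nat.odd_iff])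
  have h10 := TP_succ_le pA_nonneg (by norm_num) (by norm_num) (u' := 1605006 / 100000) (v' := 2777081 / 100000) (by norm_num) h9 (by norm_num [stepP, pA, Nat.odd_iff]) (by norm_num [stepP, pA, Nat.odd_iff])
  have h11 := TP_succ_le pA_nonneg (by norm_num) (by norm_num) (u' := 1620326 / 100000) (v' := 2803643 / 100000) (by norm_num) h10 (by norm_num [stepP, pA, Nat.odd_iff]) (by norm_num [stepP, pA, Nat.odd_iff])
  have h12 := TP_succ_le pA_nonneg (by norm_num) (by norm_num) (u' := 1620336 / 100000) (v' := 2803659 / 100000) (by norm_num) h11 (by norm_num [stepP, pA, Nat.odd_iff]) (by norm_num [stepP, pA, Nat.odd_iff])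
  have h13 := TP_succ_le pA_nonneg (by norm_num) (by norm_num) (u' := 1625474 / 100000) (v' := 2812566 / 100000) (by norm_num) h12 (by norm_num [stepP, pA, Nat.odd_iff]) (by norm_num [stepP, pA, Nat.odd_iff])
  rcases Nat.lt_or_ge e 13 with h | h
  · interval_cases e <;> linarith [h2.2, h3.2, h4.2, h5.2, h6.2, h7.2, h8.2, h9.2, h10.2, h11.2, h12.2]
  · have h0 := TP_tail pA_nonneg (fun Y _ => ⟨le_rfl, le_rfl⟩)
      (fun Y hY => by simp only [pA]; nlinarith) (C := 5661 / 100) (a := 14 / 3) (b := 8) (by norm_num) (by norm_num)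
      (by norm_num) (by norm_num; linarith [h13.1, h13.2]) e h
    have hlow : (16 : ℝ) + 1 / 4 ≤ (TP pA (14 / 3) 8 13).1 := by norm_num [TP, stepP, pA, Nat.odd_iff]
    linarith

theorem TPN_le {e : ℕ} (he : 2 ≤ e) : (TP pN (4 / 3) 2 e).2 ≤ 423 / 100 := by
  have h2 : (TP pN (4 / 3) 2 2).1 ≤ 4 / 3 ∧
      (TP pN (4 / 3) 2 2).2 ≤ 2 := ⟨le_rfl, le_rfl⟩
  have h3 := TP_succ_le pN_nonneg (by norm_num) (by norm_num) (u' := 200000 / 100000) (v' := 325000 / 100000) (by norm_num) h2 (by norm_num [stepP, pN, Nat.odd_iff]) (by norm_num [stepP, pN, Nat.odd_iff])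
  have h4 := TP_succ_le pN_nonneg (by norm_num) (by norm_num) (u' := 207693 / 100000) (v' := 337500 / 100000) (by norm_num) h3 (by norm_num [stepP, pN, Nat.odd_iff]) (by norm_num [stepP, pN, Nat.odd_iff])
  have h5 := TP_succ_le pN_nonneg (by norm_num) (by norm_num) (u' := 235602 / 100000) (v' := 388450 / 100000) (by norm_num) h4 (by norm_num [stepP, pN, Nat.odd_iff]) (by norm_num [stepP, pN, Nat.odd_iff])
  have h6 := TP_succ_le pN_nonneg (by norm_num) (by norm_num) (u' := 236576 / 100000) (v' := 390056 / 100000) (by norm_num) h5 (by norm_num [stepP, pN, Nat.odd_iff]) (by norm_num [stepP, pN, Nat.odd_iff])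
  have h7 := TP_succ_le pN_nonneg (by norm_num) (by norm_num) (u' := 246546 / 100000) (v' := 408141 / 100000) (by norm_num) h6 (by norm_num [stepP, pN, Nat.odd_iff]) (by norm_num [stepP, pN, Nat.odd_iff])
  have h8 := TP_succ_le pN_nonneg (by norm_num) (by norm_num) (u' := 246659 / 100000) (v' := 408328 / 100000) (by norm_num) h7 (by norm_num [stepP, pN, Nat.odd_iff]) (by norm_num [stepP, pN, Nat.odd_iff])
  have h9 := TP_succ_le pN_nonneg (by norm_num) (by norm_num) (u' := 250058 / 100000) (v' := 414482 / 100000) (by norm_num) h8 (by norm_num [stepP, pN, Nat.odd_iff]) (by norm_num [stepP, pN, Nat.odd_iff])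
  have h10 := TP_succ_le pN_nonneg (by norm_num) (by norm_num) (u' := 250071 / 100000) (v' := 414504 / 100000) (by norm_num) h9 (by norm_num [stepP, pN, Nat.odd_iff]) (by norm_num [stepP, pN, Nat.odd_iff])
  have h11 := TP_succ_le pN_nonneg (by norm_num) (by norm_num) (u' := 251213 / 100000) (v' := 416570 / 100000) (by norm_num) h10 (by norm_num [stepP, pN, Nat.odd_iff]) (by norm_num [stepP, pN, Nat.odd_iff])
  have h12 := TP_succ_le pN_nonneg (by norm_num) (by norm_num) (u' := 251215 / 100000) (v' := 416573 / 100000) (by norm_num) h11 (by norm_num [stepP, pN, Nat.odd_iff]) (by norm_num [stepP, pN, Nat.odd_iff])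
  have h13 := TP_succ_le pN_nonneg (by norm_num) (by norm_num) (u' := 251597 / 100000) (v' := 417263 / 100000) (by norm_num) h12 (by norm_num [stepP, pN, Nat.odd_iff]) (by norm_num [stepP, pN, Nat.odd_iff])
  rcases Nat.lt_or_ge e 13 with h | h
  · interval_cases e <;> linarith [h2.2, h3.2, h4.2, h5.2, h6.2, h7.2, h8.2, h9.2, h10.2, h11.2, h12.2]
  · have h0 := TP_tail pN_nonneg (fun Y hY => ⟨by simp only [pN]; nlinarith, by simp only [pN]; linarith⟩)
      (fun Y _ => le_rfl) (C := 8581 / 1000) (a := 4 / 3) (b := 2) (by norm_num) (by norm_num)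
      (by norm_num) (by norm_num; linarith [h13.1, h13.2]) e h
    have hlow : (2515 : ℝ) / 1000 ≤ (TP pN (4 / 3) 2 13).1 := by norm_num [TP, stepP, pN, Nat.odd_iff]
    linarith

end Cfsg.Agent.Lib.Elem70.ClassesO
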