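import Mathlib

/-!
Conjugacy classes of a subgroup of index two.
-/

set_option autoImplicit false
set_option linter.style.haveILetI false

namespace Cfsg.Agent.Lib.Elem70.ClassesO

variable {H : Type*} [Group H] [Finite H] (K : Subgroup H)

/-- The classes meeting `K`. -/
abbrev InCls : Type _ := {C : ConjClasses H // ∃ x ∈ K, ConjClasses.mk x = C}

theorem card_comm_fst_mem [K.Normal] :
    Nat.card {p : H × H // Commute p.1 p.2 ∧ p.1 ∈ K} = Nat.card (InCls K) * Nat.card H := by
  classical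
  haveI := Fintype.ofFinite H
  haveI : ∀ C : ConjClasses H, Fintype C.carrier := fun C => Fintype.ofFinite _
  haveI := Fintype.ofFinite (InCls K)
  let π : {p : H × H // Commute p.1 p.2 ∧ p.1 ∈ K} → InCls K := fun p => ⟨ConjClasses.mk p.1.1, p.1.1, p.2.2, rfl⟩
  rw [Nat.card_congr (Equiv.sigmaFiberEquiv π).symm, Nat.card_sigma, mul_comm]
  refine Eq.trans (Finset.sum_congr rfl fun C _ => ?_) ((Finset.sum_const (Nat.card H)).trans (by
    rw [smul_eq_mul, mul_comm, Finset.card_univ, ← Nat.card_eq_fintype_card]))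
  obtain ⟨C, x, hxK, rfl⟩ := C
  have e : {p : {p : H × H // Commute p.1 p.2 ∧ p.1 ∈ K} // π p = ⟨ConjClasses.mk x, x, hxK, rfl⟩} ≃
      (y : (ConjClasses.mk x).carrier) × {z : H // Commute y.1 z} :=
    { toFun := fun p => ⟨⟨p.1.1.1, ConjClasses.mem_carrier_iff_mk_eq.2 (congrArg Subtype.val p.2)⟩, p.1.1.2, p.1.2.1⟩
      invFun := fun p => ⟨⟨(p.1.1, p.2.1), p.2.2, by
          obtain ⟨c, hc⟩ := isConj_iff.1 (ConjClasses.mk_eq_mk_iff_isConj.1
            (ConjClasses.mem_carrier_iff_mk_eq.1 p.1.2)).symm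
          exact (congrArg (· ∈ K) hc).mp (‹K.Normal›.conj_mem _ hxK c)⟩,
        Subtype.ext (ConjClasses.mem_carrier_iff_mk_eq.1 p.1.2)⟩
      left_inv := fun p => rfl
      right_inv := fun p => rfl }
  rw [Nat.card_congr e, Nat.card_sigma]
  have hcen : ∀ y : (ConjClasses.mk x).carrier, Nat.card {z : H // Commute y.1 z} = Nat.card {z : H // Commute x z} := by
    rintro ⟨y, hy⟩
    obtain ⟨c, rfl⟩ := isConj_iff.1 (ConjClasses.mk_eq_mk_iff_isConj.1 (ConjClasses.mem_carrier_iff_mk_eq.1 hy)).symm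
    refine Nat.card_congr (Equiv.subtypeEquiv (MulAut.conj c).symm.toEquiv fun z => ?_)
    show Commute (c * x * c⁻¹) z ↔ Commute x (c⁻¹ * z * c)
    rw [Commute, SemiconjBy, Commute, SemiconjBy]
    constructor <;> intro h
    · have := congrArg (fun t => c⁻¹ * t * c) h
      simpa [mul_assoc] using this
    · have := congrArg (fun t => c * t * c⁻¹) h
      simpa [mul_assoc] using this
  rw [Finset.sum_congr rfl fun y _ => hcen y, Finset.sum_const, smul_eq_mul, Finset.card_univ,
    ← Nat.card_eq_fintype_card]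
  have hset : Nat.card {z : H // Commute x z} = Nat.card (MulAction.stabilizer (ConjAct H) x) :=
    Nat.card_congr (Equiv.subtypeEquiv ConjAct.toConjAct.toEquiv fun z => by
      show Commute x z ↔ ConjAct.toConjAct z ∈ MulAction.stabilizer (ConjAct H) x
      rw [MulAction.mem_stabilizer_iff, ConjAct.smul_def, mul_inv_eq_iff_eq_mul]
      exact ⟨fun h => h.symm, fun h => h.symm⟩)
  have horb : Nat.card (ConjClasses.mk x).carrier = (MulAction.stabilizer (ConjAct H) x).index := by
    rw [MulAction.index_stabilizer, ConjAct.orbit_eq_carrier_conjClasses]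
    exact Nat.card_coe_set_eq _
  rw [hset, horb, mul_comm, Subgroup.card_mul_index]
  exact Nat.card_congr ConjAct.ofConjAct.toEquiv

/-- `k(K) + k(H) = 3 a`, where `a` is the number of classes of `H` in `K`. -/
theorem card_classes_index_two (h : K.index = 2) :
    Nat.card (ConjClasses K) + Nat.card (ConjClasses H) = 3 * Nat.card (InCls K) ∧
      Nat.card (InCls K) ≤ Nat.card (ConjClasses K) := by
  classical
  haveI : K.Normal := Subgroup.normal_of_index_eq_two h
  haveI := Fintype.ofFinite H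
  have hmul : ∀ a b, a ∉ K → b ∈ K → a * b ∉ K := fun a b ha hb hab => ha ((K.mul_mem_cancel_right hb).1 hab)
  have hout : ∀ a b, a ∉ K → b ∉ K → a * b ∈ K := fun a b ha hb =>
    (Subgroup.mul_mem_iff_of_index_two h).2 (iff_of_false ha hb)
  let s : Finset (H × H) := Finset.univ.filter fun p => Commute p.1 p.2
  let P : (H × H → Prop) → ℕ := fun f => (s.filter f).card
  have hP : ∀ f : H × H → Prop, Nat.card {p : H × H // Commute p.1 p.2 ∧ f p} = P f := fun f => by
    rw [Nat.card_eq_fintype_card, Fintype.card_subtype]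
    simp [P, s, Finset.filter_filter]
  have h00 : Nat.card (ConjClasses K) * Nat.card K = P (fun p => p.1 ∈ K ∧ p.2 ∈ K) := by
    rw [← card_comm_eq_card_conjClasses_mul_card, ← hP]
    exact Nat.card_congr
      { toFun := fun p => ⟨(p.1.1.1, p.1.2.1), congrArg Subtype.val p.2.eq, p.1.1.2, p.1.2.2⟩
        invFun := fun p => ⟨(⟨p.1.1, p.2.2.1⟩, ⟨p.1.2, p.2.2.2⟩), Subtype.ext p.2.1⟩
        left_inv := fun p => rfl
        right_inv := fun p => rfl }
  have hfst : Nat.card (InCls K) * Nat.card H = P (fun p => p.1 ∈ K) := by rw [← card_comm_fst_mem K, hP]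
  have hall : Nat.card (ConjClasses H) * Nat.card H = s.card := by
    rw [← card_comm_eq_card_conjClasses_mul_card, Nat.card_eq_fintype_card, Fintype.card_subtype]
  have hsplit : P (fun p => p.1 ∈ K) =
      P (fun p => p.1 ∈ K ∧ p.2 ∈ K) + P (fun p => p.1 ∈ K ∧ p.2 ∉ K) := by
    simp only [P]
    rw [← Finset.card_filter_add_card_filter_not (s := s.filter fun p => p.1 ∈ K) (fun p => p.2 ∈ K)]
    simp [s, Finset.filter_filter, and_assoc]
    congr!
  have hswap : P (fun p => p.1 ∉ K ∧ p.2 ∈ K) = P (fun p => p.1 ∈ K ∧ p.2 ∉ K) := by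
    refine Finset.card_nbij' Prod.swap Prod.swap ?_ ?_ (fun p _ => Prod.swap_swap p) (fun p _ => Prod.swap_swap p)
    all_goals
      intro p hp
      simp only [Finset.coe_filter, Set.mem_ofPred_eq, s, Finset.mem_filter, Finset.mem_univ, true_and] at hp ⊢
      exact ⟨hp.1.symm, hp.2.2, hp.2.1⟩
  have hshear : P (fun p => p.1 ∉ K ∧ p.2 ∉ K) = P (fun p => p.1 ∉ K ∧ p.2 ∈ K) := by
    refine Finset.card_nbij' (fun p => (p.1, p.1 * p.2)) (fun p => (p.1, p.1⁻¹ * p.2)) ?_ ?_
      (fun p _ => by simp) (fun p _ => by simp)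
    all_goals
      intro p hp
      simp only [Finset.coe_filter, Set.mem_ofPred_eq, s, Finset.mem_filter, Finset.mem_univ, true_and] at hp ⊢
    · exact ⟨(Commute.refl p.1).mul_right hp.1, hp.2.1, hout _ _ hp.2.1 hp.2.2⟩
    · exact ⟨(Commute.refl p.1).inv_right.mul_right hp.1, hp.2.1,
        hmul _ _ (fun e => hp.2.1 (inv_mem_iff.1 e)) hp.2.2⟩
  have htot : s.card = P (fun p => p.1 ∈ K) + (P (fun p => p.1 ∉ K ∧ p.2 ∈ K) + P (fun p => p.1 ∉ K ∧ p.2 ∉ K)) := by
    simp only [P]
    rw [← Finset.card_filter_add_card_filter_not (s := s) (fun p => p.1 ∈ K),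
      ← Finset.card_filter_add_card_filter_not (s := s.filter fun p => p.1 ∉ K) (fun p => p.2 ∈ K)]
    simp [s, Finset.filter_filter, and_assoc]
    congr!
  have hcard : Nat.card K * 2 = Nat.card H := by rw [← h, Subgroup.card_mul_index]
  have hpos : 0 < Nat.card K := Nat.card_pos
  refine ⟨Nat.eq_of_mul_eq_mul_right (Nat.mul_pos hpos two_pos) ?_, ?_⟩
  · rw [← hcard] at hfst hall
    rw [add_mul, mul_assoc 3, hall, hfst, ← mul_assoc, h00]
    omega
  · haveI : Finite (ConjClasses K) := Finite.of_surjective _ ConjClasses.mk_surjective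
    refine Nat.card_le_card_of_surjective (fun C : ConjClasses K => (⟨ConjClasses.map K.subtype C, by
      obtain ⟨x, rfl⟩ := ConjClasses.mk_surjective C
      exact ⟨x.1, x.2, rfl⟩⟩ : InCls K)) ?_
    rintro ⟨C, x, hx, rfl⟩
    exact ⟨ConjClasses.mk ⟨x, hx⟩, rfl⟩

end Cfsg.Agent.Lib.Elem70.ClassesO
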