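import Cfsg.Agent.Lib.Elem70.ClassesO.Nilpotent
import Cfsg.Agent.Lib.ClassesSp.Local
import Cfsg.Agent.Lib.GLFlags.SympConj
import Cfsg.Agent.Lib.Symplectic.Std

/-!
Two invariant symmetric forms of an operator are equivariantly isometric when the signs of their
normal bases on the two eigenspaces for `±1` agree. Adapted from `Lib.ClassesSp.Local`.
-/

set_option autoImplicit false
set_option linter.unusedSectionVars false
set_option linter.style.haveILetI false

namespace Cfsg.Agent.Lib.Elem70.ClassesO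

open Module
open Cfsg.Agent.Lib.Symplectic (restr)
open Cfsg.Agent.Lib.GLFlags.SympConj (Good)
open Cfsg.Agent.Lib.ClassesSp (Skew shiftT shiftT_apply isUnit_shiftT_neg commute_shiftT cayley_pow
  shiftT_pow_mem shiftT_pow_mem_range coe_shiftT_restrict_pow perp_ker_range isCompl_ker_range ker_le_range)

universe u v

variable {F : Type u} [Field F] {V : Type v} [AddCommGroup V] [Module F V]

/-- The signs of a normal basis of the Cayley transform. -/
def HasCode (B : V →ₗ[F] V →ₗ[F] F) (T : Module.End F V) (ε α : F) (N : ℕ) (s : ℕ → Bool) : Prop :=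
  ∃ D : Module.End F V, D * shiftT T (-ε) = shiftT T ε ∧ Skew B D ∧ ∃ P : NF B D α N, P.s = s

variable {B B' : V →ₗ[F] V →ₗ[F] F} {T : Module.End F V} {ε α : F} {N : ℕ}

/-- Every isometry with a single eigenvalue `±1` has a code. -/
theorem exists_code [Finite F] [FiniteDimensional F V] (h2 : (2 : F) ≠ 0) (hα : ¬ IsSquare α)
    (hB : IsSymmForm B) (hT : ∀ x y, B (T x) (T y) = B x y) (hε : ε * ε = 1)
    (hnil : shiftT T ε ^ N = 0) : ∃ s, HasCode B T ε α N s := by
  obtain ⟨u, hu⟩ := isUnit_shiftT_neg h2 hε hnil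
  let D : Module.End F V := shiftT T ε * (u⁻¹ : (Module.End F V)ˣ)
  have hD : D * shiftT T (-ε) = shiftT T ε := by
    rw [← hu]; simp [D, mul_assoc]
  have hskew : Skew B D := by
    intro x y
    have hsurj : Function.Surjective (shiftT T (-ε)) :=
      ((Module.End.isUnit_iff _).1 ⟨u, hu⟩).2
    obtain ⟨a, rfl⟩ := hsurj x
    obtain ⟨b, rfl⟩ := hsurj y
    rw [← Module.End.mul_apply, hD, ← Module.End.mul_apply, hD]
    simp only [shiftT_apply, map_sub, map_smul, LinearMap.sub_apply, LinearMap.smul_apply, smul_eq_mul, hT]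
    linear_combination -2 * B a b * hε
  obtain ⟨P⟩ := exists_nf h2 hα N B D hB hskew (cayley_pow h2 hε hnil hD)
  exact ⟨P.s, D, hD, hskew, P, rfl⟩

/-- Equal codes give an equivariant isometry. -/
theorem good_of_code [FiniteDimensional F V] (h2 : (2 : F) ≠ 0) (hα : α ≠ 0) (hε : ε * ε = 1)
    (hnil : shiftT T ε ^ N = 0) {s : ℕ → Bool} (h : HasCode B T ε α N s) (h' : HasCode B' T ε α N s) :
    Good T B B' := by
  obtain ⟨D, hD, hskew, P, hP⟩ := h
  obtain ⟨D', hD', hskew', P', hP'⟩ := h'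
  obtain rfl : D = D' := (isUnit_shiftT_neg h2 hε hnil).mul_left_inj.1 (hD.trans hD'.symm)
  obtain ⟨e, he, hiso⟩ := P.exists_isometry hα hskew hskew' P' (hP.trans hP'.symm)
  refine ⟨e, fun x => ?_, hiso⟩
  have hrel : ∀ x, T x - D (T x) = ε • (x + D x) := fun x => by
    have h := LinearMap.congr_fun hD x
    rw [Module.End.mul_apply, shiftT_apply, shiftT_apply, map_sub, map_smul, neg_smul, sub_neg_eq_add] at h
    calc T x - D (T x) = (D (T x) + ε • D x + ε • x) - D (T x) := by rw [h]; abel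
      _ = _ := by rw [smul_add]; abel
  have hfix : ∀ z, D z = z → z = 0 := fun z hz => by
    have : ∀ k, (D ^ k) z = z := fun k => by
      induction k with
      | zero => rfl
      | succ k ih => rw [pow_succ, Module.End.mul_apply, hz, ih]
    rw [← this N, cayley_pow h2 hε hnil hD]; rfl
  refine sub_eq_zero.1 (hfix _ ?_)
  have h1 := congrArg e (hrel x)
  rw [map_sub, he, map_smul, map_add, he, ← hrel] at h1
  rw [map_sub, ← sub_eq_zero]
  calc _ = (T (e x) - D (T (e x))) - (e (T x) - D (e (T x))) := by abel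
    _ = 0 := by rw [h1, sub_self]

/-- Transport. -/
theorem HasCode.map {V' : Type*} [AddCommGroup V'] [Module F V'] {C : V' →ₗ[F] V' →ₗ[F] F}
    {T' : Module.End F V'} {s : ℕ → Bool} (h : HasCode B T ε α N s) (φ : V ≃ₗ[F] V')
    (hB : ∀ x y, C (φ x) (φ y) = B x y) (hT : ∀ x, φ (T x) = T' (φ x)) : HasCode C T' ε α N s := by
  obtain ⟨D, hD, hskew, P, hP⟩ := h
  let D' : Module.End F V' := φ.toLinearMap ∘ₗ D ∘ₗ φ.symm.toLinearMap
  have hDφ : ∀ x, D' (φ x) = φ (D x) := fun x => by simp [D']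
  refine ⟨D', ?_, fun x y => ?_, P.map φ hB hDφ, hP⟩
  · refine LinearMap.ext fun y => ?_
    obtain ⟨x, rfl⟩ := φ.surjective y
    have hs : ∀ c, shiftT T' c (φ x) = φ (shiftT T c x) := fun c => by
      rw [shiftT_apply, shiftT_apply, map_sub, map_smul, hT]
    rw [Module.End.mul_apply, hs, hs, hDφ, ← Module.End.mul_apply, hD]
  · obtain ⟨x, rfl⟩ := φ.surjective x
    obtain ⟨y, rfl⟩ := φ.surjective y
    rw [hDφ, hDφ, hB, hB, hskew]

/-- The restriction to a summand with orthogonal complement. -/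
theorem restr_nondeg (hB : IsSymmForm B) {U₁ U₂ : Submodule F V}
    (h : IsCompl U₁ U₂) (ho : ∀ x ∈ U₁, ∀ y ∈ U₂, B x y = 0) : IsSymmForm (restr B U₁) where
  symm x y := hB.symm _ _
  nondeg x hx := by
    refine Subtype.ext (hB.nondeg _ fun y => ?_)
    obtain ⟨a, ha, b, hb, rfl⟩ := Submodule.mem_sup.1 (h.sup_eq_top ▸ Submodule.mem_top : y ∈ U₁ ⊔ U₂)
    rw [map_add, ho _ x.2 b hb, add_zero]
    exact hx ⟨a, ha⟩

theorem good_glue (hB : IsSymmForm B) (hB' : IsSymmForm B') {U₁ U₂ : Submodule F V} (h : IsCompl U₁ U₂)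
    (h₁ : ∀ x ∈ U₁, T x ∈ U₁) (h₂ : ∀ x ∈ U₂, T x ∈ U₂)
    (ho : ∀ x ∈ U₁, ∀ y ∈ U₂, B x y = 0) (ho' : ∀ x ∈ U₁, ∀ y ∈ U₂, B' x y = 0)
    (g₁ : Good (T.restrict h₁) (restr B U₁) (restr B' U₁))
    (g₂ : Good (T.restrict h₂) (restr B U₂) (restr B' U₂)) : Good T B B' := by
  obtain ⟨e₁, c₁, i₁⟩ := g₁
  obtain ⟨e₂, c₂, i₂⟩ := g₂
  let P := Submodule.prodEquivOfIsCompl U₁ U₂ h
  have hP : ∀ a b, P (a, b) = (a : V) + b := fun a b => rfl
  let e := P.symm.trans ((e₁.prodCongr e₂).trans P)
  have he : ∀ a b, e (P (a, b)) = P (e₁ a, e₂ b) := fun a b => by simp [e]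
  refine ⟨e, fun x => ?_, fun x y => ?_⟩
  · obtain ⟨⟨a, b⟩, rfl⟩ := P.surjective x
    have hTP : ∀ a b, T (P (a, b)) = P (T.restrict h₁ a, T.restrict h₂ b) := by
      intro a b; rw [hP, hP, map_add]; rfl
    rw [hTP, he, he, hTP, c₁, c₂]
  · obtain ⟨⟨a, b⟩, rfl⟩ := P.surjective x
    obtain ⟨⟨a', b'⟩, rfl⟩ := P.surjective y
    have s : ∀ {C : V →ₗ[F] V →ₗ[F] F}, IsSymmForm C → (∀ x ∈ U₁, ∀ y ∈ U₂, C x y = 0) →
        ∀ (a a' : U₁) (b b' : U₂), C (P (a, b)) (P (a', b')) =
          restr C U₁ a a' + restr C U₂ b b' := by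
      intro C hC hoC a a' b b'
      simp only [hP, map_add, LinearMap.add_apply, Symplectic.restr_apply, hoC _ a.2 _ b'.2,
        hC.comm_eq_zero.1 (hoC _ a'.2 _ b.2)]
      ring
    rw [he, he, s hB' ho', s hB ho, i₁, i₂]

/-- The case without eigenvalues `±1`: multiply by `T - T⁻¹` to reach alternating forms. -/
theorem good_of_regular [Finite V] [FiniteDimensional F V] (hB : IsSymmForm B)
    (hB' : IsSymmForm B') {k : ℕ} (hk : k ≠ 0) (hTk : T ^ k = 1) (hT : ∀ x y, B (T x) (T y) = B x y)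
    (hT' : ∀ x y, B' (T x) (T y) = B' x y) (hreg : ∀ x, T (T x) = x → x = 0) : Good T B B' := by
  let L : Module.End F V := T ^ (k - 1)
  have hTL : ∀ y, T (L y) = y := fun y => by
    rw [← Module.End.mul_apply, ← pow_succ', Nat.sub_add_cancel (Nat.pos_of_ne_zero hk), hTk,
      Module.End.one_apply]
  have hLT : ∀ y, L (T y) = y := fun y => by
    rw [← Module.End.mul_apply, ← pow_succ, Nat.sub_add_cancel (Nat.pos_of_ne_zero hk), hTk,
      Module.End.one_apply]
  let A : Module.End F V := T - L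
  have hA : Function.Surjective A := by
    refine LinearMap.injective_iff_surjective.1 ?_
    rw [injective_iff_map_eq_zero]
    intro x hx
    refine hreg x ?_
    rw [show T x = L x from sub_eq_zero.1 hx, hTL]
  have key : ∀ {C : V →ₗ[F] V →ₗ[F] F}, IsSymmForm C → (∀ x y, C (T x) (T y) = C x y) →
      Symplectic.IsSympForm (C.compl₂ A) ∧ ∀ x y, C.compl₂ A (T x) (T y) = C.compl₂ A x y := by
    intro C hC hCT
    refine ⟨⟨fun x => ?_, fun x hx => hC.nondeg x fun y => ?_⟩, fun x y => ?_⟩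
    · show C x (T x - L x) = 0
      have h1 : C x (L x) = C (T x) x := by rw [← hCT x (L x), hTL]
      rw [map_sub, h1, hC.symm (T x) x, sub_self]
    · obtain ⟨z, rfl⟩ := hA y
      exact hx z
    · show C (T x) (T (T y) - L (T y)) = C x (T y - L y)
      rw [hLT, show T (T y) - y = T (T y - L y) by rw [map_sub, hTL], hCT]
  obtain ⟨e, he, hiso⟩ := GLFlags.SympConj.good_of_regular (key hB hT).1 (key hB' hT').1 hk hTk
    (key hB hT).2 (key hB' hT').2 hreg
  refine ⟨e, he, fun x y => ?_⟩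
  obtain ⟨z, rfl⟩ := hA y
  have hL : ∀ z, e (L z) = L (e z) := fun z => by
    rw [← hLT (e (L z)), ← he, hTL]
  have h3 := hiso x z
  show B' (e x) (e (T z - L z)) = _
  rw [map_sub, he, hL]
  exact h3

/-- Two forms invariant under `T`, with the same codes on the eigenspaces for `±1`. -/
theorem good_of_codes [Finite F] [Finite V] [FiniteDimensional F V] (h2 : (2 : F) ≠ 0) (hα : α ≠ 0)
    (hB : IsSymmForm B) (hB' : IsSymmForm B') (hT : ∀ x y, B (T x) (T y) = B x y)
    (hT' : ∀ x y, B' (T x) (T y) = B' x y) {k : ℕ} (hk : k ≠ 0) (hTk : T ^ k = 1) {M : ℕ} (hM1 : 1 ≤ M)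
    (hM : finrank F V ≤ M) {s t : ℕ → Bool}
    (hs : ∀ C, (C = B ∨ C = B') → HasCode (restr C (LinearMap.ker (shiftT T 1 ^ M)))
      (T.restrict fun _ h => shiftT_pow_mem h) 1 α M s)
    (ht : ∀ C, (C = B ∨ C = B') → HasCode (restr C (LinearMap.ker (shiftT T (-1) ^ M)))
      (T.restrict fun _ h => shiftT_pow_mem h) (-1) α M t) : Good T B B' := by
  have hTbij : Function.Bijective T := by
    have hu : IsUnit T := IsUnit.of_pow_eq_one hTk hk
    exact (Module.End.isUnit_iff _).1 hu
  set K := LinearMap.ker (shiftT T 1 ^ M) with hK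
  set R := LinearMap.range (shiftT T 1 ^ M) with hR
  have hc : IsCompl K R := isCompl_ker_range hM _
  have hperp : ∀ {C : V →ₗ[F] V →ₗ[F] F}, (∀ x y, C (T x) (T y) = C x y) → ∀ x ∈ K, ∀ y ∈ R, C x y = 0 := by
    rintro C hC x hx _ ⟨z, rfl⟩
    exact perp_ker_range hTbij hC (one_mul 1) M x z hx
  refine good_glue hB hB' hc (fun _ h => shiftT_pow_mem h) (fun _ h => shiftT_pow_mem_range h)
    (hperp hT) (hperp hT') ?_ ?_
  · refine good_of_code h2 hα (one_mul 1) (N := M) ?_ (hs B (Or.inl rfl)) (hs B' (Or.inr rfl))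
    refine LinearMap.ext fun x => Subtype.ext ?_
    rw [coe_shiftT_restrict_pow]
    exact x.2
  · set T₁ : Module.End F R := T.restrict fun _ h => shiftT_pow_mem_range h with hT₁
    have hR1 : ∀ {C : V →ₗ[F] V →ₗ[F] F}, IsSymmForm C → (∀ x y, C (T x) (T y) = C x y) →
        IsSymmForm (restr C R) := fun hC h =>
      restr_nondeg hC hc.symm fun x hx y hy => hC.comm_eq_zero.1 (hperp h y hy x hx)
    have hcoe : ∀ (c : F) (m : ℕ) (x : R), (((shiftT T₁ c ^ m) x : R) : V) = (shiftT T c ^ m) (x : V) :=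
      fun c m => by
      induction m with
      | zero => intro x; rfl
      | succ m ih => intro x; rw [pow_succ, Module.End.mul_apply, ih, pow_succ, Module.End.mul_apply]; rfl
    have hpowT : ∀ (m : ℕ) (x : R), (((T₁ ^ m) x : R) : V) = (T ^ m) (x : V) := fun m => by
      induction m with
      | zero => intro x; rfl
      | succ m ih => intro x; rw [pow_succ, Module.End.mul_apply, ih, pow_succ, Module.End.mul_apply]; rfl
    set K' := LinearMap.ker (shiftT T₁ (-1) ^ M) with hK'
    set R' := LinearMap.range (shiftT T₁ (-1) ^ M) with hR'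
    have hM' : finrank F R ≤ M := (Submodule.finrank_le _).trans hM
    have hc' : IsCompl K' R' := isCompl_ker_range hM' _
    have hT₁bij : Function.Bijective T₁ := by
      have hi : Function.Injective T₁ := fun x y h => Subtype.ext (hTbij.1 (congrArg Subtype.val h))
      exact ⟨hi, LinearMap.injective_iff_surjective.1 hi⟩
    have hperp' : ∀ {C : V →ₗ[F] V →ₗ[F] F}, (∀ x y, C (T x) (T y) = C x y) →
        ∀ x ∈ K', ∀ y ∈ R', restr C R x y = 0 := by
      rintro C hC x hx _ ⟨z, rfl⟩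
      exact perp_ker_range (B := restr C R) hT₁bij (fun x y => hC _ _) (by norm_num) M x z hx
    refine good_glue (hR1 hB hT) (hR1 hB' hT') hc' (fun _ h => shiftT_pow_mem h)
      (fun _ h => shiftT_pow_mem_range h) (hperp' hT) (hperp' hT') ?_ ?_
    · have hmem : ∀ x : LinearMap.ker (shiftT T (-1) ^ M), (x : V) ∈ R :=
        fun x => ker_le_range h2 (one_mul 1) M x.2
      let ψ : LinearMap.ker (shiftT T (-1) ^ M) ≃ₗ[F] K' :=
        { toFun := fun x => ⟨⟨x.1, hmem x⟩, Subtype.ext (by rw [hcoe]; exact x.2)⟩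
          map_add' := fun x y => rfl
          map_smul' := fun c x => rfl
          invFun := fun y => ⟨y.1.1, by
            show (shiftT T (-1) ^ M) (y.1.1) = 0
            rw [← hcoe, LinearMap.mem_ker.1 y.2]; rfl⟩
          left_inv := fun x => rfl
          right_inv := fun y => rfl }
      refine good_of_code h2 hα (ε := -1) (by norm_num) (N := M) ?_
        ((ht B (Or.inl rfl)).map ψ (fun x y => rfl) (fun x => rfl))
        ((ht B' (Or.inr rfl)).map ψ (fun x y => rfl) (fun x => rfl))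
      refine LinearMap.ext fun x => Subtype.ext ?_
      rw [coe_shiftT_restrict_pow]
      exact x.2
    · haveI : Finite R := inferInstance
      refine good_of_regular
        (restr_nondeg (hR1 hB hT) hc'.symm fun x hx y hy =>
          (hR1 hB hT).comm_eq_zero.1 (hperp' hT y hy x hx))
        (restr_nondeg (hR1 hB' hT') hc'.symm fun x hx y hy =>
          (hR1 hB' hT').comm_eq_zero.1 (hperp' hT' y hy x hx))
        hk ?_ (fun x y => hT _ _) (fun x y => hT' _ _) fun z hz => ?_
      · rw [Module.End.pow_restrict]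
        refine LinearMap.ext fun x => Subtype.ext (Subtype.ext ?_)
        show (((T₁ ^ k) x.1 : R) : V) = _
        rw [hpowT, hTk]; rfl
      · obtain ⟨⟨x, hxR⟩, hxR'⟩ := z
        have hTT : T (T x) = x := congrArg (fun w => w.1.1) hz
        set y : R := shiftT T₁ 1 ⟨x, hxR⟩ with hy
        have hyK : y ∈ K' := by
          have h1 : shiftT T₁ (-1) y = 0 := Subtype.ext (by
            show T (T x - (1 : F) • x) - (-1 : F) • (T x - (1 : F) • x) = 0
            rw [one_smul, neg_one_smul, map_sub, hTT, sub_neg_eq_add, sub_add_sub_cancel', sub_self])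
          rw [LinearMap.mem_ker, show M = M - 1 + 1 by omega, pow_succ, Module.End.mul_apply, h1, map_zero]
        have hyR : y ∈ R' := R'.sub_mem (shiftT_pow_mem_range hxR') (R'.smul_mem _ hxR')
        have h0 : T x - (1 : F) • x = 0 := congrArg Subtype.val (Submodule.disjoint_def.1 hc'.disjoint _ hyK hyR)
        have hxK : x ∈ K := by
          rw [hK, LinearMap.mem_ker, show M = M - 1 + 1 by omega, pow_succ, Module.End.mul_apply,
            shiftT_apply, h0, map_zero]
        exact Subtype.ext (Subtype.ext (Submodule.disjoint_def.1 hc.disjoint _ hxK hxR))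

end Cfsg.Agent.Lib.Elem70.ClassesO
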