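import Cfsg.Agent.Lib.Elem70.ClassesO.Gram
import Cfsg.Agent.Lib.GLFlags.CyclicForm
import Cfsg.Agent.S2385

/-!
Lower bound for the number of classes of an even dimensional orthogonal group in odd characteristic:
classes with prescribed characteristic polynomial.
-/

set_option autoImplicit false
set_option linter.unusedSectionVars false
set_option linter.style.haveILetI false

namespace Cfsg.Agent.Lib.Elem70.ClassesO

open Polynomial Matrix Cfsg.Agent.Lib.GLFlags

universe u

variable {F : Type u} [Field F] [Fintype F]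

/-- The characteristic polynomial of `U` is `Xᵏ h(X + X⁻¹)`. -/
def HasTrace {ι : Type} [Fintype ι] [DecidableEq ι] (U : Matrix ι ι F) (k : ℕ) (h : F[X]) : Prop :=
  ∀ x : AlgebraicClosure F, x ≠ 0 → aeval x U.charpoly = x ^ k * aeval (x + x⁻¹) h

theorem exists_regular (k : ℕ) {h : F[X]} (hm : h.Monic) (hd : h.natDegree = k) :
    ∃ S U : Matrix (Fin k ⊕ Fin k) (Fin k ⊕ Fin k) F, S.IsSymm ∧ Uᵀ * S * U = S ∧ U.det = 1 ∧
      S.det = (-1) ^ k * (h.eval 2 * h.eval (-2)) ∧ HasTrace U k h := by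
  classical
  obtain ⟨P, M, hP, hPu, hPM, hM⟩ := CyclicForm.exists_symmetric_pair hm hd
  obtain ⟨P', rfl⟩ := hPu
  have hQP : ((P'⁻¹ : GL (Fin k) F) : Matrix (Fin k) (Fin k) F) * P' = 1 := Units.inv_mul P'
  have hQ : ((P'⁻¹ : GL (Fin k) F) : Matrix (Fin k) (Fin k) F)ᵀ = P'⁻¹ := by
    rw [Matrix.coe_units_inv, Matrix.transpose_nonsing_inv, hP]
  set U := Matrix.fromBlocks 0 (-(P' : Matrix (Fin k) (Fin k) F))
      ((P'⁻¹ : GL (Fin k) F) : Matrix (Fin k) (Fin k) F) M with hU
  have hmem : U ∈ Matrix.symplecticGroup (Fin k) F := by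
    rw [hU, SymplecticGroup.fromBlocks_mem_iff]
    refine ⟨by simp, ?_, ?_⟩
    · rw [Matrix.transpose_neg, hP, Matrix.neg_mul, Matrix.mul_neg, hPM]
    · rw [hQ, Matrix.transpose_zero, Matrix.zero_mul, Matrix.mul_neg, sub_neg_eq_add, zero_add, hQP]
  have hUJ : Uᵀ * Matrix.J (Fin k) F * U = Matrix.J (Fin k) F := SymplecticGroup.mem_iff'.1 hmem
  have hdet : U.det = 1 := SymplecticGroup.det_eq_one hmem
  refine ⟨Matrix.J (Fin k) F * U + (Matrix.J (Fin k) F * U)ᵀ, U, ?_, ?_, hdet, ?_, fun x hx => ?_⟩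
  · rw [Matrix.IsSymm, transpose_add, transpose_transpose, add_comm]
  · rw [transpose_mul, Matrix.mul_add, Matrix.add_mul, ← Matrix.mul_assoc, hUJ]
    congr 1
    have h2 := congrArg Matrix.transpose hUJ
    rw [transpose_mul, transpose_mul, transpose_transpose] at h2
    rw [Matrix.mul_assoc Uᵀ (Uᵀ * _), Matrix.mul_assoc Uᵀ (Matrix.J (Fin k) F)ᵀ U, h2]
  · have e : (Matrix.J (Fin k) F * U + (Matrix.J (Fin k) F * U)ᵀ) * U =
        Matrix.J (Fin k) F * ((Matrix.scalar _ 1 - U) * (Matrix.scalar _ (-1) - U)) := by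
      rw [Matrix.add_mul, transpose_mul, Matrix.J_transpose, Matrix.mul_neg, Matrix.neg_mul, hUJ]
      simp only [map_neg, map_one, Matrix.sub_mul, Matrix.mul_sub, Matrix.one_mul, Matrix.mul_neg,
        Matrix.mul_one, Matrix.mul_assoc]
      abel
    have hev : ∀ c : F, c ≠ 0 → (Matrix.scalar _ c - U).det = c ^ k * h.eval (c + c⁻¹) := fun c hc => by
      rw [← Matrix.eval_charpoly, hU, Cfsg.Agent.S2385.eval_block _ _ _ hQP hc, hM]
    have e' := congrArg Matrix.det e
    rw [det_mul, hdet, mul_one, det_mul, det_mul, hev 1 one_ne_zero, hev (-1) (neg_ne_zero.2 one_ne_zero),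
      SymplecticGroup.det_eq_one (SymplecticGroup.J_mem _ _), one_pow, inv_one, inv_neg_one] at e'
    rw [e', show (1 : F) + 1 = 2 by norm_num, show (-1 : F) + -1 = -2 by norm_num]
    ring
  · rw [Polynomial.aeval_def, ← Polynomial.eval_map, ← Matrix.charpoly_map, hU, Matrix.fromBlocks_map,
      Matrix.map_zero _ (map_zero _), Matrix.map_neg _ (map_neg _),
      Cfsg.Agent.S2385.eval_block _ _ _ (by rw [← Matrix.map_mul, hQP, Matrix.map_one _ (map_zero _) (map_one _)])
        hx,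
      Matrix.charpoly_map, hM, Polynomial.eval_map, Polynomial.aeval_def]

/-- Prescribed trace polynomial and determinant class. -/
theorem exists_model {n : ℕ} {h : F[X]} (hm : h.Monic) (hd : h.natDegree = n) {δ : F}
    (hδ : δ ≠ 0) (ht : h.eval 2 * h.eval (-2) = 0 ∨ SameClass ((-1) ^ n * (h.eval 2 * h.eval (-2))) δ) :
    ∃ (ι : Type) (_ : Fintype ι) (_ : DecidableEq ι) (S U : Matrix ι ι F), Fintype.card ι = n + n ∧
      S.IsSymm ∧ SameClass S.det δ ∧ Uᵀ * S * U = S ∧ U.det = 1 ∧ HasTrace U n h := by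
  classical
  obtain ⟨h1, hh1, hr1⟩ := exists_eq_pow_rootMultiplicity_mul_and_not_dvd h hm.ne_zero 2
  have hne1 : h1 ≠ 0 := fun e => hr1 (e ▸ dvd_zero _)
  obtain ⟨h', hh', hr'⟩ := exists_eq_pow_rootMultiplicity_mul_and_not_dvd h1 hne1 (-2)
  set a := rootMultiplicity 2 h
  set b := rootMultiplicity (-2) h1
  have hge : h = (X - C 2) ^ a * ((X - C (-2)) ^ b * h') := by rw [← hh']; exact hh1
  have hma : ((X - C (2 : F)) ^ a).Monic := (monic_X_sub_C _).pow _
  have hmb : ((X - C (-2 : F)) ^ b).Monic := (monic_X_sub_C _).pow _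
  have hm' : h'.Monic := hmb.of_mul_monic_left (hma.of_mul_monic_left (hge ▸ hm))
  set k := h'.natDegree with hk
  have hn : a + (b + k) = n := by
    rw [← hd, hge, hma.natDegree_mul (hmb.mul hm'), hmb.natDegree_mul hm', natDegree_pow, natDegree_pow,
      natDegree_X_sub_C, natDegree_X_sub_C, mul_one, mul_one]
  have hp2 : h'.eval 2 ≠ 0 := fun e => hr1 (by rw [hh']; exact (dvd_iff_isRoot.2 e).mul_left _)
  have hn2 : h'.eval (-2) ≠ 0 := fun e => hr' (dvd_iff_isRoot.2 e)
  obtain ⟨S', U', hS', hU', hdU, hdS, htr⟩ := exists_regular k hm' rfl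
  have hdS0 : S'.det ≠ 0 := by
    rw [hdS]; exact mul_ne_zero (pow_ne_zero _ (neg_ne_zero.2 one_ne_zero)) (mul_ne_zero hp2 hn2)
  let κ : Type := Fin (a + a) ⊕ Fin (b + b)
  let ε : κ → F := Sum.elim (fun _ => 1) (fun _ => -1)
  obtain ⟨w, hw0, hw⟩ : ∃ w : κ → F, (∀ i, w i ≠ 0) ∧ SameClass ((∏ i, w i) * S'.det) δ := by
    rcases Nat.eq_zero_or_pos (a + b) with hab | hab
    · refine ⟨fun _ => 1, fun _ => one_ne_zero, ?_⟩
      rw [Finset.prod_const_one, one_mul, hdS]
      have ha : a = 0 := by omega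
      have hb : b = 0 := by omega
      have he : h = h' := by rw [hge, ha, hb]; simp
      have hnk : n = k := by omega
      rw [he, hnk] at ht
      exact ht.resolve_left (mul_ne_zero hp2 hn2)
    · have i₀ : κ := if ha : 0 < a then Sum.inl ⟨0, by omega⟩ else Sum.inr ⟨0, by omega⟩
      refine ⟨Function.update (fun _ => 1) i₀ (δ / S'.det), fun i => ?_, ?_⟩
      · rcases eq_or_ne i i₀ with rfl | hi
        · rw [Function.update_self]; exact div_ne_zero hδ hdS0
        · rw [Function.update_of_ne hi]; exact one_ne_zero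
      · refine ⟨1, one_ne_zero, ?_⟩
        rw [Fintype.prod_eq_single i₀ (fun i hi => Function.update_of_ne hi _ _), Function.update_self,
          div_mul_cancel₀ _ hdS0, mul_one, one_mul]
  refine ⟨κ ⊕ (Fin k ⊕ Fin k), inferInstance, inferInstance,
    fromBlocks (diagonal w) 0 0 S', fromBlocks (diagonal ε) 0 0 U', ?_, ?_, ?_, ?_, ?_, ?_⟩
  · simp [κ]; omega
  · exact Matrix.IsSymm.fromBlocks (Matrix.isSymm_diagonal w) (by simp) hS'
  · rwa [det_fromBlocks_zero₁₂, det_diagonal]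
  · have : ∀ i : κ, ε i * w i * ε i = w i := by rintro (i | i) <;> simp [ε]
    simp [fromBlocks_transpose, fromBlocks_multiply, hU', diagonal_mul_diagonal, this]
  · rw [det_fromBlocks_zero₁₂, det_diagonal, hdU, mul_one, Fintype.prod_sum_type]
    simp [ε, Even.add_self b |>.neg_one_pow]
  · intro x hx
    have he : ∏ i, aeval x (X - C (ε i)) = (x - 1) ^ (a + a) * (x + 1) ^ (b + b) := by
      simp [Fintype.prod_sum_type, ε, κ]
    have h4 : ∀ c : F, aeval (x + x⁻¹) (X - C c) = x + x⁻¹ - algebraMap F _ c := by simp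
    rw [charpoly_fromBlocks_zero₁₂, charpoly_diagonal, map_mul, map_prod, he, htr x hx, hge, map_mul, map_mul,
      map_pow, map_pow, h4, h4, map_neg, map_ofNat, ← hn, pow_add x, pow_add x b]
    have e1 : (x - 1) ^ (a + a) = x ^ a * (x + x⁻¹ - 2) ^ a := by
      rw [← mul_pow, ← two_mul, pow_mul]; congr 1; field_simp; ring
    have e2 : (x + 1) ^ (b + b) = x ^ b * (x + x⁻¹ - -2) ^ b := by
      rw [← mul_pow, ← two_mul, pow_mul]; congr 1; field_simp; ring
    rw [e1, e2]; ring

theorem trace_ext {ι : Type} [Fintype ι] [DecidableEq ι] {U : Matrix ι ι F} {n : ℕ} {h h' : F[X]}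
    (e : HasTrace U n h) (e' : HasTrace U n h') : h = h' := by
  refine Polynomial.map_injective _ (algebraMap F (AlgebraicClosure F)).injective ?_
  refine Polynomial.funext fun a => ?_
  obtain ⟨x, hx⟩ := IsAlgClosed.exists_root (Polynomial.X ^ 2 - Polynomial.C a * Polynomial.X + 1) (by
    intro hd
    have := Polynomial.coeff_eq_zero_of_degree_lt (n := 2)
      (p := Polynomial.X ^ 2 - Polynomial.C a * Polynomial.X + 1) (by rw [hd]; norm_num)
    simp [Polynomial.coeff_one] at this)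
  have hx' : x ^ 2 - a * x + 1 = 0 := by simpa using hx
  have hx0 : x ≠ 0 := fun h0 => by rw [h0] at hx'; simp at hx'
  have ha : x + x⁻¹ = a := by
    field_simp
    linear_combination hx'
  have h1 := e x hx0
  rw [e' x hx0, ha] at h1
  rw [Polynomial.eval_map, Polynomial.eval_map, ← Polynomial.aeval_def, ← Polynomial.aeval_def]
  exact (mul_left_cancel₀ (pow_ne_zero _ hx0) h1).symm

/-- The trace polynomials that occur. -/
abbrev Target (δ : F) (n : ℕ) : Type u :=
  {h : F[X] // (h.Monic ∧ h.natDegree = n) ∧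
    (h.eval 2 * h.eval (-2) = 0 ∨ SameClass ((-1) ^ n * (h.eval 2 * h.eval (-2))) δ)}

theorem card_target_le (h2 : (2 : F) ≠ 0) {n : ℕ} {S : Matrix (Fin (n + n)) (Fin (n + n)) F}
    (hS : S.IsSymm) (hd : S.det ≠ 0) :
    Nat.card (Target S.det n) ≤ Nat.card (ConjClasses (OS S)) := by
  classical
  obtain ⟨α, hα⟩ := FiniteField.exists_nonsquare (F := F) fun h => h2 (by
    have := ringChar.Nat.cast_ringChar (R := F)
    rw [h] at this; exact_mod_cast this)
  have hex : ∀ h : Target S.det n, ∃ g : OS S,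
      HasTrace ((g : GL (Fin (n + n)) F) : Matrix (Fin (n + n)) (Fin (n + n)) F) n h.1 := by
    rintro ⟨h, ⟨hm, hdeg⟩, ht⟩
    obtain ⟨ι, _, _, S₁, U, hcard, hS₁, hδ, hU, hUd, htr⟩ := exists_model hm hdeg hd ht
    let e : ι ≃ Fin (n + n) := Fintype.equivFinOfCardEq hcard
    obtain ⟨Uu, hUu⟩ := isUnit_of_det (by rw [hUd]; exact one_ne_zero)
    let x := osReindex S₁ e ⟨Uu, by rw [mem_OS, hUu]; exact hU⟩
    have hdr : (Matrix.reindex e e S₁).det = S₁.det := Matrix.det_reindex_self e S₁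
    obtain ⟨P, hP⟩ := exists_congr h2 hα hS (S' := Matrix.reindex e e S₁) (hS₁.submatrix _) hd
      (by rw [hdr]; exact hδ.symm)
    have hmem : P * x.1 * P⁻¹ ∈ OS S := by
      have h1 : (P : Matrix (Fin (n + n)) (Fin (n + n)) F) *
          ((P⁻¹ : GL (Fin (n + n)) F) : Matrix (Fin (n + n)) (Fin (n + n)) F) = 1 := Units.mul_inv P
      rw [mem_OS, Units.val_mul, Units.val_mul, transpose_mul, transpose_mul]
      calc _ = ((P⁻¹ : GL (Fin (n + n)) F) : Matrix (Fin (n + n)) (Fin (n + n)) F)ᵀ *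
            ((x.1 : Matrix (Fin (n + n)) (Fin (n + n)) F)ᵀ * ((P : Matrix (Fin (n + n)) (Fin (n + n)) F)ᵀ * S * P) *
              x.1) * ((P⁻¹ : GL (Fin (n + n)) F) : Matrix (Fin (n + n)) (Fin (n + n)) F) := by
            simp only [Matrix.mul_assoc]
        _ = _ := by
            rw [hP, mem_OS.1 x.2, ← hP, ← Matrix.mul_assoc, ← Matrix.mul_assoc, ← transpose_mul, h1,
              transpose_one, Matrix.one_mul, Matrix.mul_assoc, h1, Matrix.mul_one]
    refine ⟨⟨_, hmem⟩, fun z hz => ?_⟩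
    show aeval z ((P * x.1 * P⁻¹ : GL (Fin (n + n)) F) : Matrix (Fin (n + n)) (Fin (n + n)) F).charpoly = _
    rw [Units.val_mul, Units.val_mul, Matrix.coe_units_inv, Matrix.charpoly_units_conj]
    show aeval z (Matrix.reindex e e (Uu : Matrix ι ι F)).charpoly = _
    rw [Matrix.charpoly_reindex, hUu]
    exact htr z hz
  choose g hg using hex
  haveI : Finite (ConjClasses (OS S)) := Finite.of_surjective _ ConjClasses.mk_surjective
  refine Nat.card_le_card_of_injective (fun h => ConjClasses.mk (g h)) fun h h' e => ?_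
  obtain ⟨c, hc⟩ := isConj_iff.1 (ConjClasses.mk_eq_mk_iff_isConj.1 e)
  refine Subtype.ext (trace_ext (hg h) ?_)
  intro z hz
  have e2 : ((g h : GL (Fin (n + n)) F) : Matrix (Fin (n + n)) (Fin (n + n)) F).charpoly =
      ((g h' : GL (Fin (n + n)) F) : Matrix (Fin (n + n)) (Fin (n + n)) F).charpoly := by
    rw [← hc]
    show _ = (((c : GL (Fin (n + n)) F) * (g h).1 * (c : GL (Fin (n + n)) F)⁻¹ : GL (Fin (n + n)) F) :
      Matrix (Fin (n + n)) (Fin (n + n)) F).charpoly
    rw [Units.val_mul, Units.val_mul, Matrix.coe_units_inv, Matrix.charpoly_units_conj]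
  rw [e2]
  exact hg h' z hz

theorem two_mul_pairs {δ : F} (hδ : δ ≠ 0) (s : F) (hs : s ≠ 0) :
    Fintype.card F ^ 2 ≤ 2 * Nat.card {p : F × F // p.1 * p.2 = 0 ∨ SameClass (s * (p.1 * p.2)) δ} := by
  classical
  let T := Finset.univ.filter fun p : F × F => p.1 * p.2 = 0 ∨ SameClass (s * (p.1 * p.2)) δ
  let U : Finset F := Finset.univ.erase 0
  let Z : Finset (F × F) := (Finset.univ.image fun v : F => ((0 : F), v)) ∪ U.image fun u => (u, (0 : F))
  let f : F × F → F × F := fun p => (p.1, δ * (p.2 * p.2) / (s * p.1))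
  let W : Finset (F × F) := (U ×ˢ U).image f
  have hUc : U.card = Fintype.card F - 1 := by simp [U]
  have hW : ∀ p ∈ W, p.1 ≠ 0 ∧ p.2 ≠ 0 ∧ SameClass (s * (p.1 * p.2)) δ := by
    intro p hp
    obtain ⟨⟨u, d⟩, hud, rfl⟩ := Finset.mem_image.1 hp
    simp only [U, Finset.mem_product, Finset.mem_erase, Finset.mem_univ, and_true] at hud
    refine ⟨hud.1, ?_, d, hud.2, ?_⟩
    · exact div_ne_zero (mul_ne_zero hδ (mul_ne_zero hud.2 hud.2)) (mul_ne_zero hs hud.1)
    · have := hud.1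
      simp only [f]
      field_simp
  have hZc : Z.card = Fintype.card F + (Fintype.card F - 1) := by
    rw [Finset.card_union_of_disjoint, Finset.card_image_of_injective _ fun a b e => congrArg Prod.snd e,
      Finset.card_image_of_injective _ fun a b e => congrArg Prod.fst e, hUc, Finset.card_univ]
    rw [Finset.disjoint_left]
    intro p hp hp'
    obtain ⟨v, -, rfl⟩ := Finset.mem_image.1 hp
    obtain ⟨u, hu, e⟩ := Finset.mem_image.1 hp'
    exact (Finset.mem_erase.1 hu).1 (congrArg Prod.fst e)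
  have hsub : Z ∪ W ⊆ T := by
    intro p hp
    simp only [T, Finset.mem_filter, Finset.mem_univ, true_and]
    rcases Finset.mem_union.1 hp with hp | hp
    · left
      simp only [Z, Finset.mem_union, Finset.mem_image] at hp
      rcases hp with ⟨v, -, rfl⟩ | ⟨u, -, rfl⟩ <;> simp
    · exact Or.inr (hW p hp).2.2
  have hdis : Disjoint Z W := by
    rw [Finset.disjoint_left]
    intro p hp hp'
    obtain ⟨h1, h2', -⟩ := hW p hp'
    simp only [Z, Finset.mem_union, Finset.mem_image] at hp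
    rcases hp with ⟨v, -, rfl⟩ | ⟨u, -, rfl⟩
    · exact h1 rfl
    · exact h2' rfl
  have hWc : (Fintype.card F - 1) * (Fintype.card F - 1) ≤ 2 * W.card := by
    rw [← hUc, ← Finset.card_product]
    refine Finset.card_le_mul_card_image (f := f) _ 2 fun p hp => ?_
    obtain ⟨hp1, -, -⟩ := hW p hp
    obtain ⟨⟨u, d⟩, hud, rfl⟩ := Finset.mem_image.1 hp
    refine (Finset.card_le_card (t := {(u, d), (u, -d)}) ?_).trans Finset.card_le_two
    rintro ⟨u', d'⟩ hq
    obtain ⟨-, hq⟩ := Finset.mem_filter.1 hq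
    obtain rfl : u' = u := congrArg Prod.fst hq
    have e := congrArg Prod.snd hq
    simp only [f] at e hp1
    rw [div_left_inj' (mul_ne_zero hs hp1)] at e
    rcases mul_self_eq_mul_self_iff.1 (mul_left_cancel₀ hδ e) with rfl | rfl <;> simp
  have hc := Finset.card_le_card hsub
  rw [Finset.card_union_of_disjoint hdis, hZc] at hc
  rw [Nat.card_eq_fintype_card, Fintype.card_subtype]
  obtain ⟨c, hcq⟩ : ∃ c, Fintype.card F = c + 1 := ⟨_, (Nat.sub_add_cancel Fintype.card_pos).symm⟩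
  rw [hcq, Nat.add_sub_cancel] at hWc hc
  rw [hcq]
  show _ ≤ 2 * T.card
  nlinarith

theorem pow_le_two_mul_target (h2 : (2 : F) ≠ 0) {n : ℕ} (hn : 2 ≤ n) {δ : F} (hδ : δ ≠ 0) :
    Fintype.card F ^ n ≤ 2 * Nat.card (Target δ n) := by
  classical
  obtain ⟨m, rfl⟩ : ∃ m, n = m + 2 := ⟨n - 2, by omega⟩
  let G := {g : F[X] // g.Monic ∧ g.natDegree = m}
  let P := {p : F × F // p.1 * p.2 = 0 ∨ SameClass ((-1 : F) ^ (m + 2) * (p.1 * p.2)) δ}
  have hG : Nat.card G = Fintype.card F ^ m := by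
    rw [Nat.card_congr ((monicEquivDegreeLT m).trans (degreeLTEquiv F m).toEquiv), Nat.card_fun,
      Nat.card_fin, Nat.card_eq_fintype_card]
  have h4 : (4 : F) ≠ 0 := by rw [show (4 : F) = 2 * 2 by norm_num]; exact mul_ne_zero h2 h2
  let mk : G × P → F[X] := fun z => X ^ 2 * z.1.1 +
    (C (((z.2.1.1 - 4 * z.1.1.eval 2) - (z.2.1.2 - 4 * z.1.1.eval (-2))) / 4) * X +
      C (((z.2.1.1 - 4 * z.1.1.eval 2) + (z.2.1.2 - 4 * z.1.1.eval (-2))) / 2))
  have hmk : ∀ z, (mk z).Monic ∧ (mk z).natDegree = m + 2 := by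
    intro z
    have h1 : (X ^ 2 * z.1.1).Monic := (monic_X_pow 2).mul z.1.2.1
    have h3 : (X ^ 2 * z.1.1).natDegree = m + 2 := by
      rw [(monic_X_pow 2).natDegree_mul z.1.2.1, natDegree_X_pow, z.1.2.2, add_comm]
    have hlow : ∀ a b : F, (C a * X + C b).degree < (X ^ 2 * z.1.1).degree := fun a b => by
      rw [degree_eq_natDegree h1.ne_zero, h3]
      exact (degree_linear_le).trans_lt (by exact_mod_cast (by omega : 1 < m + 2))
    exact ⟨h1.add_of_left (hlow _ _), (natDegree_eq_of_degree_eq (degree_add_eq_left_of_degree_lt (hlow _ _))).trans h3⟩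
  have hev : ∀ z, (mk z).eval 2 = z.2.1.1 ∧ (mk z).eval (-2) = z.2.1.2 := by
    intro z
    constructor <;>
    · simp only [mk, eval_add, eval_mul, eval_pow, eval_X, eval_C]
      field_simp
      ring
  haveI : Finite G := Finite.of_equiv _ ((monicEquivDegreeLT m).trans (degreeLTEquiv F m).toEquiv).symm
  haveI : Finite {h : F[X] // h.Monic ∧ h.natDegree = m + 2} :=
    Finite.of_equiv _ ((monicEquivDegreeLT (m + 2)).trans (degreeLTEquiv F (m + 2)).toEquiv).symm
  haveI : Finite (Target δ (m + 2)) := Finite.of_injective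
    (fun h => (⟨h.1, h.2.1⟩ : {h : F[X] // h.Monic ∧ h.natDegree = m + 2}))
    fun a b e => Subtype.ext (congrArg Subtype.val e :)
  let Φ : G × P → Target δ (m + 2) := fun z => ⟨mk z, hmk z, by rw [(hev z).1, (hev z).2]; exact z.2.2⟩
  have hΦ : Function.Injective Φ := by
    intro z z' e
    have e' : mk z = mk z' := congrArg Subtype.val e
    have hu : z.2.1.1 = z'.2.1.1 := by rw [← (hev z).1, e', (hev z').1]
    have hv : z.2.1.2 = z'.2.1.2 := by rw [← (hev z).2, e', (hev z').2]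
    have hc : ∀ i, i < 2 → ∀ g : F[X], (X ^ 2 * g).coeff i = 0 := fun i hi g => by
      rw [coeff_X_pow_mul', if_neg (by omega)]
    have e0 := congrArg (fun f : F[X] => f.coeff 0) e'
    have e1 := congrArg (fun f : F[X] => f.coeff 1) e'
    simp only [mk, coeff_add, hc 0 two_pos, hc 1 one_lt_two, coeff_C_mul, coeff_X_zero, coeff_X_one,
      coeff_C_zero, coeff_C_succ, mul_zero, mul_one, zero_add, add_zero] at e0 e1
    simp only [mk] at e'
    rw [e0, e1, add_left_inj] at e'
    exact Prod.ext (Subtype.ext (mul_left_cancel₀ (pow_ne_zero 2 X_ne_zero) e')) (Subtype.ext (Prod.ext hu hv))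
  calc Fintype.card F ^ (m + 2) = Fintype.card F ^ m * Fintype.card F ^ 2 := pow_add _ _ _
    _ ≤ Fintype.card F ^ m * (2 * Nat.card P) :=
        Nat.mul_le_mul_left _ (two_mul_pairs hδ _ (pow_ne_zero _ (neg_ne_zero.2 one_ne_zero)))
    _ = 2 * Nat.card (G × P) := by rw [Nat.card_prod, hG]; ring
    _ ≤ _ := Nat.mul_le_mul_left 2 (Nat.card_le_card_of_injective Φ hΦ)

end Cfsg.Agent.Lib.Elem70.ClassesO
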