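import Cfsg.Agent.Lib.ClassesSp.Nilpotent
import Cfsg.Agent.Lib.JordanType.Conj
import Cfsg.Agent.Lib.Symplectic.Order
import Cfsg.Agent.Lib.Forms.Basis
import Cfsg.Agent.Lib.SemisimpleConj

/-!
Normal bases for a nilpotent skew endomorphism of an orthogonal space in odd characteristic:
the blocks of odd size carry a sign, the blocks of even size come in hyperbolic pairs.
Adapted from `Lib.ClassesSp.Nilpotent`.
-/

set_option autoImplicit false
set_option linter.unusedSectionVars false
set_option linter.style.haveILetI false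

namespace Cfsg.Agent.Lib.Elem70.ClassesO

open Module
open Cfsg.Agent.Lib.Symplectic (IsSympForm)
open Cfsg.Agent.Lib.ClassesSp (Skew Blk Idx shiftC map_sum_shift)

universe u v

variable {F : Type u} [Field F]

/-- The standard values of the leading form on the blocks of size `e`. -/
def std (α : F) (r e : ℕ) (s : Bool) (a b : ℕ) : F :=
  if Odd e then (if a = b then (if s = true ∧ a + 1 = r then α else 1) else 0)
  else (if a + r / 2 = b then -1 else if b + r / 2 = a then 1 else 0)

theorem std_exists_partner {α : F} (hα : α ≠ 0) {r e : ℕ} (hpar : Even e → Even r) (s : Bool) {a : ℕ}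
    (ha : a < r) : ∃ b, b < r ∧ std α r e s b a ≠ 0 ∧ ∀ a' < r, a' ≠ a → std α r e s b a' = 0 := by
  by_cases he : Odd e
  · refine ⟨a, ha, ?_, fun a' _ hne => ?_⟩
    · rw [std, if_pos he, if_pos rfl]; split <;> simp [hα]
    · rw [std, if_pos he, if_neg (Ne.symm hne)]
  · obtain ⟨m, rfl⟩ := hpar (Nat.not_odd_iff_even.1 he)
    have hm : (m + m) / 2 = m := by omega
    rcases Nat.lt_or_ge a m with h | h
    · refine ⟨a + m, by omega, ?_, fun a' ha' hne => ?_⟩
      · rw [std, if_neg he, hm, if_neg (by omega), if_pos rfl]; exact one_ne_zero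
      · rw [std, if_neg he, hm, if_neg (by omega), if_neg (by omega)]
    · refine ⟨a - m, by omega, ?_, fun a' ha' hne => ?_⟩
      · rw [std, if_neg he, hm, if_pos (by omega)]; exact neg_ne_zero.2 one_ne_zero
      · rw [std, if_neg he, hm, if_neg (by omega), if_neg (by omega)]

variable {V : Type v} [AddCommGroup V] [Module F V]

/-- A non-degenerate symmetric form. -/
structure IsSymmForm (B : V →ₗ[F] V →ₗ[F] F) : Prop where
  symm : ∀ x y, B x y = B y x
  nondeg : ∀ x, (∀ y, B x y = 0) → x = 0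

theorem IsSymmForm.comm_eq_zero {B : V →ₗ[F] V →ₗ[F] F} (hB : IsSymmForm B) {x y : V} :
    B x y = 0 ↔ B y x = 0 := by rw [hB.symm]

/-- A normal basis. -/
structure NF (B : V →ₗ[F] V →ₗ[F] F) (D : Module.End F V) (α : F) (N : ℕ) where
  r : ℕ → ℕ
  s : ℕ → Bool
  v : ℕ → ℕ → V
  bound : ∀ e, r e ≠ 0 → 1 ≤ e ∧ e ≤ N
  par : ∀ e, Even e → Even (r e)
  supp : ∀ e, s e = true → Odd e ∧ 0 < r e
  kill : ∀ e a, a < r e → (D ^ e) (v e a) = 0
  gram_eq : ∀ e a b k, a < r e → b < r e →
    B (v e a) ((D ^ k) (v e b)) = if k + 1 = e then std α (r e) e (s e) a b else 0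
  gram_ne : ∀ e e' a b k, e ≠ e' → a < r e → b < r e' → B (v e a) ((D ^ k) (v e' b)) = 0
  span : ⊤ ≤ Submodule.span F {x | ∃ e a i, a < r e ∧ i < e ∧ x = (D ^ i) (v e a)}

variable {B B' : V →ₗ[F] V →ₗ[F] F} {D : Module.End F V} {α : F} {N : ℕ}

namespace NF

variable (P : NF B D α N)

/-- The family of vectors. -/
def vec (p : Idx P.r N) : V := (D ^ (p.2 : ℕ)) (P.v p.1.1 p.1.2)

theorem vec_gram (hD : Skew B D) (p q : Idx P.r N) : B (P.vec p) (P.vec q) =
    (-1) ^ (p.2 : ℕ) * if (p.1.1 : ℕ) = q.1.1 ∧ (p.2 : ℕ) + q.2 + 1 = p.1.1 then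
      std α (P.r p.1.1) p.1.1 (P.s p.1.1) p.1.2 q.1.2 else 0 := by
  rw [vec, vec, hD.pow, ← Module.End.mul_apply, ← pow_add]
  congr 1
  obtain ⟨⟨⟨j, hj⟩, a⟩, i⟩ := p
  obtain ⟨⟨⟨j', hj'⟩, b⟩, i'⟩ := q
  by_cases h : j = j'
  · subst h
    rw [P.gram_eq _ _ _ _ a.2 b.2]
    exact if_congr (by simp) rfl rfl
  · rw [if_neg fun h' => h h'.1, P.gram_ne _ _ _ _ _ h a.2 b.2]

/-- The linear combination map. -/
noncomputable def comb : (Idx P.r N → F) →ₗ[F] V := Fintype.linearCombination F (M := V) P.vec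

theorem comb_apply (c : Idx P.r N → F) : P.comb c = ∑ p, c p • P.vec p :=
  Fintype.linearCombination_apply ..

theorem comb_bijective (hα : α ≠ 0) (hD : Skew B D) : Function.Bijective P.comb := by
  classical
  constructor
  · rw [injective_iff_map_eq_zero]
    intro c hc
    funext q
    obtain ⟨⟨⟨j, hj⟩, a⟩, i⟩ := q
    obtain ⟨b, hb, hb1, hb2⟩ := std_exists_partner hα (P.par j) (P.s j) a.2
    let p : Idx P.r N := ⟨⟨⟨j, hj⟩, ⟨b, hb⟩⟩, ⟨j - 1 - i, by have := i.2; simp only at this ⊢; omega⟩⟩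
    have h := congrArg (B (P.vec p)) hc
    rw [comb_apply, map_sum, map_zero,
      Finset.sum_eq_single (⟨⟨⟨j, hj⟩, a⟩, i⟩ : Idx P.r N) ?_ (by simp)] at h
    · rw [map_smul, smul_eq_mul, P.vec_gram hD, if_pos ⟨rfl, by
        have := i.2; simp only [p] at this ⊢; omega⟩, mul_eq_zero, mul_eq_zero] at h
      rcases h with h | h | h
      · exact h
      · exact absurd h (pow_ne_zero _ (neg_ne_zero.2 one_ne_zero))
      · exact absurd h hb1
    · intro q' _ hne
      obtain ⟨⟨⟨j', hj'⟩, a'⟩, i'⟩ := q'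
      rw [map_smul, smul_eq_mul, P.vec_gram hD]
      split_ifs with hcond
      · obtain ⟨h1, h2⟩ := hcond
        simp only [p] at h1 h2
        subst h1
        have hi' := i'.2
        have hi := i.2
        simp only at hi hi'
        obtain rfl : i' = i := Fin.ext (by omega)
        rw [hb2 _ a'.2 (fun h' => hne (by rw [Fin.ext h'])), mul_zero, mul_zero]
      · rw [mul_zero, mul_zero]
  · rw [← LinearMap.range_eq_top, eq_top_iff]
    refine P.span.trans (Submodule.span_le.2 ?_)
    rintro _ ⟨e, a, i, ha, hi, rfl⟩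
    have hb := P.bound e (by omega)
    refine ⟨Pi.single (⟨⟨⟨e, by omega⟩, ⟨a, ha⟩⟩, ⟨i, hi⟩⟩ : Idx P.r N) 1, ?_⟩
    rw [comb_apply, Finset.sum_eq_single (⟨⟨⟨e, by omega⟩, ⟨a, ha⟩⟩, ⟨i, hi⟩⟩ : Idx P.r N)
      (fun p _ hp => by rw [Pi.single_eq_of_ne hp, zero_smul]) (by simp), Pi.single_eq_same, one_smul]
    rfl

theorem map_comb (c : Idx P.r N → F) : D (P.comb c) = P.comb (shiftC c) := by
  simp only [comb_apply, Fintype.sum_sigma]
  rw [map_sum]
  refine Finset.sum_congr rfl fun j _ => ?_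
  rw [map_sum]
  refine Finset.sum_congr rfl fun a _ => ?_
  exact map_sum_shift D (fun i => c ⟨⟨j, a⟩, i⟩) (P.kill _ _ a.2)

theorem form_comb (hD : Skew B D) (c c' : Idx P.r N → F) : B (P.comb c) (P.comb c') =
    ∑ p, ∑ q, c p * (c' q * ((-1) ^ (p.2 : ℕ) *
      if (p.1.1 : ℕ) = q.1.1 ∧ (p.2 : ℕ) + q.2 + 1 = p.1.1 then
      std α (P.r p.1.1) p.1.1 (P.s p.1.1) p.1.2 q.1.2 else 0)) := by
  rw [comb_apply, comb_apply, LinearMap.map_sum₂]
  refine Finset.sum_congr rfl fun p _ => ?_
  rw [map_smul, LinearMap.smul_apply, smul_eq_mul, map_sum, Finset.mul_sum]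
  refine Finset.sum_congr rfl fun q _ => ?_
  rw [map_smul, smul_eq_mul, P.vec_gram hD]

/-- The coordinates of a normal basis. -/
noncomputable def coords (hα : α ≠ 0) (hD : Skew B D) :
    JordanType.Coords D (fun k : Blk P.r N => (k.1 : ℕ)) where
  E := (LinearEquiv.ofBijective P.comb (P.comb_bijective hα hD)).symm
  zero' x k h := by
    obtain ⟨c, rfl⟩ := (P.comb_bijective hα hD).2 x
    rw [P.map_comb, LinearEquiv.ofBijective_symm_apply_apply]
    simp [shiftC]
  succ' x k i h := by
    obtain ⟨c, rfl⟩ := (P.comb_bijective hα hD).2 x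
    rw [P.map_comb, LinearEquiv.ofBijective_symm_apply_apply, LinearEquiv.ofBijective_symm_apply_apply]
    simp [shiftC]

theorem card_blocks (e : ℕ) (he : e ≤ N) :
    (Finset.univ.filter fun k : Blk P.r N => (k.1 : ℕ) = e).card = P.r e := by
  classical
  rw [← Fintype.card_subtype]
  let φ : {k : Blk P.r N // (k.1 : ℕ) = e} ≃ Fin (P.r e) :=
    { toFun := fun k => Fin.cast (congrArg P.r k.2) k.1.2
      invFun := fun a => ⟨⟨⟨e, by omega⟩, a⟩, rfl⟩
      left_inv := by rintro ⟨⟨⟨j, hj⟩, a⟩, h⟩; simp only at h; subst h; rfl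
      right_inv := fun a => rfl }
  rw [Fintype.card_congr φ, Fintype.card_fin]

/-- The numbers of blocks do not depend on the form. -/
theorem r_eq [FiniteDimensional F V] (hα : α ≠ 0) (hD : Skew B D) (hD' : Skew B' D)
    (P' : NF B' D α N) : P.r = P'.r := by
  funext e
  by_cases he : 1 ≤ e ∧ e ≤ N
  · rw [← P.card_blocks e he.2, ← P'.card_blocks e he.2]
    exact JordanType.count_eq_of_coords (P.coords hα hD) (P'.coords hα hD') he.1
  · rw [show P.r e = 0 from by_contra fun h => he (P.bound e h),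
      show P'.r e = 0 from by_contra fun h => he (P'.bound e h)]

/-- Equal signs give an isometry commuting with `D`. -/
theorem exists_isometry [FiniteDimensional F V] (hα : α ≠ 0) (hD : Skew B D) (hD' : Skew B' D)
    (P' : NF B' D α N) (hs : P.s = P'.s) :
    ∃ e : V ≃ₗ[F] V, (∀ x, e (D x) = D (e x)) ∧ ∀ x y, B' (e x) (e y) = B x y := by
  have hr := P.r_eq hα hD hD' P'
  obtain ⟨r, s, v, h1, h2, h3, h4, h5, h6, h7⟩ := P
  obtain ⟨r', s', v', h1', h2', h3', h4', h5', h6', h7'⟩ := P'
  simp only at hr hs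
  subst hr hs
  let P : NF B D α N := ⟨r, s, v, h1, h2, h3, h4, h5, h6, h7⟩
  let P' : NF B' D α N := ⟨r, s, v', h1', h2', h3', h4', h5', h6', h7'⟩
  let φ := LinearEquiv.ofBijective P.comb (P.comb_bijective hα hD)
  let φ' := LinearEquiv.ofBijective P'.comb (P'.comb_bijective hα hD')
  refine ⟨φ.symm.trans φ', fun x => ?_, fun x y => ?_⟩
  · obtain ⟨c, rfl⟩ := φ.surjective x
    show φ' (φ.symm (D (P.comb c))) = D (φ' (φ.symm (φ c)))
    rw [LinearEquiv.symm_apply_apply, P.map_comb]
    show φ' (φ.symm (φ (shiftC c))) = D (P'.comb c)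
    rw [LinearEquiv.symm_apply_apply, P'.map_comb]
    rfl
  · obtain ⟨c, rfl⟩ := φ.surjective x
    obtain ⟨c', rfl⟩ := φ.surjective y
    simp only [LinearEquiv.trans_apply, LinearEquiv.symm_apply_apply]
    show B' (P'.comb c) (P'.comb c') = B (P.comb c) (P.comb c')
    rw [P'.form_comb hD', P.form_comb hD]

/-- Transport. -/
def map {V' : Type*} [AddCommGroup V'] [Module F V'] {C : V' →ₗ[F] V' →ₗ[F] F} {D' : Module.End F V'}
    (φ : V ≃ₗ[F] V') (hB : ∀ x y, C (φ x) (φ y) = B x y) (hD : ∀ x, D' (φ x) = φ (D x)) :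
    NF C D' α N :=
  have hpow : ∀ (i : ℕ) (x : V), (D' ^ i) (φ x) = φ ((D ^ i) x) := fun i => by
    induction i with
    | zero => intro x; rfl
    | succ i ih => intro x; rw [pow_succ, Module.End.mul_apply, hD, ih, ← Module.End.mul_apply, ← pow_succ]
  { r := P.r
    s := P.s
    v := fun e a => φ (P.v e a)
    bound := P.bound
    par := P.par
    supp := P.supp
    kill := fun e a ha => by rw [hpow, P.kill e a ha, map_zero]
    gram_eq := fun e a b k ha hb => by rw [hpow, hB, P.gram_eq e a b k ha hb]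
    gram_ne := fun e e' a b k h ha hb => by rw [hpow, hB, P.gram_ne e e' a b k h ha hb]
    span := by
      intro y _
      have h := Submodule.mem_map_of_mem (f := φ.toLinearMap) (P.span (Submodule.mem_top : φ.symm y ∈ ⊤))
      rw [Submodule.map_span, LinearEquiv.coe_coe, φ.apply_symm_apply] at h
      refine Submodule.span_mono ?_ h
      rintro _ ⟨_, ⟨e, a, i, ha, hi, rfl⟩, rfl⟩
      exact ⟨e, a, i, ha, hi, (hpow i _).symm⟩ }

end NF

/-! ### Existence -/

theorem exists_lead [Finite F] (h2 : (2 : F) ≠ 0) (hα : ¬ IsSquare α) {U : Type v} [AddCommGroup U]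
    [Module F U] [FiniteDimensional F U] (β : U →ₗ[F] U →ₗ[F] F) {e : ℕ}
    (hnd : ∀ x, (∀ y, β x y = 0) → x = 0) (hsymm : ∀ x y, β y x = (-1) ^ (e + 1) * β x y) :
    ∃ (r : ℕ) (s : Bool) (b : ℕ → U), (Even e → Even r) ∧ (s = true → Odd e ∧ 0 < r) ∧
      (⊤ ≤ Submodule.span F {x | ∃ a < r, x = b a}) ∧
      ∀ a c, a < r → c < r → β (b a) (b c) = std α r e s a c := by
  classical
  by_cases he : Odd e
  · rcases Nat.eq_zero_or_pos (finrank F U) with h0 | h0
    · refine ⟨0, false, fun _ => 0, fun h => absurd he (Nat.not_odd_iff_even.2 h), by simp, ?_,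
        fun a c ha => absurd ha (Nat.not_lt_zero a)⟩
      intro x _
      haveI := Module.finrank_zero_iff.1 h0
      rw [Subsingleton.elim x 0]; exact Submodule.zero_mem _
    · obtain ⟨n, hn⟩ : ∃ n, finrank F U = n + 1 := ⟨finrank F U - 1, by omega⟩
      have hS : ∀ x y, β x y = β y x := fun x y => by
        rw [hsymm x y, he.add_one.neg_one_pow, one_mul]
      obtain ⟨b, hb1, hb2, hb3⟩ := Forms.exists_orth_basis_symm h2 hα n β ⟨hS⟩
        ⟨hnd, fun y hy => hnd y fun x => (hS y x).trans (hy x)⟩ hn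
      have key : ∃ s : Bool, ∀ i : Fin (n + 1), β (b i) (b i) =
          if s = true ∧ (i : ℕ) + 1 = n + 1 then α else 1 := by
        rcases hb3 with h | h
        · refine ⟨false, fun i => ?_⟩
          by_cases hi : i = Fin.last n
          · rw [hi, h]; simp
          · rw [hb2 i hi]; simp
        · refine ⟨true, fun i => ?_⟩
          by_cases hi : i = Fin.last n
          · rw [hi, h]; simp
          · rw [hb2 i hi, if_neg]
            rintro ⟨-, h'⟩
            exact hi (Fin.ext (by simp; omega))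
      obtain ⟨s, hs⟩ := key
      refine ⟨n + 1, s, fun a => if h : a < n + 1 then b ⟨a, h⟩ else 0,
        fun h => absurd he (Nat.not_odd_iff_even.2 h), fun _ => ⟨he, by omega⟩, ?_, fun a c ha hc => ?_⟩
      · rw [← b.span_eq]
        refine Submodule.span_mono ?_
        rintro _ ⟨i, rfl⟩
        exact ⟨i, i.2, by simp [i.2]⟩
      · simp only [dif_pos ha, dif_pos hc]
        rw [std, if_pos he]
        by_cases h : a = c
        · subst h; rw [if_pos rfl, hs]
        · rw [if_neg h, hb1 _ _ (fun h' => h (congrArg Fin.val h'))]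
  · have halt : IsSympForm β := by
      refine ⟨fun x => ?_, hnd⟩
      have := hsymm x x
      rw [(Nat.not_odd_iff_even.1 he).add_one.neg_one_pow, neg_one_mul] at this
      exact (mul_eq_zero.1 (show (2 : F) * β x x = 0 by linear_combination this)).resolve_left h2
    obtain ⟨m, -, φ, hφ⟩ := Symplectic.exists_std halt
    refine ⟨m + m, false, fun a => if h : a < m + m then φ (Pi.single (finSumFinEquiv.symm ⟨a, h⟩) 1) else 0,
      fun _ => ⟨m, rfl⟩, by simp, ?_, fun a c ha hc => ?_⟩
    · intro x _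
      obtain ⟨c, rfl⟩ := φ.surjective x
      rw [show c = ∑ i, c i • (Pi.single i (1 : F) : Fin m ⊕ Fin m → F) from
        (Finset.sum_congr rfl fun i _ => rfl).trans (pi_eq_sum_univ' c).symm |>.symm, map_sum]
      refine Submodule.sum_mem _ fun i _ => ?_
      rw [map_smul]
      refine Submodule.smul_mem _ _ (Submodule.subset_span ⟨finSumFinEquiv i, Fin.is_lt _, ?_⟩)
      simp [Fin.is_lt]
    · simp only [dif_pos ha, dif_pos hc]
      rw [hφ, Symplectic.stdForm_apply, std, if_neg he,
        show (m + m) / 2 = m by omega]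
      obtain ⟨p, hp⟩ : ∃ p, finSumFinEquiv p = (⟨a, ha⟩ : Fin (m + m)) := ⟨_, Equiv.apply_symm_apply _ _⟩
      obtain ⟨p', hp'⟩ : ∃ p, finSumFinEquiv p = (⟨c, hc⟩ : Fin (m + m)) := ⟨_, Equiv.apply_symm_apply _ _⟩
      rw [← hp, ← hp', Equiv.symm_apply_apply, Equiv.symm_apply_apply]
      obtain rfl : (finSumFinEquiv p : ℕ) = a := congrArg Fin.val hp
      obtain rfl : (finSumFinEquiv p' : ℕ) = c := congrArg Fin.val hp'
      rcases p with i | i <;> rcases p' with i' | i'
      · show _ = if (i : ℕ) + m = i' then (-1 : F) else if (i' : ℕ) + m = i then 1 else 0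
        rw [if_neg (by omega), if_neg (by omega)]
        simp
      · show _ = if (i : ℕ) + m = m + (i' : ℕ) then (-1 : F) else if m + (i' : ℕ) + m = i then 1 else 0
        by_cases h : i = i'
        · subst h; rw [if_pos (by omega)]; simp [Pi.single_apply]
        · have h' : (i : ℕ) ≠ i' := fun h' => h (Fin.ext h')
          rw [if_neg (by omega), if_neg (by omega)]
          simp [Pi.single_apply, Ne.symm h]
      · show _ = if m + (i : ℕ) + m = i' then (-1 : F) else if (i' : ℕ) + m = m + (i : ℕ) then 1 else 0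
        by_cases h : i = i'
        · subst h; rw [if_neg (by omega), if_pos (by omega)]; simp [Pi.single_apply]
        · have h' : (i : ℕ) ≠ i' := fun h' => h (Fin.ext h')
          rw [if_neg (by omega), if_neg (by omega)]
          simp [Pi.single_apply, Ne.symm h]
      · show _ = if m + (i : ℕ) + m = m + (i' : ℕ) then (-1 : F) else if m + (i' : ℕ) + m = m + (i : ℕ) then 1 else 0
        rw [if_neg (by omega), if_neg (by omega)]
        simp

/-- Successive approximation of the leading generators. -/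
theorem exists_section [FiniteDimensional F V] (h2 : (2 : F) ≠ 0) (hB : IsSymmForm B) (hD : Skew B D)
    (hDN : D ^ (N + 1) = 0) (U : Submodule F V) (hU : IsCompl U (LinearMap.ker (D ^ N))) :
    ∀ m ≤ N, ∃ f : U →ₗ[F] V, (∀ u, (D ^ N) (f u) = (D ^ N) (u : V)) ∧
      ∀ u w k, N - m ≤ k → k < N → B (f u) ((D ^ k) (f w)) = 0 := by
  have hkill : ∀ k, N + 1 ≤ k → ∀ x : V, (D ^ k) x = 0 := fun k hk x => by
    rw [pow_eq_zero_of_le hk hDN]; rfl
  let β : U →ₗ[F] U →ₗ[F] F := B.compl₁₂ U.subtype ((D ^ N).comp U.subtype)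
  have hβ : ∀ u w : U, β u w = B (u : V) ((D ^ N) (w : V)) := fun u w => rfl
  have hβnd : ∀ w, (∀ u, β u w = 0) → w = 0 := by
    intro w hw
    have h0 : (D ^ N) (w : V) = 0 := hB.nondeg _ fun x => by
      obtain ⟨a, ha, b, hb, rfl⟩ :=
        Submodule.mem_sup.1 (hU.sup_eq_top ▸ Submodule.mem_top : x ∈ U ⊔ LinearMap.ker (D ^ N))
      rw [map_add, hB.symm _ a, hB.symm _ b, show B a ((D ^ N) (w : V)) = 0 from hw ⟨a, ha⟩]
      have := hD.pow N b (w : V)
      rw [LinearMap.mem_ker.1 hb, map_zero, LinearMap.zero_apply] at this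
      rw [(mul_eq_zero.1 this.symm).resolve_left (pow_ne_zero _ (neg_ne_zero.2 one_ne_zero)), add_zero]
    exact Subtype.ext (Submodule.disjoint_def.1 hU.disjoint _ w.2 h0)
  intro m
  induction m with
  | zero => exact fun _ => ⟨U.subtype, fun u => rfl, fun u w k h h' => absurd h' (by omega)⟩
  | succ m ih =>
    intro hm
    obtain ⟨f, hf, hfz⟩ := ih (by omega)
    set k₀ := N - (m + 1) with hk₀
    have hfβ : ∀ u w : U, B (f u) ((D ^ N) (f w)) = β u w := by
      intro u w
      have e1 := hD.pow N (f u) (w : V)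
      rw [hf u, hD.pow N (u : V) (w : V)] at e1
      rw [hf w, hβ]
      exact (mul_left_cancel₀ (pow_ne_zero _ (neg_ne_zero.2 one_ne_zero)) e1).symm
    have hsym : ∀ (k : ℕ) (x y : V), B y ((D ^ k) x) = (-1) ^ k * B x ((D ^ k) y) := by
      intro k x y
      rw [hB.symm y, hD.pow]
    obtain ⟨a, ha⟩ := SemisimpleConj.exists_rep hβnd
      ((-(2 : F)⁻¹) • B.compl₁₂ f ((D ^ k₀).comp f))
    have ha' : ∀ u w, β u (a w) = -(2 : F)⁻¹ * B (f u) ((D ^ k₀) (f w)) := fun u w => ha u w
    refine ⟨f + (D ^ (m + 1)).comp (f.comp a), fun u => ?_, fun u w k hk1 hk2 => ?_⟩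
    · rw [LinearMap.add_apply, map_add, hf, LinearMap.comp_apply, ← Module.End.mul_apply, ← pow_add,
        hkill (N + (m + 1)) (by omega), add_zero]
    · simp only [LinearMap.add_apply, LinearMap.comp_apply, map_add, hD.pow (m + 1), ← Module.End.mul_apply,
        ← pow_add]
      rw [hkill (m + 1 + (k + (m + 1))) (by omega), map_zero, mul_zero, add_zero]
      rcases eq_or_lt_of_le hk1 with rfl | hk
      · rw [show m + 1 + k₀ = N by omega, show k₀ + (m + 1) = N by omega, hfβ, hfβ, ha']
        have e2 : β (a u) w = (-1) ^ N * β w (a u) := by rw [hβ, hβ, hsym]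
        rw [e2, ha', hsym k₀ (f u) (f w)]
        have hpar : (-1 : F) ^ (m + 1) * ((-1) ^ N * (-1) ^ k₀) = 1 := by
          rw [← pow_add, ← pow_add]; exact Even.neg_one_pow ⟨N, by omega⟩
        field_simp
        linear_combination -(B (f u) ((D ^ k₀) (f w))) * hpar
      · rw [hfz u w k (by omega) hk2, hkill (m + 1 + k) (by omega), hkill (k + (m + 1)) (by omega),
          map_zero, map_zero, mul_zero, add_zero, add_zero]

/-- Normal bases exist. -/
theorem exists_nf [Finite F] (h2 : (2 : F) ≠ 0) (hα : ¬ IsSquare α) : ∀ (N : ℕ) {V : Type v}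
    [AddCommGroup V] [Module F V] [FiniteDimensional F V] (B : V →ₗ[F] V →ₗ[F] F) (D : Module.End F V),
    IsSymmForm B → Skew B D → D ^ N = 0 → Nonempty (NF B D α N) := by
  intro N
  induction N with
  | zero =>
    intro V _ _ _ B D hB hD hDN
    have hz : ∀ x : V, x = 0 := fun x => LinearMap.congr_fun hDN x
    exact ⟨⟨fun _ => 0, fun _ => false, fun _ _ => 0, fun e h => absurd rfl h, fun e _ => ⟨0, rfl⟩, by simp,
      fun e a ha => absurd ha (Nat.not_lt_zero a), fun e a b k ha => absurd ha (Nat.not_lt_zero a),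
      fun e e' a b k _ ha => absurd ha (Nat.not_lt_zero a), fun x _ => by rw [hz x]; exact Submodule.zero_mem _⟩⟩
  | succ N ih =>
    intro V _ _ _ B D hB hD hDN
    obtain ⟨U, hU⟩ := Submodule.exists_isCompl (LinearMap.ker (D ^ N))
    replace hU := hU.symm
    obtain ⟨f, hf, hfz⟩ := exists_section h2 hB hD hDN U hU N le_rfl
    have hkill : ∀ k, N + 1 ≤ k → ∀ x : V, (D ^ k) x = 0 := fun k hk x => by
      rw [pow_eq_zero_of_le hk hDN]; rfl
    let β : U →ₗ[F] U →ₗ[F] F := B.compl₁₂ f ((D ^ N).comp f)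
    have hβk : ∀ u w k, B (f u) ((D ^ k) (f w)) = if k = N then β u w else 0 := by
      intro u w k
      rcases lt_trichotomy k N with h | h | h
      · rw [if_neg h.ne, hfz u w k (by omega) h]
      · rw [if_pos h, h]; rfl
      · rw [if_neg h.ne', hkill k h, map_zero]
    have hsymm : ∀ u w, β w u = (-1) ^ (N + 1 + 1) * β u w := fun u w => by
      show B (f w) ((D ^ N) (f u)) = (-1) ^ (N + 1 + 1) * B (f u) ((D ^ N) (f w))
      rw [hB.symm, hD.pow, pow_succ, pow_succ]; ring
    have hsplit : ∀ x : V, ∃ u : U, (D ^ N) x = (D ^ N) (f u) := fun x => by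
      obtain ⟨a, ha, b, hb, rfl⟩ :=
        Submodule.mem_sup.1 (hU.sup_eq_top ▸ Submodule.mem_top : x ∈ U ⊔ LinearMap.ker (D ^ N))
      exact ⟨⟨a, ha⟩, by rw [hf, map_add, LinearMap.mem_ker.1 hb, add_zero]⟩
    have hne1 : ∀ k : ℕ, ((-1 : F)) ^ k ≠ 0 := fun k => pow_ne_zero _ (neg_ne_zero.2 one_ne_zero)
    have hβnd : ∀ u, (∀ w, β u w = 0) → u = 0 := by
      intro u hu
      have h0 : (D ^ N) (f u) = 0 := hB.nondeg _ fun x => by
        obtain ⟨w, hw⟩ := hsplit x
        rw [hD.pow, hw, show B (f u) ((D ^ N) (f w)) = 0 from hu w, mul_zero]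
      rw [hf] at h0
      exact Subtype.ext (Submodule.disjoint_def.1 hU.disjoint _ u.2 h0)
    have hβnd' : ∀ w, (∀ u, β u w = 0) → w = 0 := fun w hw => hβnd w fun u => by
      rw [hsymm, hw, mul_zero]
    obtain ⟨r₀, s₀, b, hpar, hsupp, hbspan, hbg⟩ := exists_lead h2 hα β hβnd hsymm
    -- the orthogonal complement
    let W : Submodule F V := ⨅ (k : ℕ) (u : U), LinearMap.ker ((B (f u)).comp (D ^ k))
    have hW : ∀ x, x ∈ W ↔ ∀ (k : ℕ) (u : U), B (f u) ((D ^ k) x) = 0 := fun x => by
      simp only [W, Submodule.mem_iInf]; rfl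
    have hWD : ∀ x ∈ W, D x ∈ W := fun x hx => (hW _).2 fun k u => by
      rw [← Module.End.mul_apply, ← pow_succ]; exact (hW x).1 hx _ u
    have hdual : ∀ φ : U →ₗ[F] F, ∃ w, ∀ u, β u w = φ u := by
      have hinj : Function.Injective β.flip := by
        rw [injective_iff_map_eq_zero]
        intro w hw
        exact hβnd' w fun u => LinearMap.congr_fun hw u
      let e := LinearMap.linearEquivOfInjective β.flip hinj Subspace.dual_finrank_eq.symm
      exact fun φ => ⟨e.symm φ, fun u => LinearMap.congr_fun (e.apply_symm_apply φ) u⟩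
    have hdec : ∀ x : V, ∃ w : Fin (N + 1) → U, x - ∑ i : Fin (N + 1), (D ^ (i : ℕ)) (f (w i)) ∈ W := by
      intro x
      choose w hw using fun i : Fin (N + 1) => hdual ((B.flip ((D ^ (N - (i : ℕ))) x)).comp f)
      refine ⟨w, (hW _).2 fun k u => ?_⟩
      rw [map_sub, map_sub, map_sum, map_sum]
      simp only [← Module.End.mul_apply, ← pow_add, hβk]
      rcases Nat.lt_or_ge k (N + 1) with hk | hk
      · rw [Finset.sum_eq_single (⟨N - k, by omega⟩ : Fin (N + 1))
          (fun i _ hi => if_neg fun h => hi (Fin.ext (by simp; omega))) (by simp), if_pos (by simp; omega), hw]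
        show B (f u) ((D ^ k) x) - B (f u) ((D ^ (N - (N - k))) x) = 0
        rw [show N - (N - k) = k by omega, sub_self]
      · rw [hkill k hk, map_zero, zero_sub, neg_eq_zero]
        exact Finset.sum_eq_zero fun i _ => if_neg (by omega)
    have hperp : ∀ (i : ℕ) (u : U), ∀ y ∈ W, B ((D ^ i) (f u)) y = 0 := fun i u y hy => by
      rw [hD.pow, (hW y).1 hy, mul_zero]
    let B₁ : W →ₗ[F] W →ₗ[F] F := B.compl₁₂ W.subtype W.subtype
    let D₁ : Module.End F W := D.restrict hWD
    have hB₁ : IsSymmForm B₁ := ⟨fun x y => hB.symm _ _, fun y hy => Subtype.ext (hB.nondeg _ fun x => by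
      obtain ⟨w, hw⟩ := hdec x
      have h1 : B (y : V) (x - ∑ i : Fin (N + 1), (D ^ (i : ℕ)) (f (w i))) = 0 := hy ⟨_, hw⟩
      rw [map_sub, map_sum, Finset.sum_eq_zero fun i _ => hB.comm_eq_zero.1 (hperp _ _ _ y.2), sub_zero] at h1
      exact h1)⟩
    have hpow : ∀ (k : ℕ) (x : W), (((D₁ ^ k) x : W) : V) = (D ^ k) (x : V) := fun k => by
      induction k with
      | zero => intro x; rfl
      | succ k ih => intro x; rw [pow_succ, Module.End.mul_apply, ih, pow_succ, Module.End.mul_apply]; rfl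
    have hDN₁ : D₁ ^ N = 0 := LinearMap.ext fun y => Subtype.ext <| by
      rw [hpow]
      refine hB.nondeg _ fun x => ?_
      obtain ⟨u, hu⟩ := hsplit x
      rw [hD.pow, hu, hB.symm, hperp N u y.1 y.2, mul_zero]
    obtain ⟨P⟩ := ih B₁ D₁ hB₁ (fun x y => hD _ _) hDN₁
    have hb0 : P.r (N + 1) = 0 := by_contra fun h => by have := P.bound _ h; omega
    refine ⟨{
      r := fun e => if e = N + 1 then r₀ else P.r e
      s := fun e => if e = N + 1 then s₀ else P.s e
      v := fun e a => if e = N + 1 then f (b a) else (P.v e a : V)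
      bound := fun e h => ?_
      par := fun e h => ?_
      supp := fun e h => ?_
      kill := fun e a ha => ?_
      gram_eq := fun e a c k ha hc => ?_
      gram_ne := fun e e' a c k hne ha hc => ?_
      span := ?_ }⟩
    · split_ifs at h with he
      · exact ⟨by omega, by omega⟩
      · exact ⟨(P.bound e h).1, by have := (P.bound e h).2; omega⟩
    · split_ifs with he
      · subst he; exact hpar h
      · exact P.par e h
    · split_ifs at h ⊢ with he
      · subst he; exact hsupp h
      · exact P.supp e h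
    · by_cases he : e = N + 1
      · subst he; rw [if_pos rfl]; exact hkill _ le_rfl _
      · rw [if_neg he] at ha ⊢
        rw [← hpow, P.kill e a ha]; rfl
    · by_cases he : e = N + 1
      · subst he
        simp only [if_true] at ha hc ⊢
        rw [hβk, hbg a c ha hc]
        exact if_congr (by omega) rfl rfl
      · simp only [if_neg he] at ha hc ⊢
        rw [← hpow]
        exact P.gram_eq e a c k ha hc
    · by_cases he : e = N + 1
      · subst he
        simp only [if_true, if_neg hne.symm] at ha hc ⊢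
        exact (hW _).1 (P.v e' c).2 k _
      · by_cases he' : e' = N + 1
        · subst he'
          simp only [if_true, if_neg he] at ha hc ⊢
          rw [hB.symm, hperp k _ _ (P.v e a).2]
        · simp only [if_neg he, if_neg he'] at ha hc ⊢
          rw [← hpow]
          exact P.gram_ne e e' a c k hne ha hc
    · intro x _
      obtain ⟨w, hw⟩ := hdec x
      set S := {x : V | ∃ e a i, a < (if e = N + 1 then r₀ else P.r e) ∧ i < e ∧
        x = (D ^ i) (if e = N + 1 then f (b a) else (P.v e a : V))} with hS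
      have h1 : ∀ y : W, (y : V) ∈ Submodule.span F S := by
        intro y
        have h := Submodule.mem_map_of_mem (f := W.subtype) (P.span (Submodule.mem_top : y ∈ ⊤))
        rw [Submodule.map_span] at h
        refine Submodule.span_mono ?_ h
        rintro _ ⟨_, ⟨e, a, i, ha, hi, rfl⟩, rfl⟩
        have he : e ≠ N + 1 := fun h' => by subst h'; omega
        exact ⟨e, a, i, by rwa [if_neg he], hi, by rw [if_neg he]; exact hpow i _⟩
      have h2 : ∀ i : Fin (N + 1), (D ^ (i : ℕ)) (f (w i)) ∈ Submodule.span F S := by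
        intro i
        have h := Submodule.mem_map_of_mem (f := (D ^ (i : ℕ)).comp f) (hbspan (Submodule.mem_top : w i ∈ ⊤))
        rw [Submodule.map_span] at h
        refine Submodule.span_mono ?_ h
        rintro _ ⟨_, ⟨a, ha, rfl⟩, rfl⟩
        exact ⟨N + 1, a, i, by rwa [if_pos rfl], i.2, by rw [if_pos rfl]; rfl⟩
      have := Submodule.add_mem _ (h1 ⟨_, hw⟩) (Submodule.sum_mem _ (t := Finset.univ) fun i _ => h2 i)
      simpa using this

end Cfsg.Agent.Lib.Elem70.ClassesO
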