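import Cfsg.Agent.Lib.Elem70.ClassesO.Code

/-!
The signs of an orthogonal matrix are unique and invariant under congruence.
-/

set_option autoImplicit false
set_option linter.unusedSectionVars false
set_option linter.style.haveILetI false

namespace Cfsg.Agent.Lib.Elem70.ClassesO

open Module
open Cfsg.Agent.Lib.Symplectic (restr)
open Cfsg.Agent.Lib.ClassesSp (Skew Idx shiftC shiftT shiftT_apply isUnit_shiftT_neg)

universe u v

variable {F : Type u} [Field F] {V : Type v} [AddCommGroup V] [Module F V]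
variable {B : V →ₗ[F] V →ₗ[F] F} {D : Module.End F V} {α : F} {N : ℕ}

theorem iterate_shiftC {r : ℕ → ℕ} (e : ℕ) (c : Idx r N → F) (p : Idx r N) :
    shiftC^[e] c p = if h : e ≤ (p.2 : ℕ) then c ⟨p.1, ⟨(p.2 : ℕ) - e, by omega⟩⟩ else 0 := by
  induction e generalizing c with
  | zero => simp
  | succ e ih =>
    rw [Function.iterate_succ_apply, ih]
    by_cases h : e ≤ (p.2 : ℕ)
    · rw [dif_pos h, shiftC]
      by_cases h' : e + 1 ≤ (p.2 : ℕ)
      · rw [dif_pos h', if_neg (by simp only; omega)]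
        congr 2
      · rw [dif_neg h', if_pos (by simp only; omega)]
    · rw [dif_neg h, dif_neg (by omega)]

theorem NF.s_unique [FiniteDimensional F V] (hα : ¬ IsSquare α) (hD : Skew B D) (P P' : NF B D α N) :
    P.s = P'.s := by
  classical
  have hα0 : α ≠ 0 := fun h => hα (h ▸ IsSquare.zero)
  have hr := P.r_eq hα0 hD hD P'
  funext e
  by_cases hgo : Odd e ∧ 0 < P.r e
  swap
  · rw [Bool.eq_false_iff.2 fun h => hgo (P.supp e h), Bool.eq_false_iff.2 fun h => hgo ⟨(P'.supp e h).1, by
      rw [hr]; exact (P'.supp e h).2⟩]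
  obtain ⟨ho, hpos⟩ := hgo
  obtain ⟨he1, heN⟩ := P.bound e hpos.ne'
  let φ := LinearEquiv.ofBijective P.comb (P.comb_bijective hα0 hD)
  let c : Fin (P.r e) → Idx P.r N → F := fun a => φ.symm (P'.v e a)
  have hc : ∀ a, P.comb (c a) = P'.v e a := fun a => φ.apply_symm_apply _
  have hkill : ∀ (a : Fin (P.r e)) (p : Idx P.r N), (p.2 : ℕ) + e < (p.1.1 : ℕ) → c a p = 0 := by
    intro a p hp
    have hit : ∀ (k : ℕ) (d : Idx P.r N → F), (D ^ k) (P.comb d) = P.comb (shiftC^[k] d) := fun k => by
      induction k with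
      | zero => intro d; rfl
      | succ k ih => intro d; rw [pow_succ, Module.End.mul_apply, P.map_comb, ih, Function.iterate_succ_apply]
    have h0 : shiftC^[e] (c a) = 0 := (P.comb_bijective hα0 hD).1 (by
      rw [map_zero, ← hit, hc, P'.kill e a (hr ▸ a.2)])
    have h1 := congrFun h0 ⟨p.1, ⟨(p.2 : ℕ) + e, hp⟩⟩
    rw [iterate_shiftC, dif_pos (by simp only; omega)] at h1
    simp only [Pi.zero_apply] at h1
    convert h1 using 2
    exact Sigma.ext rfl (heq_of_eq (Fin.ext (by simp)))
  let M : Matrix (Fin (P.r e)) (Fin (P.r e)) F :=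
    Matrix.of fun a i => c a ⟨⟨⟨e, by omega⟩, i⟩, ⟨0, by simp only; omega⟩⟩
  let G : Bool → Matrix (Fin (P.r e)) (Fin (P.r e)) F := fun s =>
    Matrix.diagonal fun a => if s = true ∧ (a : ℕ) + 1 = P.r e then α else 1
  have hG : ∀ (s : Bool) (a b : Fin (P.r e)), std α (P.r e) e s a b = G s a b := by
    intro s a b
    rw [std, if_pos ho]
    by_cases hab : a = b
    · subst hab; simp [G]
    · rw [if_neg fun h => hab (Fin.ext h)]; simp [G, hab]
  have key : G (P'.s e) = M * G (P.s e) * M.transpose := by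
    ext a b
    rw [← hG, Matrix.mul_apply]
    have h := P'.gram_eq e a b (e - 1) (hr ▸ a.2) (hr ▸ b.2)
    rw [if_pos (by omega), ← hr, ← hc a, ← hc b] at h
    rw [← h]
    simp only [Matrix.mul_apply, Matrix.transpose_apply, Finset.sum_mul]
    rw [Finset.sum_comm]
    have hexp : B (P.comb (c a)) ((D ^ (e - 1)) (P.comb (c b))) =
        ∑ p, ∑ q, c a p * (c b q * B (P.vec p) ((D ^ (e - 1)) (P.vec q))) := by
      rw [P.comb_apply, P.comb_apply, LinearMap.map_sum₂]
      refine Finset.sum_congr rfl fun p _ => ?_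
      rw [map_smul, LinearMap.smul_apply, smul_eq_mul, map_sum, map_sum, Finset.mul_sum]
      refine Finset.sum_congr rfl fun q _ => ?_
      rw [map_smul, map_smul, smul_eq_mul]
    rw [hexp]
    let ι₀ : Fin (P.r e) ↪ Idx P.r N :=
      ⟨fun i => ⟨⟨⟨e, by omega⟩, i⟩, ⟨0, by simp only; omega⟩⟩, fun i j h => by
        have := congrArg (fun p : Idx P.r N => p.1) h
        simpa using this⟩
    have hvan : ∀ p q : Idx P.r N, c a p * (c b q * B (P.vec p) ((D ^ (e - 1)) (P.vec q))) ≠ 0 →
        p ∈ Finset.univ.map ι₀ ∧ q ∈ Finset.univ.map ι₀ := by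
      intro p q hne
      have h1 : c a p ≠ 0 := fun h => hne (by rw [h, zero_mul])
      have h2 : c b q ≠ 0 := fun h => hne (by rw [h, zero_mul, mul_zero])
      have h3 : B (P.vec p) ((D ^ (e - 1)) (P.vec q)) ≠ 0 := fun h => hne (by rw [h, mul_zero, mul_zero])
      have g1 : (p.1.1 : ℕ) ≤ p.2 + e := not_lt.1 fun h => h1 (hkill a p h)
      have g2 : (q.1.1 : ℕ) ≤ q.2 + e := not_lt.1 fun h => h2 (hkill b q h)
      rw [NF.vec, NF.vec, hD.pow, ← Module.End.mul_apply, ← Module.End.mul_apply, ← pow_add, ← pow_add] at h3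
      obtain ⟨⟨⟨f, hf⟩, i⟩, ⟨k, hk⟩⟩ := p
      obtain ⟨⟨⟨f', hf'⟩, i'⟩, ⟨k', hk'⟩⟩ := q
      simp only at g1 g2 h3 hk hk'
      by_cases hff : f = f'
      · subst hff
        rw [P.gram_eq f i i' _ i.2 i'.2] at h3
        split_ifs at h3 with hcond
        · have hfe : f = e := by omega
          subst hfe
          obtain rfl : k = 0 := by omega
          obtain rfl : k' = 0 := by omega
          exact ⟨Finset.mem_map.2 ⟨i, Finset.mem_univ _, rfl⟩, Finset.mem_map.2 ⟨i', Finset.mem_univ _, rfl⟩⟩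
        · simp at h3
      · rw [P.gram_ne f f' i i' _ hff i.2 i'.2, mul_zero] at h3
        exact absurd rfl h3
    rw [← Finset.sum_subset (Finset.subset_univ (Finset.univ.map ι₀)) (fun p _ hp => ?_), Finset.sum_map]
    · refine Finset.sum_congr rfl fun i _ => ?_
      rw [← Finset.sum_subset (Finset.subset_univ (Finset.univ.map ι₀)) (fun q _ hq => ?_), Finset.sum_map]
      · refine Finset.sum_congr rfl fun j _ => ?_
        show c a (ι₀ i) * (c b (ι₀ j) * B (P.v e i) ((D ^ (e - 1)) (P.v e j))) = _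
        rw [P.gram_eq e i j (e - 1) i.2 j.2, if_pos (by omega), hG]
        simp only [M, Matrix.of_apply]
        show c a (ι₀ i) * (c b (ι₀ j) * G (P.s e) i j) = c a (ι₀ i) * G (P.s e) i j * c b (ι₀ j)
        ring
      · by_contra h'; exact hq (hvan _ q h').2
    · refine Finset.sum_eq_zero fun q _ => ?_
      by_contra h'; exact hp (hvan p q h').1
  have hdG : ∀ s, (G s).det = if s = true then α else 1 := by
    intro s
    rw [Matrix.det_diagonal, Fintype.prod_eq_single (⟨P.r e - 1, by omega⟩ : Fin (P.r e)) fun i hi => if_neg fun h =>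
      hi (Fin.ext (by simp only; omega))]
    exact if_congr (and_iff_left (by simp only; omega)) rfl rfl
  have hd := congrArg Matrix.det key
  rw [Matrix.det_mul, Matrix.det_mul, Matrix.det_transpose, hdG, hdG] at hd
  cases hs : P.s e <;> cases hs' : P'.s e <;> simp only [hs, hs', if_true, Bool.false_eq_true, if_false] at hd ⊢
  · exact (hα ⟨M.det, by linear_combination hd⟩).elim
  · refine (hα ⟨M.det⁻¹, ?_⟩).elim
    have : M.det ≠ 0 := fun h => by rw [h] at hd; simp at hd
    field_simp
    linear_combination -hd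

theorem HasCode.unique [FiniteDimensional F V] {T : Module.End F V} {ε : F} {s s' : ℕ → Bool}
    (h2 : (2 : F) ≠ 0) (hα : ¬ IsSquare α) (hε : ε * ε = 1) (hnil : shiftT T ε ^ N = 0)
    (h : HasCode B T ε α N s) (h' : HasCode B T ε α N s') : s = s' := by
  obtain ⟨D, hD, hskew, P, rfl⟩ := h
  obtain ⟨D', hD', -, P', rfl⟩ := h'
  obtain rfl : D = D' := (isUnit_shiftT_neg h2 hε hnil).mul_left_inj.1 (hD.trans hD'.symm)
  exact P.s_unique hα hskew P'

section

variable [Fintype F] {M : ℕ}

theorem Valid.unique (h2 : (2 : F) ≠ 0) (hα : ¬ IsSquare α) {S : Matrix (Fin M) (Fin M) F} {x : GL (Fin M) F}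
    {c c' : Fin M → Polynomial F × Bool × Bool} (h : Valid α S x c) (h' : Valid α S x c') : c = c' := by
  obtain ⟨sp, sm, hp, hm, hc⟩ := h
  obtain ⟨sp', sm', hp', hm', hc'⟩ := h'
  have e1 : sp = sp' := HasCode.unique h2 hα (one_mul 1) (eig_nil x 1) hp hp'
  have e2 : sm = sm' := HasCode.unique h2 hα (by norm_num) (eig_nil x (-1)) hm hm'
  funext j
  rw [hc, hc', e1, e2]

theorem Valid.transport {S S' : Matrix (Fin M) (Fin M) F} {x y : GL (Fin M) F} {P : GL (Fin M) F}
    (hP : (P : Matrix (Fin M) (Fin M) F).transpose * S' * P = S) (hxy : P * x = y * P)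
    {c : Fin M → Polynomial F × Bool × Bool} (h : Valid α S x c) : Valid α S' y c := by
  obtain ⟨sp, sm, hp, hm, hc⟩ := h
  have hinv : ClassesSL.invT x = ClassesSL.invT y :=
    ClassesSL.invT_eq_iff.2 (isConj_iff.2 ⟨P, by rw [hxy, mul_inv_cancel_right]⟩)
  let g : (Fin M → F) ≃ₗ[F] (Fin M → F) := LinearEquiv.ofBijective _ (lin_bijective P)
  have hgT : ∀ v, g (lin x v) = lin y (g v) := fun v => by
    show lin P (lin x v) = lin y (lin P v)
    simp only [lin, Matrix.toLin'_apply, Matrix.mulVec_mulVec, ← Units.val_mul, hxy]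
  have heq : ∀ (ε : F) (s : ℕ → Bool), Signs S x ε α s → Signs S' y ε α s := by
    intro ε s hs
    have hpow : ∀ (k : ℕ) v, g ((shiftT (lin x) ε ^ k) v) = (shiftT (lin y) ε ^ k) (g v) := fun k => by
      induction k with
      | zero => intro v; rfl
      | succ k ih =>
        intro v
        rw [pow_succ, pow_succ, Module.End.mul_apply, Module.End.mul_apply, ih, shiftT_apply, shiftT_apply,
          map_sub, map_smul, hgT]
    let ψ : eig x ε ≃ₗ[F] eig y ε :=
      { toFun := fun v => ⟨g v.1, by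
          show (shiftT (lin y) ε ^ M) (g v.1) = 0
          rw [← hpow, show (shiftT (lin x) ε ^ M) v.1 = 0 from v.2, map_zero]⟩
        map_add' := fun v w => Subtype.ext (map_add g _ _)
        map_smul' := fun a v => Subtype.ext (map_smul g _ _)
        invFun := fun v => ⟨g.symm v.1, g.injective (by
          rw [hpow, g.apply_symm_apply, map_zero]; exact v.2)⟩
        left_inv := fun v => Subtype.ext (g.symm_apply_apply _)
        right_inv := fun v => Subtype.ext (g.apply_symm_apply _) }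
    refine HasCode.map hs ψ (fun u v => ?_) (fun v => Subtype.ext ?_)
    · show bf S' (lin P u.1) (lin P v.1) = bf S u.1 v.1
      rw [lin, bf_congr, hP]
    · show g (lin x v.1) = lin y (g v.1)
      rw [hgT]
  exact ⟨sp, sm, heq 1 sp hp, heq (-1) sm hm, fun j => by rw [hc j, hinv]⟩

end

end Cfsg.Agent.Lib.Elem70.ClassesO
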