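import Cfsg.Agent.Lib.Elem70.ClassesO.Twist

/-!
Upper bound for the number of classes of an even dimensional orthogonal group in odd characteristic.
-/

set_option autoImplicit false
set_option linter.unusedSectionVars false
set_option linter.style.haveILetI false

namespace Cfsg.Agent.Lib.Elem70.ClassesO

open Polynomial Module
open Cfsg.Agent.Lib.ClassesSL
open Cfsg.Agent.Lib.ClassesSp (FlC odd_component)

universe u

variable {F : Type u} [Field F] [Fintype F] {N : ℕ}

/-- A sign at a root `±1` of an odd exponent can be changed. -/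
def CanFlip (ε : F) (c : Fin N → F[X] × Bool × Bool) (j : Fin N) : Prop :=
  Odd ((j : ℕ) + 1) ∧ (c j).1.eval ε = 0

open Classical in
/-- Change the first available sign. -/
noncomputable def flip (c : Fin N → F[X] × Bool × Bool) : Fin N → F[X] × Bool × Bool :=
  if h : ∃ j, CanFlip 1 c j then Function.update c h.choose ((c h.choose).1, !(c h.choose).2.1, (c h.choose).2.2)
  else if h' : ∃ j, CanFlip (-1) c j then
    Function.update c h'.choose ((c h'.choose).1, (c h'.choose).2.1, !(c h'.choose).2.2)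
  else c

theorem flip_fst (c : Fin N → F[X] × Bool × Bool) (j : Fin N) : (flip c j).1 = (c j).1 := by
  classical
  rw [flip]
  split_ifs with h h'
  · rcases eq_or_ne j h.choose with hj | hj
    · rw [hj, Function.update_self]
    · rw [Function.update_of_ne hj]
  · rcases eq_or_ne j h'.choose with hj | hj
    · rw [hj, Function.update_self]
    · rw [Function.update_of_ne hj]
  · rfl

theorem flip_injective : Function.Injective (flip (F := F) (N := N)) := by
  classical
  intro c d h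
  have h1 : ∀ j, (c j).1 = (d j).1 := fun j => by rw [← flip_fst c, h, flip_fst]
  have hP : ∀ ε, CanFlip ε c = CanFlip ε d := fun ε => funext fun j => by rw [CanFlip, CanFlip, h1]
  have hchoose : ∀ (p p' : Fin N → Prop) (a : ∃ j, p j) (b : ∃ j, p' j), p = p' → a.choose = b.choose := by
    intro p p' a b e; subst e; rfl
  funext j
  have hj := congrFun h j
  by_cases hc : ∃ j, CanFlip 1 c j
  · have hd : ∃ j, CanFlip 1 d j := (hP 1) ▸ hc
    rw [flip, dif_pos hc, flip, dif_pos hd, ← hchoose _ _ hc hd (hP 1)] at hj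
    rcases eq_or_ne j hc.choose with e | e
    · subst e
      rw [Function.update_self, Function.update_self] at hj
      simp only [Prod.mk.injEq] at hj
      obtain ⟨e1, e2, e3⟩ := hj
      refine Prod.ext e1 (Prod.ext ?_ e3)
      exact Bool.not_inj e2
    · rwa [Function.update_of_ne e, Function.update_of_ne e] at hj
  · have hd : ¬ ∃ j, CanFlip 1 d j := (hP 1) ▸ hc
    by_cases hc' : ∃ j, CanFlip (-1) c j
    · have hd' : ∃ j, CanFlip (-1) d j := (hP (-1)) ▸ hc'
      rw [flip, dif_neg hc, dif_pos hc', flip, dif_neg hd, dif_pos hd', ← hchoose _ _ hc' hd' (hP (-1))] at hj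
      rcases eq_or_ne j hc'.choose with e | e
      · subst e
        rw [Function.update_self, Function.update_self] at hj
        simp only [Prod.mk.injEq] at hj
        obtain ⟨e1, e2, e3⟩ := hj
        refine Prod.ext e1 (Prod.ext e2 ?_)
        exact Bool.not_inj e3
      · rwa [Function.update_of_ne e, Function.update_of_ne e] at hj
    · have hd' : ¬ ∃ j, CanFlip (-1) d j := (hP (-1)) ▸ hc'
      rwa [flip, dif_neg hc, dif_neg hc', flip, dif_neg hd, dif_neg hd'] at hj

/-- The invariants that occur for forms with determinant in the class of `δ`. -/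
def Codes (α δ : F) (N : ℕ) : Set (Fin N → F[X] × Bool × Bool) :=
  {c | ∃ (S : Matrix (Fin N) (Fin N) F) (x : GL (Fin N) F),
    S.IsSymm ∧ S.det ≠ 0 ∧ SameClass S.det δ ∧ x ∈ OS S ∧ Valid α S x c}

/-- No sign can be changed. -/
def NoFlip (N : ℕ) : Set (Fin N → F[X] × Bool × Bool) := {c | ∀ ε : F, ε * ε = 1 → ∀ j, ¬ CanFlip ε c j}

theorem flip_mem (h2 : (2 : F) ≠ 0) {α δ : F} (hα : α ≠ 0) {c : Fin N → F[X] × Bool × Bool}
    (hc : c ∈ Codes α δ N) (hn : c ∉ NoFlip (F := F) N) : flip c ∈ Codes α (α * δ) N := by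
  classical
  obtain ⟨S, x, hS, hd, hδ, hx, sp, sm, hsp, hsm, hc⟩ := hc
  have hB := bf_isSymm hS hd
  have hcls : ∀ {a : F}, SameClass a (α * S.det) → SameClass a (α * δ) := by
    rintro a ⟨d, hd0, rfl⟩
    obtain ⟨k, hk, e⟩ := hδ
    exact ⟨d * k, mul_ne_zero hd0 hk, by rw [e]; ring⟩
  have hne : ∀ {S₂ : Matrix (Fin N) (Fin N) F}, SameClass S₂.det (α * S.det) → S₂.det ≠ 0 := by
    rintro S₂ ⟨d, hd0, e⟩
    rw [e]; exact mul_ne_zero (mul_ne_zero hd0 hd0) (mul_ne_zero hα hd)
  rw [flip]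
  split_ifs with h h'
  · obtain ⟨ho, hr⟩ := h.choose_spec
    rw [hc] at hr
    obtain ⟨S₂, hS₂, hd₂, hx₂, hm₂, s', hs', he⟩ :=
      exists_twist_valid h2 hα hB hx (one_mul 1) hsp hsm h.choose ho hr
    refine ⟨S₂, x, hS₂, hne hd₂, hcls hd₂, hx₂, s', sm, hs', hm₂, fun j => ?_⟩
    rcases eq_or_ne j h.choose with e | e
    · rw [e, Function.update_self, hc, he, if_pos rfl]
    · rw [Function.update_of_ne e, hc, he, if_neg fun e' => e (Fin.ext (by omega))]
  · obtain ⟨ho, hr⟩ := h'.choose_spec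
    rw [hc] at hr
    obtain ⟨S₂, hS₂, hd₂, hx₂, hm₂, s', hs', he⟩ :=
      exists_twist_valid h2 hα hB hx (ε := -1) (by norm_num) hsm (s₂ := sp) (by rwa [neg_neg]) h'.choose ho hr
    rw [neg_neg] at hm₂
    refine ⟨S₂, x, hS₂, hne hd₂, hcls hd₂, hx₂, sp, s', hm₂, hs', fun j => ?_⟩
    rcases eq_or_ne j h'.choose with e | e
    · rw [e, Function.update_self, hc, he, if_pos rfl]
    · rw [Function.update_of_ne e, hc, he, if_neg fun e' => e (Fin.ext (by omega))]
  · refine absurd (fun ε hε j hj => ?_) hn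
    rcases mul_self_eq_one_iff.1 hε with rfl | rfl
    · exact h ⟨j, hj⟩
    · exact h' ⟨j, hj⟩

theorem codes_sub (h2 : (2 : F) ≠ 0) {α δ : F} (hα : α ≠ 0) {c : Fin N → F[X] × Bool × Bool}
    (hc : c ∈ Codes α δ N) : (∀ j : Fin N, PosC ((j : ℕ) + 1) (c j)) ∧ wt c = N := by
  obtain ⟨S, x, -, hd, -, hx, hv⟩ := hc
  exact valid_mem h2 hα hd hx hv

theorem codes_noflip_sub (h2 : (2 : F) ≠ 0) {α δ : F} (hα : α ≠ 0) {c : Fin N → F[X] × Bool × Bool}
    (hc : c ∈ Codes α δ N) (hn : c ∈ NoFlip (F := F) N) : (∀ j : Fin N, Plain (c j)) ∧ wt c = N := by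
  obtain ⟨hp, hw⟩ := codes_sub h2 hα hc
  refine ⟨fun j => ?_, hw⟩
  have h := hp j
  rw [PosC] at h
  split_ifs at h with ho
  · have hz : ∀ ε : F, ε * ε = 1 → rootMultiplicity ε (c j).1 = 0 := fun ε hε =>
      rootMultiplicity_eq_zero fun hr => hn ε hε j ⟨ho, hr⟩
    obtain ⟨h1, h3⟩ := odd_component h2 h.1 (by rw [hz 1 (one_mul 1)]; exact Even.zero)
      (by rw [hz (-1) (by norm_num)]; exact Even.zero)
    exact ⟨h.1, h1, h3, Bool.eq_false_iff.2 fun e => hn 1 (one_mul 1) j ⟨ho, h.2.1 e⟩,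
      Bool.eq_false_iff.2 fun e => hn (-1) (by norm_num) j ⟨ho, h.2.2 e⟩⟩
  · exact h

theorem codes_disjoint (h2 : (2 : F) ≠ 0) {α δ : F} (hα : ¬ IsSquare α) (hδ : δ ≠ 0) (hN : 1 ≤ N)
    {c : Fin N → F[X] × Bool × Bool} (hc : c ∈ Codes α δ N) : c ∉ Codes α (α * δ) N := by
  rintro ⟨S', y, hS', hd', hδ', hy, hv'⟩
  obtain ⟨S, x, hS, hd, hδs, hx, hv⟩ := hc
  have hα0 : α ≠ 0 := fun h => hα (h ▸ IsSquare.zero)
  obtain ⟨P, hP, -⟩ := exists_congr_of_valid h2 hα0 hN (bf_isSymm hS hd) (bf_isSymm hS' hd') hx hy hv hv'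
  obtain ⟨d, hd0, e⟩ := (hδs.symm.trans (sameClass_congr hP)).trans hδ'
  refine hα ⟨d⁻¹, ?_⟩
  have e2 : d * d * α = 1 := mul_right_cancel₀ hδ (by linear_combination -e)
  field_simp
  linear_combination e2

theorem card_classes_le_codes (h2 : (2 : F) ≠ 0) {α : F} (hα : ¬ IsSquare α) (hN : 1 ≤ N)
    {S : Matrix (Fin N) (Fin N) F} (hS : S.IsSymm) (hd : S.det ≠ 0) (hfin : (Codes α S.det N).Finite) :
    Nat.card (ConjClasses (OS S)) ≤ (Codes α S.det N).ncard := by
  classical
  have hB := bf_isSymm hS hd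
  have hα0 : α ≠ 0 := fun h => hα (h ▸ IsSquare.zero)
  choose c hc using fun g : OS S => exists_valid h2 hα hB g.2
  have hmem : ∀ g : OS S, c g ∈ Codes α S.det N := fun g =>
    ⟨S, g.1, hS, hd, ⟨1, one_ne_zero, by ring⟩, g.2, hc g⟩
  haveI := hfin.to_subtype
  rw [← Nat.card_coe_set_eq]
  refine Nat.card_le_card_of_injective
    (fun C : ConjClasses (OS S) => (⟨c (Quotient.out C), hmem _⟩ : Codes α S.det N)) fun C C' h => ?_
  rw [← Quotient.out_eq C, ← Quotient.out_eq C']
  set g := Quotient.out C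
  set g' := Quotient.out C'
  have h' : c g = c g' := congrArg Subtype.val h
  obtain ⟨P, hP, hPx⟩ := exists_congr_of_valid h2 hα0 hN hB hB g.2 g'.2 (hc g) (by rw [h']; exact hc g')
  refine Quotient.sound (isConj_iff.2 ⟨⟨P, mem_OS.2 hP⟩, Subtype.ext ?_⟩)
  show P * g.1 * P⁻¹ = g'.1
  rw [hPx, mul_inv_cancel_right]

/-- The upper bound. -/
theorem two_mul_card_le (h2 : (2 : F) ≠ 0) {n : ℕ} (hn : 1 ≤ n) {S : Matrix (Fin (n + n)) (Fin (n + n)) F}
    (hS : S.IsSymm) (hd : S.det ≠ 0) :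
    2 * Nat.card (ConjClasses (OS S)) ≤
      K (cO (Fintype.card F)) (n + n) (n + n) + K (fun _ => cE (Fintype.card F)) (n + n) (n + n) := by
  classical
  obtain ⟨α, hα⟩ := FiniteField.exists_nonsquare (F := F) fun h => h2 (by
    have := ringChar.Nat.cast_ringChar (R := F)
    rw [h] at this; exact_mod_cast this)
  have hα0 : α ≠ 0 := fun h => hα (h ▸ IsSquare.zero)
  have hA := card_seq (card_posC (F := F) h2) (n + n) (n + n)
  have hE := card_seq (P := fun _ => Plain (F := F)) (c := fun _ => cE (Fintype.card F))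
    (fun _ d => card_plain d) (n + n) (n + n)
  let A : Set (Fin (n + n) → F[X] × Bool × Bool) :=
    {c | (∀ j : Fin (n + n), PosC ((j : ℕ) + 1) (c j)) ∧ wt c = n + n}
  let B : Set (Fin (n + n) → F[X] × Bool × Bool) :=
    {c | (∀ j : Fin (n + n), Plain (c j)) ∧ wt c = n + n}
  haveI : Finite A := hA.1
  haveI : Finite B := hE.1
  have hAf : A.Finite := Set.toFinite A
  have hBf : B.Finite := Set.toFinite B
  have hsub : ∀ δ', Codes α δ' (n + n) ⊆ A := fun δ' c hc => codes_sub h2 hα0 hc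
  have hf : ∀ δ', (Codes α δ' (n + n)).Finite := fun δ' => hAf.subset (hsub δ')
  have h1 := card_classes_le_codes h2 hα (by omega) hS hd (hf S.det)
  have h3 : (Codes α S.det (n + n)).ncard ≤ (Codes α (α * S.det) (n + n)).ncard + B.ncard := by
    refine le_trans (Set.ncard_le_ncard_sdiff_add_ncard _ B hBf) (Nat.add_le_add_right ?_ _)
    refine (Set.ncard_le_ncard_of_injOn flip (fun c hc => ?_) flip_injective.injOn (hf _))
    exact flip_mem h2 hα0 hc.1 fun hn' => hc.2 (codes_noflip_sub h2 hα0 hc.1 hn')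
  have h4 : (Codes α S.det (n + n)).ncard + (Codes α (α * S.det) (n + n)).ncard ≤ A.ncard := by
    rw [← Set.ncard_union_eq (Set.disjoint_left.2 fun c hc => codes_disjoint h2 hα hd (by omega) hc) (hf _) (hf _)]
    exact Set.ncard_le_ncard (Set.union_subset (hsub _) (hsub _)) hAf
  have h5 : A.ncard ≤ K (cO (Fintype.card F)) (n + n) (n + n) := by
    rw [← Nat.card_coe_set_eq]; exact hA.2
  have h6 : B.ncard ≤ K (fun _ => cE (Fintype.card F)) (n + n) (n + n) := by
    rw [← Nat.card_coe_set_eq]; exact hE.2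
  omega

end Cfsg.Agent.Lib.Elem70.ClassesO
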