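import Cfsg.Agent.Lib.Elem70.ClassesO.Spinor
import Cfsg.Agent.Lib.Elem70.ClassesO.IndexTwo
import Cfsg.Agent.Lib.Elem70.ClassesO.Unique
import Cfsg.Agent.Lib.Elem70.ClassesO.CountOdd
import Cfsg.Agent.Lib.Elem70.ClassesO.Upper
import Cfsg.Agent.Lib.Elem70.ClassesO.Lower

/-!
Classes of the rotation group and of its derived group in odd dimension and odd characteristic.
-/

set_option autoImplicit false
set_option linter.unusedSectionVars false
set_option linter.style.haveILetI false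
set_option maxHeartbeats 1000000

namespace Cfsg.Agent.Lib.Elem70.ClassesO

open Polynomial Module
open Cfsg.Agent.Lib.ClassesSL
open Cfsg.Agent.Lib.ClassesSp (FlC)
open Cfsg.Agent.Lib.Forms (orefl)

universe u

variable {F : Type u} [Field F] [Fintype F] {N : ℕ}

/-- The elements of determinant one. -/
def SOg (O : Subgroup (GL (Fin N) F)) : Subgroup (GL (Fin N) F) :=
  O ⊓ MonoidHom.ker Matrix.GeneralLinearGroup.det

theorem mem_SOg {O : Subgroup (GL (Fin N) F)} {g : GL (Fin N) F} :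
    g ∈ SOg O ↔ g ∈ O ∧ (g : Matrix (Fin N) (Fin N) F).det = 1 :=
  and_congr_right fun _ => by
    show Matrix.GeneralLinearGroup.det g = 1 ↔ _
    rw [Units.ext_iff]
    rfl

/-- The derived group inside the rotation group. -/
def KOm (O : Subgroup (GL (Fin N) F)) : Subgroup (SOg O) := ⁅O, O⁆.subgroupOf (SOg O)

theorem card_classes_congr {G H : Type*} [Group G] [Group H] [Finite G] (φ : G ≃* H) :
    Nat.card (ConjClasses G) = Nat.card (ConjClasses H) := by
  haveI : Finite H := Finite.of_equiv G φ.toEquiv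
  haveI : Finite (ConjClasses G) := Finite.of_surjective _ ConjClasses.mk_surjective
  haveI : Finite (ConjClasses H) := Finite.of_surjective _ ConjClasses.mk_surjective
  exact le_antisymm
    (Nat.card_le_card_of_surjective _ (ConjClasses.map_surjective (f := φ.symm.toMonoidHom) φ.symm.surjective))
    (Nat.card_le_card_of_surjective _ (ConjClasses.map_surjective (f := φ.toMonoidHom) φ.surjective))

theorem OS_smul (S : Matrix (Fin N) (Fin N) F) {c : F} (hc : c ≠ 0) : OS (c • S) = OS S := by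
  ext g
  rw [mem_OS, mem_OS, Matrix.mul_smul, Matrix.smul_mul]
  exact (smul_right_injective (Matrix (Fin N) (Fin N) F) hc).eq_iff

theorem OmS_congr {S S' : Matrix (Fin N) (Fin N) F} {P : GL (Fin N) F}
    (hP : (P : Matrix (Fin N) (Fin N) F).transpose * S' * P = S) {x : GL (Fin N) F} (hx : x ∈ OmS S) :
    P * x * P⁻¹ ∈ OmS S' := by
  have hle : (OS S).map (MulAut.conj P).toMonoidHom ≤ OS S' := by
    rintro _ ⟨g, hg, rfl⟩
    show P * g * P⁻¹ ∈ OS S'
    rw [mem_OS, Units.val_mul, Units.val_mul, Matrix.transpose_mul, Matrix.transpose_mul]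
    have h1 : (P : Matrix (Fin N) (Fin N) F) * ((P⁻¹ : GL (Fin N) F) : Matrix (Fin N) (Fin N) F) = 1 :=
      Units.mul_inv P
    calc _ = ((P⁻¹ : GL (Fin N) F) : Matrix (Fin N) (Fin N) F).transpose *
          ((g : Matrix (Fin N) (Fin N) F).transpose * ((P : Matrix (Fin N) (Fin N) F).transpose * S' * P) * g) *
            ((P⁻¹ : GL (Fin N) F) : Matrix (Fin N) (Fin N) F) := by simp only [Matrix.mul_assoc]
      _ = _ := by
          rw [hP, mem_OS.1 hg, ← hP, ← Matrix.mul_assoc, ← Matrix.mul_assoc, ← Matrix.transpose_mul, h1,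
            Matrix.transpose_one, Matrix.one_mul, Matrix.mul_assoc, h1, Matrix.mul_one]
  have h := Subgroup.mem_map_of_mem (MulAut.conj P).toMonoidHom hx
  rw [OmS, Subgroup.map_commutator] at h
  exact Subgroup.commutator_mono hle hle h

theorem congr_inv {S S' : Matrix (Fin N) (Fin N) F} {P : GL (Fin N) F}
    (hP : (P : Matrix (Fin N) (Fin N) F).transpose * S' * P = S) :
    ((P⁻¹ : GL (Fin N) F) : Matrix (Fin N) (Fin N) F).transpose * S * (P⁻¹ : GL (Fin N) F) = S' := by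
  have h1 : (P : Matrix (Fin N) (Fin N) F) * ((P⁻¹ : GL (Fin N) F) : Matrix (Fin N) (Fin N) F) = 1 :=
    Units.mul_inv P
  rw [← hP, ← Matrix.mul_assoc, ← Matrix.mul_assoc, ← Matrix.transpose_mul, h1, Matrix.transpose_one,
    Matrix.one_mul, Matrix.mul_assoc, h1, Matrix.mul_one]

/-- A rotation with spinor norm a nonsquare exists and the derived group has index two. -/
theorem KOm_index (h2 : (2 : F) ≠ 0) {α : F} (hα : ¬ IsSquare α) (hN : 2 ≤ N) {S : Matrix (Fin N) (Fin N) F}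
    (hS : S.IsSymm) (hd : S.det ≠ 0) : (KOm (OS S)).index = 2 := by
  have hQ := qf_nondeg h2 hS hd
  have hn : 2 ≤ finrank F (Fin N → F) := by rw [finrank_space]; exact hN
  have hα0 : α ≠ 0 := fun h => hα (h ▸ IsSquare.zero)
  obtain ⟨v, hv⟩ := Forms.exists_Q_eq hQ hn 1
  obtain ⟨w, hw⟩ := Forms.exists_Q_eq hQ hn α
  have hvw : ∀ z ∈ [v, w], qf S z ≠ 0 := by
    simp [hv, hw, hα0]
  set o := Orth52.oreflProd (qf S) [v, w]
  set φ := toOrthS h2 hS
  have hmem : ∀ g : SOg (OS S),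
      (g ∈ KOm (OS S) ↔ Orth52.spinHom hQ h2 hn (φ ⟨g.1, (mem_SOg.1 g.2).1⟩) = 1) := fun g => by
    rw [KOm, Subgroup.mem_subgroupOf, show ⁅OS S, OS S⁆ = OmS S from rfl,
      ← toOrthS_mem h2 hS ⟨g.1, (mem_SOg.1 g.2).1⟩, Orth52.mem_commutator_iff_spin hQ h2 hn,
      and_iff_right ((dickson_toOrthS h2 hS hd ⟨g.1, (mem_SOg.1 g.2).1⟩).2 (mem_SOg.1 g.2).2)]
  have hdet : ((φ.symm o : OS S) : GL (Fin N) F).val.det = 1 := by
    rw [← dickson_toOrthS h2 hS hd, MulEquiv.apply_symm_apply, Orth52.dickson_oreflProd hQ _ hvw,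
      ZMod.natCast_eq_zero_iff_even]
    exact ⟨1, rfl⟩
  let g₀ : SOg (OS S) := ⟨(φ.symm o).1, mem_SOg.2 ⟨(φ.symm o).2, hdet⟩⟩
  have ho : Orth52.spinHom hQ h2 hn o = -1 := by
    refine (Int.units_eq_one_or _).resolve_left fun e => hα ?_
    simpa [hv, hw] using (Orth52.spinHom_oreflProd_eq_one_iff hQ h2 hn _ hvw).1 e
  refine Subgroup.index_eq_two_iff'.2 ⟨g₀, fun g => ?_⟩
  rw [hmem, hmem, show (⟨(g₀ * g).1, (mem_SOg.1 (g₀ * g).2).1⟩ : OS S) =
      φ.symm o * ⟨g.1, (mem_SOg.1 g.2).1⟩ from rfl, map_mul, map_mul, φ.apply_symm_apply, ho]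
  rcases Int.units_eq_one_or (Orth52.spinHom hQ h2 hn (φ ⟨g.1, (mem_SOg.1 g.2).1⟩)) with e | e <;>
    rw [e] <;> decide

theorem neg_mem_OS {S : Matrix (Fin N) (Fin N) F} {x : GL (Fin N) F} (hx : x ∈ OS S) : -x ∈ OS S := by
  rw [mem_OS, Units.val_neg, Matrix.transpose_neg, Matrix.neg_mul, Matrix.neg_mul, Matrix.mul_neg, neg_neg]
  exact hx

theorem det_neg_odd (hodd : Odd N) (x : GL (Fin N) F) :
    ((-x : GL (Fin N) F) : Matrix (Fin N) (Fin N) F).det = -(x : Matrix (Fin N) (Fin N) F).det := by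
  rw [Units.val_neg, Matrix.det_neg, Fintype.card_fin, hodd.neg_one_pow, neg_one_mul]

theorem OS_det {S : Matrix (Fin N) (Fin N) F} (hd : S.det ≠ 0) {x : GL (Fin N) F} (hx : x ∈ OS S) :
    (x : Matrix (Fin N) (Fin N) F).det = 1 ∨ (x : Matrix (Fin N) (Fin N) F).det = -1 := by
  have h := congrArg Matrix.det (mem_OS.1 hx)
  rw [Matrix.det_mul, Matrix.det_mul, Matrix.det_transpose] at h
  refine mul_self_eq_one_iff.1 (mul_right_cancel₀ hd ?_)
  linear_combination h

/-- Rotations conjugate in the orthogonal group are conjugate by a rotation. -/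
theorem isConj_SOg (hodd : Odd N) {S : Matrix (Fin N) (Fin N) F} (hd : S.det ≠ 0) {x y : SOg (OS S)}
    {P : GL (Fin N) F} (hP : P ∈ OS S) (h : P * x.1 = y.1 * P) : IsConj x y := by
  rcases OS_det hd hP with hdet | hdet
  · exact isConj_iff.2 ⟨⟨P, mem_SOg.2 ⟨hP, hdet⟩⟩, Subtype.ext (show P * x.1 * P⁻¹ = y.1 by
      rw [h, mul_inv_cancel_right])⟩
  · refine isConj_iff.2 ⟨⟨-P, mem_SOg.2 ⟨neg_mem_OS hP, by rw [det_neg_odd hodd, hdet, neg_neg]⟩⟩,
      Subtype.ext (show -P * x.1 * (-P)⁻¹ = y.1 from ?_)⟩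
    rw [mul_inv_eq_iff_eq_mul, neg_mul, mul_neg, h]

theorem isConj_SOg_of_valid (h2 : (2 : F) ≠ 0) {α : F} (hα : α ≠ 0) (hodd : Odd N)
    {S : Matrix (Fin N) (Fin N) F} (hS : S.IsSymm) (hd : S.det ≠ 0) {x y : SOg (OS S)}
    {c : Fin N → F[X] × Bool × Bool} (hx : Valid α S x.1 c) (hy : Valid α S y.1 c) : IsConj x y := by
  have hB := bf_isSymm hS hd
  obtain ⟨P, hP, hPx⟩ := exists_congr_of_valid h2 hα hodd.pos hB hB (mem_SOg.1 x.2).1 (mem_SOg.1 y.2).1 hx hy
  exact isConj_SOg hodd hd (mem_OS.2 hP) hPx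

/-- The invariants of elements of the derived group. -/
def InSet (α : F) (S : Matrix (Fin N) (Fin N) F) : Set (Fin N → F[X] × Bool × Bool) :=
  {c | ∃ x, x ∈ OmS S ∧ Valid α S x c}

/-- The invariants of the other rotations. -/
def OutSet (α : F) (S : Matrix (Fin N) (Fin N) F) : Set (Fin N → F[X] × Bool × Bool) :=
  {c | ∃ x, x ∈ SOg (OS S) ∧ x ∉ OmS S ∧ Valid α S x c}

/-- Sequences without a possible change of sign at `-1`. -/
def NMSet (N : ℕ) : Set (Fin N → F[X] × Bool × Bool) :=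
  {c | (∀ j : Fin N, PosN ((j : ℕ) + 1) (c j)) ∧ wt c = N}

/-- Sequences with valid components. -/
def AllSet (N : ℕ) : Set (Fin N → F[X] × Bool × Bool) :=
  {c | (∀ j : Fin N, PosC ((j : ℕ) + 1) (c j)) ∧ wt c = N}

theorem AllSet_finite (h2 : (2 : F) ≠ 0) :
    (AllSet (F := F) N).Finite ∧ (AllSet (F := F) N).ncard ≤ K (cO (Fintype.card F)) N N := by
  have hA := card_seq (card_posC (F := F) h2) N N
  haveI : Finite (AllSet (F := F) N) := hA.1
  exact ⟨Set.toFinite _, by rw [← Nat.card_coe_set_eq]; exact hA.2⟩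

theorem NMSet_finite (h2 : (2 : F) ≠ 0) :
    (NMSet (F := F) N).Finite ∧ (NMSet (F := F) N).ncard ≤ K (cN (Fintype.card F)) N N := by
  have hA := card_seq (card_posN (F := F) h2) N N
  haveI : Finite (NMSet (F := F) N) := hA.1
  exact ⟨Set.toFinite _, by rw [← Nat.card_coe_set_eq]; exact hA.2⟩

theorem InSet_sub (h2 : (2 : F) ≠ 0) {α : F} (hα : α ≠ 0) {S : Matrix (Fin N) (Fin N) F} (hd : S.det ≠ 0) :
    InSet α S ⊆ AllSet (F := F) N := fun _ ⟨_, hx, hv⟩ => valid_mem h2 hα hd (OmS_le S hx) hv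

theorem OutSet_sub (h2 : (2 : F) ≠ 0) {α : F} (hα : α ≠ 0) {S : Matrix (Fin N) (Fin N) F} (hd : S.det ≠ 0) :
    OutSet α S ⊆ AllSet (F := F) N := fun _ ⟨_, hx, _, hv⟩ => valid_mem h2 hα hd (mem_SOg.1 hx).1 hv

theorem card_inCls_le (h2 : (2 : F) ≠ 0) {α : F} (hα : ¬ IsSquare α) (hodd : Odd N)
    {S : Matrix (Fin N) (Fin N) F} (hS : S.IsSymm) (hd : S.det ≠ 0) :
    Nat.card (InCls (KOm (OS S))) ≤ (InSet α S).ncard := by
  have hα0 : α ≠ 0 := fun h => hα (h ▸ IsSquare.zero)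
  choose x hxK hxC using fun C : InCls (KOm (OS S)) => C.2
  choose c hc using fun C => exists_valid h2 hα (bf_isSymm hS hd) (mem_SOg.1 (x C).2).1
  haveI := ((AllSet_finite (N := N) h2).1.subset (InSet_sub h2 hα0 hd (α := α) (S := S))).to_subtype
  rw [← Nat.card_coe_set_eq]
  refine Nat.card_le_card_of_injective (fun C => (⟨c C, (x C).1, hxK C, hc C⟩ : InSet α S)) fun C C' h => ?_
  have h' : c C = c C' := congrArg Subtype.val h
  refine Subtype.ext ?_
  rw [← hxC C, ← hxC C']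
  exact ConjClasses.mk_eq_mk_iff_isConj.2 (isConj_SOg_of_valid h2 hα0 hodd hS hd (hc C) (by rw [h']; exact hc C'))

theorem outSet_add_le (h2 : (2 : F) ≠ 0) {α : F} (hα : ¬ IsSquare α) {S : Matrix (Fin N) (Fin N) F}
    (hi : (KOm (OS S)).index = 2) :
    (OutSet α S).ncard + Nat.card (InCls (KOm (OS S))) ≤ Nat.card (ConjClasses (SOg (OS S))) := by
  classical
  haveI : (KOm (OS S)).Normal := Subgroup.normal_of_index_eq_two hi
  haveI : Finite (ConjClasses (SOg (OS S))) := Finite.of_surjective _ ConjClasses.mk_surjective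
  choose x hx hxn hxv using fun c : OutSet α S => c.2
  have hinj : Function.Injective fun c : OutSet α S =>
      (⟨ConjClasses.mk ⟨x c, hx c⟩, fun ⟨y, hy, he⟩ => hxn c (by
        obtain ⟨g, hg⟩ := isConj_iff.1 (ConjClasses.mk_eq_mk_iff_isConj.1 he)
        have := ‹(KOm (OS S)).Normal›.conj_mem y hy g
        rw [hg] at this
        exact this)⟩ : {C : ConjClasses (SOg (OS S)) // ¬ ∃ y ∈ KOm (OS S), ConjClasses.mk y = C}) := by
    intro c c' h
    obtain ⟨g, hg⟩ := isConj_iff.1 (ConjClasses.mk_eq_mk_iff_isConj.1 (congrArg Subtype.val h))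
    have hg' : g.1 * x c * g.1⁻¹ = x c' := congrArg Subtype.val hg
    refine Subtype.ext (Valid.unique h2 hα ((hxv c).transport (mem_OS.1 (mem_SOg.1 g.2).1) ?_) (hxv c'))
    rw [← hg', inv_mul_cancel_right]
  have h := Nat.card_le_card_of_injective _ hinj
  rw [Nat.card_coe_set_eq] at h
  calc _ ≤ Nat.card {C : ConjClasses (SOg (OS S)) // ¬ ∃ y ∈ KOm (OS S), ConjClasses.mk y = C} +
        Nat.card (InCls (KOm (OS S))) := Nat.add_le_add_right h _
    _ = _ := by
        rw [add_comm, ← Nat.card_sum]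
        exact Nat.card_congr (Equiv.sumCompl _)

/-- Change the first possible sign at `-1`. -/
noncomputable def flipM (c : Fin N → F[X] × Bool × Bool) : Fin N → F[X] × Bool × Bool := by
  classical exact if h : ∃ j, CanFlip (-1) c j then
    Function.update c h.choose ((c h.choose).1, (c h.choose).2.1, !(c h.choose).2.2) else c

theorem flipM_fst (c : Fin N → F[X] × Bool × Bool) (j : Fin N) : (flipM c j).1 = (c j).1 := by
  rw [flipM]
  split_ifs with h
  · rcases eq_or_ne j h.choose with hj | hj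
    · rw [hj, Function.update_self]
    · rw [Function.update_of_ne hj]
  · rfl

theorem flipM_injective : Function.Injective (flipM (F := F) (N := N)) := by
  intro c d h
  have h1 : ∀ j, (c j).1 = (d j).1 := fun j => by rw [← flipM_fst c, h, flipM_fst]
  have hP : CanFlip (-1) c = CanFlip (-1) d := funext fun j => by rw [CanFlip, CanFlip, h1]
  have hchoose : ∀ (p p' : Fin N → Prop) (a : ∃ j, p j) (b : ∃ j, p' j), p = p' → a.choose = b.choose := by
    intro p p' a b e; subst e; rfl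
  funext j
  have hj := congrFun h j
  by_cases hc : ∃ j, CanFlip (-1) c j
  · have hd : ∃ j, CanFlip (-1) d j := hP ▸ hc
    rw [flipM, dif_pos hc, flipM, dif_pos hd, ← hchoose _ _ hc hd hP] at hj
    rcases eq_or_ne j hc.choose with e | e
    · subst e
      rw [Function.update_self, Function.update_self] at hj
      simp only [Prod.mk.injEq] at hj
      obtain ⟨e1, e2, e3⟩ := hj
      exact Prod.ext e1 (Prod.ext e2 (Bool.not_inj e3))
    · rwa [Function.update_of_ne e, Function.update_of_ne e] at hj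
  · have hd : ¬ ∃ j, CanFlip (-1) d j := hP ▸ hc
    rwa [flipM, dif_neg hc, flipM, dif_neg hd] at hj

theorem flipM_mem (h2 : (2 : F) ≠ 0) {α : F} (hα : ¬ IsSquare α) (hN : 2 ≤ N)
    {S S' : Matrix (Fin N) (Fin N) F} (hS : S.IsSymm) (hd : S.det ≠ 0) (hS' : S'.IsSymm) (hd' : S'.det ≠ 0)
    (hcls : SameClass S'.det (α * S.det)) {c : Fin N → F[X] × Bool × Bool} (hc : c ∈ InSet α S)
    (hn : c ∉ NMSet (F := F) N) : flipM c ∈ OutSet α S' := by
  classical
  have hα0 : α ≠ 0 := fun h => hα (h ▸ IsSquare.zero)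
  obtain ⟨x, hxΩ, hv⟩ := hc
  have hx := OmS_le S hxΩ
  have hdet := OmS_det h2 hN hS hd hxΩ
  obtain ⟨hpos, hw⟩ := valid_mem h2 hα0 hd hx hv
  have hex : ∃ j, CanFlip (-1) c j := by
    by_contra hno
    refine hn ⟨fun j => ?_, hw⟩
    have hp := hpos j
    rw [PosC] at hp
    rw [PosN]
    split_ifs with ho
    · rw [if_pos ho] at hp
      exact ⟨hp, fun e => hno ⟨j, ho, e⟩⟩
    · rwa [if_neg ho] at hp
  obtain ⟨sp, sm, hsp, hsm, hcj⟩ := hv
  rw [flipM, dif_pos hex]
  obtain ⟨ho, hr⟩ := hex.choose_spec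
  rw [hcj] at hr
  obtain ⟨S₂, hS₂, hd₂, hx₂, hm₂, hR, ⟨HK, hHK, hK⟩, s', hs', he⟩ :=
    exists_twist_valid' h2 hα0 (bf_isSymm hS hd) hx (ε := -1) (by norm_num) hsm (s₂ := sp) (by rwa [neg_neg])
      hex.choose ho hr
  rw [neg_neg] at hm₂
  have hd₂0 : S₂.det ≠ 0 := by
    obtain ⟨d, hd0, e⟩ := hd₂
    rw [e]; exact mul_ne_zero (mul_ne_zero hd0 hd0) (mul_ne_zero hα0 hd)
  have hnot : x ∉ OmS S₂ := fun h => (omega_twist h2 hN hα ho hS hd hS₂ hd₂0 hx hx₂ hdet hR HK hHK hK).1 h hxΩ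
  obtain ⟨P, hP⟩ := exists_congr h2 hα hS' hS₂ hd' (hcls.trans hd₂.symm)
  have hval : Valid α S₂ x (Function.update c hex.choose
      ((c hex.choose).1, (c hex.choose).2.1, !(c hex.choose).2.2)) := by
    refine ⟨sp, s', hm₂, hs', fun j => ?_⟩
    rcases eq_or_ne j hex.choose with e | e
    · rw [e, Function.update_self, hcj, he, if_pos rfl]
    · rw [Function.update_of_ne e, hcj, he, if_neg fun e' => e (Fin.ext (by omega))]
  refine ⟨P * x * P⁻¹, mem_SOg.2 ⟨?_, ?_⟩, fun h => hnot ?_,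
    hval.transport hP (by rw [inv_mul_cancel_right])⟩
  · have h1 := congr_inv hP
    rw [mem_OS]
    rw [Units.val_mul, Units.val_mul, Matrix.transpose_mul, Matrix.transpose_mul]
    calc _ = ((P⁻¹ : GL (Fin N) F) : Matrix (Fin N) (Fin N) F).transpose *
          ((x : Matrix (Fin N) (Fin N) F).transpose * ((P : Matrix (Fin N) (Fin N) F).transpose * S' * P) * x) *
            ((P⁻¹ : GL (Fin N) F) : Matrix (Fin N) (Fin N) F) := by simp only [Matrix.mul_assoc]
      _ = _ := by rw [hP, mem_OS.1 hx₂, h1]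
  · rw [Units.val_mul, Units.val_mul, Matrix.det_units_conj, hdet]
  · have h3 := OmS_congr (congr_inv hP) h
    rwa [inv_inv, mul_assoc P, inv_mul_cancel_left, inv_mul_cancel_right] at h3

theorem InSet_OutSet_disjoint (h2 : (2 : F) ≠ 0) {α : F} (hα : α ≠ 0) (hN : 1 ≤ N)
    {S : Matrix (Fin N) (Fin N) F} (hS : S.IsSymm) (hd : S.det ≠ 0) {c : Fin N → F[X] × Bool × Bool}
    (hc : c ∈ InSet α S) : c ∉ OutSet α S := by
  rintro ⟨y, hy, hyn, hvy⟩
  obtain ⟨x, hx, hvx⟩ := hc
  have hB := bf_isSymm hS hd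
  obtain ⟨P, hP, hPx⟩ := exists_congr_of_valid h2 hα hN hB hB (OmS_le S hx) (mem_SOg.1 hy).1 hvx hvy
  have h := OmS_congr hP hx
  rw [hPx, mul_inv_cancel_right] at h
  exact hyn h

theorem two_mul_classes_le (hodd : Odd N) (h2 : (2 : F) ≠ 0) {S : Matrix (Fin N) (Fin N) F} (hd : S.det ≠ 0) :
    2 * Nat.card (ConjClasses (SOg (OS S))) ≤ Nat.card (ConjClasses (OS S)) := by
  classical
  haveI : Finite (ConjClasses (OS S)) := Finite.of_surjective _ ConjClasses.mk_surjective
  haveI : Finite (ConjClasses (SOg (OS S))) := Finite.of_surjective _ ConjClasses.mk_surjective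
  let r : ConjClasses (SOg (OS S)) → OS S := fun C => ⟨(Quotient.out C).1, (mem_SOg.1 (Quotient.out C).2).1⟩
  let f : ConjClasses (SOg (OS S)) × Bool → ConjClasses (OS S) := fun p =>
    ConjClasses.mk (if p.2 then r p.1 else ⟨-(r p.1).1, neg_mem_OS (r p.1).2⟩)
  have hne : (1 : F) ≠ -1 := fun h => h2 (by linear_combination h)
  have hf : Function.Injective f := by
    rintro ⟨C, b⟩ ⟨C', b'⟩ h
    obtain ⟨g, hg⟩ := isConj_iff.1 (ConjClasses.mk_eq_mk_iff_isConj.1 h)
    have hg' := congrArg (fun z : OS S => (z.1 : GL (Fin N) F)) hg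
    have hdC : ∀ C, ((r C).1 : Matrix (Fin N) (Fin N) F).det = 1 := fun C => (mem_SOg.1 (Quotient.out C).2).2
    have hd' := congrArg (fun z : GL (Fin N) F => (z : Matrix (Fin N) (Fin N) F).det) hg'
    simp only [Subgroup.coe_mul, InvMemClass.coe_inv, Units.val_mul] at hd'
    rw [Matrix.det_units_conj] at hd'
    have hbb : b = b' := by
      cases b <;> cases b' <;> first
        | rfl
        | (exfalso
           simp only [Bool.false_eq_true, if_false, if_true] at hd'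
           rw [det_neg_odd hodd, hdC, hdC] at hd'
           first | exact hne hd' | exact hne hd'.symm)
    subst hbb
    have hgx : g.1 * (r C).1 = (r C').1 * g.1 := by
      cases b <;> simp only [Bool.false_eq_true, if_false, if_true, Subgroup.coe_mul, InvMemClass.coe_inv] at hg'
      · rw [← neg_inj, ← mul_neg, ← neg_mul, ← hg', inv_mul_cancel_right]
      · rw [← hg', inv_mul_cancel_right]
    refine Prod.ext ?_ rfl
    show C = C'
    rw [← Quotient.out_eq C, ← Quotient.out_eq C']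
    exact Quotient.sound (isConj_SOg hodd hd g.2 hgx)
  have := Nat.card_le_card_of_injective f hf
  rw [Nat.card_prod] at this
  simpa [mul_comm] using this

/-- The upper bounds. -/
theorem upper_bounds (h2 : (2 : F) ≠ 0) {α : F} (hα : ¬ IsSquare α) (hN : 2 ≤ N) (hodd : Odd N)
    {S : Matrix (Fin N) (Fin N) F} (hS : S.IsSymm) (hd : S.det ≠ 0) :
    4 * Nat.card (ConjClasses (SOg (OS S))) ≤ K (cO (Fintype.card F)) N N ∧
      4 * Nat.card (InCls (KOm (OS S))) ≤
        K (cN (Fintype.card F)) N N + 2 * Nat.card (ConjClasses (SOg (OS S))) := by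
  classical
  have hα0 : α ≠ 0 := fun h => hα (h ▸ IsSquare.zero)
  set S' := α • S with hS'def
  have hS' : S'.IsSymm := hS.smul α
  have hdet' : S'.det = α ^ N * S.det := by rw [hS'def, Matrix.det_smul, Fintype.card_fin]
  have hd' : S'.det ≠ 0 := by rw [hdet']; exact mul_ne_zero (pow_ne_zero _ hα0) hd
  have hO : OS S' = OS S := OS_smul S hα0
  obtain ⟨m, hm⟩ := hodd
  have hcls : SameClass S'.det (α * S.det) :=
    ⟨α ^ m, pow_ne_zero _ hα0, by rw [hdet', congrArg (α ^ ·) hm]; ring⟩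
  have hcls' : SameClass S.det (α * S'.det) :=
    ⟨(α ^ (m + 1))⁻¹, inv_ne_zero (pow_ne_zero _ hα0), by rw [hdet', congrArg (α ^ ·) hm]; field_simp; ring⟩
  have hi := KOm_index h2 hα hN hS hd
  have hi' := KOm_index h2 hα hN hS' hd'
  obtain ⟨hAf, hA⟩ := AllSet_finite (F := F) (N := N) h2
  obtain ⟨hBf, hB⟩ := NMSet_finite (F := F) (N := N) h2
  have hodd : Odd N := ⟨m, hm⟩
  constructor
  · have hsub : ∀ δ', Codes α δ' N ⊆ AllSet (F := F) N := fun δ' c hc => codes_sub h2 hα0 hc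
    have hf : ∀ δ', (Codes α δ' N).Finite := fun δ' => hAf.subset (hsub δ')
    have h1 := (two_mul_classes_le hodd h2 hd).trans (card_classes_le_codes h2 hα (by omega) hS hd (hf _))
    have h3 := (two_mul_classes_le hodd h2 hd').trans (card_classes_le_codes h2 hα (by omega) hS' hd' (hf _))
    rw [hO] at h3
    have hdis : Disjoint (Codes α S.det N) (Codes α S'.det N) := Set.disjoint_left.2 fun c hc hc' =>
      codes_disjoint h2 hα hd (by omega) hc (by
        obtain ⟨T, y, h1, h2', h3', h4⟩ := hc'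
        exact ⟨T, y, h1, h2', h3'.trans hcls, h4⟩)
    have h4 : (Codes α S.det N).ncard + (Codes α S'.det N).ncard ≤ (AllSet (F := F) N).ncard := by
      rw [← Set.ncard_union_eq hdis (hf _) (hf _)]
      exact Set.ncard_le_ncard (Set.union_subset (hsub _) (hsub _)) hAf
    omega
  · have hflip : ∀ (T T' : Matrix (Fin N) (Fin N) F), T.IsSymm → T.det ≠ 0 → T'.IsSymm → T'.det ≠ 0 →
        SameClass T'.det (α * T.det) →
        (InSet α T).ncard ≤ (InSet α T ∩ NMSet (F := F) N).ncard + (OutSet α T').ncard := by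
      intro T T' hT hdT hT' hdT' hc
      rw [← Set.ncard_inter_add_ncard_diff_eq_ncard (InSet α T) (NMSet (F := F) N)
        (hAf.subset (InSet_sub h2 hα0 hdT))]
      refine Nat.add_le_add_left (Set.ncard_le_ncard_of_injOn flipM (fun c hc' => ?_) flipM_injective.injOn
        (hAf.subset (OutSet_sub h2 hα0 hdT'))) _
      exact flipM_mem h2 hα hN hT hdT hT' hdT' hc hc'.1 hc'.2
    have a1 := card_inCls_le h2 hα hodd hS hd
    have a2 := card_inCls_le h2 hα hodd hS' hd'
    have b1 := outSet_add_le h2 hα (S := S) hi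
    have b2 := outSet_add_le h2 hα (S := S') hi'
    rw [hO] at a2 b2
    have f1 := hflip S S' hS hd hS' hd' hcls
    have f2 := hflip S' S hS' hd' hS hd hcls'
    have hdis : Disjoint (InSet α S ∩ NMSet (F := F) N) (InSet α S' ∩ NMSet (F := F) N) :=
      Set.disjoint_left.2 fun c hc hc' => by
        obtain ⟨x, hx, hv⟩ := hc.1
        obtain ⟨y, hy, hv'⟩ := hc'.1
        exact codes_disjoint h2 hα hd (by omega)
          (δ := S.det) ⟨S, x, hS, hd, ⟨1, one_ne_zero, by ring⟩, OmS_le S hx, hv⟩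
          ⟨S', y, hS', hd', hcls, OmS_le S' hy, hv'⟩
    have h4 : (InSet α S ∩ NMSet (F := F) N).ncard + (InSet α S' ∩ NMSet (F := F) N).ncard ≤
        (NMSet (F := F) N).ncard := by
      rw [← Set.ncard_union_eq hdis (hBf.subset Set.inter_subset_right) (hBf.subset Set.inter_subset_right)]
      exact Set.ncard_le_ncard (Set.union_subset Set.inter_subset_right Set.inter_subset_right) hBf
    omega

theorem pow_le_classes (h2 : (2 : F) ≠ 0) {α : F} (hα : ¬ IsSquare α) {n : ℕ}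
    {S : Matrix (Fin (n + n + 1)) (Fin (n + n + 1)) F} (hS : S.IsSymm) (hd : S.det ≠ 0) :
    Fintype.card F ^ n ≤ Nat.card (ConjClasses (SOg (OS S))) := by
  classical
  let G := {h : F[X] // h.Monic ∧ h.natDegree = n}
  let M := Matrix (Fin (n + n + 1)) (Fin (n + n + 1)) F
  have hex : ∀ h : G, ∃ g : SOg (OS S), ∃ (ι : Type) (_ : Fintype ι) (_ : DecidableEq ι) (U : Matrix ι ι F),
      HasTrace U n h.1 ∧
        ((g : GL (Fin (n + n + 1)) F) : Matrix (Fin (n + n + 1)) (Fin (n + n + 1)) F).charpoly =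
          U.charpoly * (X - C 1) := by
    rintro ⟨h, hm, hdeg⟩
    obtain ⟨δ, hδ, ht⟩ : ∃ δ : F, δ ≠ 0 ∧
        (h.eval 2 * h.eval (-2) = 0 ∨ SameClass ((-1) ^ n * (h.eval 2 * h.eval (-2))) δ) := by
      by_cases h0 : h.eval 2 * h.eval (-2) = 0
      · exact ⟨1, one_ne_zero, Or.inl h0⟩
      · exact ⟨_, mul_ne_zero (pow_ne_zero _ (neg_ne_zero.2 one_ne_zero)) h0, Or.inr ⟨1, one_ne_zero, by ring⟩⟩
    obtain ⟨ι, _, _, S₁, U, hcard, hS₁, hδ₁, hU, hUd, htr⟩ := exists_model hm hdeg hδ ht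
    have hd₁ : S₁.det ≠ 0 := by
      obtain ⟨d, hd0, e⟩ := hδ₁
      rw [e]; exact mul_ne_zero (mul_ne_zero hd0 hd0) hδ
    let S₀ : Matrix (ι ⊕ Unit) (ι ⊕ Unit) F :=
      Matrix.fromBlocks S₁ 0 0 (Matrix.diagonal fun _ => S.det / S₁.det)
    let U₀ : Matrix (ι ⊕ Unit) (ι ⊕ Unit) F := Matrix.fromBlocks U 0 0 1
    have hU₀ : U₀.transpose * S₀ * U₀ = S₀ := by
      simp [U₀, S₀, Matrix.fromBlocks_transpose, Matrix.fromBlocks_multiply, hU]
    have hdU₀ : U₀.det = 1 := by simp [U₀, hUd]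
    have hdS₀ : S₀.det = S.det := by
      simp only [S₀, Matrix.det_fromBlocks_zero₁₂, Matrix.det_diagonal, Finset.univ_unique, Finset.prod_singleton]
      field_simp
    let e : ι ⊕ Unit ≃ Fin (n + n + 1) := Fintype.equivFinOfCardEq (by simp [hcard])
    obtain ⟨Uu, hUu⟩ := isUnit_of_det (A := U₀) (by rw [hdU₀]; exact one_ne_zero)
    let x := osReindex S₀ e ⟨Uu, by rw [mem_OS, hUu]; exact hU₀⟩
    obtain ⟨P, hP⟩ := exists_congr h2 hα hS (S' := Matrix.reindex e e S₀)
      ((Matrix.IsSymm.fromBlocks hS₁ (by simp) (Matrix.isSymm_diagonal _)).submatrix _) hd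
      (by rw [Matrix.det_reindex_self, hdS₀]; exact ⟨1, one_ne_zero, by ring⟩)
    have hmem : P * x.1 * P⁻¹ ∈ OS S := by
      have h1 := congr_inv hP
      rw [mem_OS, Units.val_mul, Units.val_mul, Matrix.transpose_mul, Matrix.transpose_mul]
      calc _ = ((P⁻¹ : GL (Fin (n + n + 1)) F) : M).transpose *
            ((x.1 : M).transpose * ((P : M).transpose * S * (P : M)) * (x.1 : M)) *
              ((P⁻¹ : GL (Fin (n + n + 1)) F) : M) := by simp only [Matrix.mul_assoc]
        _ = _ := by rw [hP, mem_OS.1 x.2, h1]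
    refine ⟨⟨_, mem_SOg.2 ⟨hmem, ?_⟩⟩, ι, inferInstance, inferInstance, U, htr, ?_⟩
    · rw [Units.val_mul, Units.val_mul, Matrix.det_units_conj]
      show (Matrix.reindex e e (Uu : Matrix (ι ⊕ Unit) (ι ⊕ Unit) F)).det = 1
      rw [Matrix.det_reindex_self, hUu, hdU₀]
    · show Matrix.charpoly (((P * x.1 * P⁻¹ : GL (Fin (n + n + 1)) F) : Matrix (Fin (n + n + 1)) (Fin (n + n + 1)) F)) = _
      rw [Units.val_mul, Units.val_mul, Matrix.coe_units_inv, Matrix.charpoly_units_conj]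
      show (Matrix.reindex e e (Uu : Matrix (ι ⊕ Unit) (ι ⊕ Unit) F)).charpoly = _
      rw [Matrix.charpoly_reindex, hUu]
      simp [U₀, Matrix.charpoly_one]
  choose g ι i1 i2 U hU hg using hex
  haveI : Finite (ConjClasses (SOg (OS S))) := Finite.of_surjective _ ConjClasses.mk_surjective
  have hG : Nat.card G = Fintype.card F ^ n := by
    rw [Nat.card_congr ((monicEquivDegreeLT n).trans (degreeLTEquiv F n).toEquiv), Nat.card_fun,
      Nat.card_fin, Nat.card_eq_fintype_card]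
  rw [← hG]
  refine Nat.card_le_card_of_injective (fun h => ConjClasses.mk (g h)) fun h h' e => ?_
  obtain ⟨c, hc⟩ := isConj_iff.1 (ConjClasses.mk_eq_mk_iff_isConj.1 e)
  have e2 : ((g h' : GL (Fin (n + n + 1)) F) : Matrix (Fin (n + n + 1)) (Fin (n + n + 1)) F).charpoly =
      ((g h : GL (Fin (n + n + 1)) F) : Matrix (Fin (n + n + 1)) (Fin (n + n + 1)) F).charpoly := by
    rw [← hc]
    show (((c : GL (Fin (n + n + 1)) F) * (g h).1 * (c : GL (Fin (n + n + 1)) F)⁻¹ : GL (Fin (n + n + 1)) F) :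
      Matrix (Fin (n + n + 1)) (Fin (n + n + 1)) F).charpoly = _
    rw [Units.val_mul, Units.val_mul, Matrix.coe_units_inv, Matrix.charpoly_units_conj]
  rw [hg, hg] at e2
  have e3 := mul_right_cancel₀ (X_sub_C_ne_zero 1) e2
  refine Subtype.ext (@trace_ext _ _ _ (ι h) (i1 h) (i2 h) (U h) n _ _ (hU h) ?_)
  intro z hz
  rw [← e3]
  exact hU h' z hz

/-- The bounds for the derived group. -/
theorem omega_bounds (h2 : (2 : F) ≠ 0) (hq : 3 ≤ Fintype.card F) {n : ℕ} (hn : 1 ≤ n)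
    {S : Matrix (Fin (n + n + 1)) (Fin (n + n + 1)) F} (hS : S.IsSymm) (hd : S.det ≠ 0) :
    Fintype.card F ^ n ≤ 2 * Nat.card (ConjClasses (OmS S)) ∧
      10 * Nat.card (ConjClasses (OmS S)) ≤ 73 * Fintype.card F ^ n := by
  classical
  obtain ⟨α, hα⟩ := FiniteField.exists_nonsquare (F := F) fun h => h2 (by
    have := ringChar.Nat.cast_ringChar (R := F)
    rw [h] at this; exact_mod_cast this)
  have hN : 2 ≤ n + n + 1 := by omega
  have hle : OmS S ≤ SOg (OS S) := fun g hg => mem_SOg.2 ⟨OmS_le S hg, OmS_det h2 hN hS hd hg⟩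
  have hk : Nat.card (ConjClasses (OmS S)) = Nat.card (ConjClasses (KOm (OS S))) :=
    card_classes_congr (Subgroup.subgroupOfEquivOfLe hle).symm
  obtain ⟨h1, h3⟩ := card_classes_index_two _ (KOm_index h2 hα hN hS hd)
  obtain ⟨u1, u2⟩ := upper_bounds h2 hα hN ⟨n, by ring⟩ hS hd
  have l1 := pow_le_classes h2 hα hS hd
  rw [hk]
  refine ⟨by omega, ?_⟩
  have hA := K_all_odd (q := Fintype.card F) hq hn
  have hB := K_nominus_odd (q := Fintype.card F) hq hn
  have h8 : 8 * Nat.card (ConjClasses (KOm (OS S))) ≤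
      K (cO (Fintype.card F)) (n + n + 1) (n + n + 1) + 6 * K (cN (Fintype.card F)) (n + n + 1) (n + n + 1) := by
    omega
  have h8' : (8 : ℝ) * Nat.card (ConjClasses (KOm (OS S))) ≤
      (K (cO (Fintype.card F)) (n + n + 1) (n + n + 1) : ℝ) + 6 * K (cN (Fintype.card F)) (n + n + 1) (n + n + 1) := by
    exact_mod_cast h8
  have : (10 : ℝ) * Nat.card (ConjClasses (KOm (OS S))) ≤ 73 * (Fintype.card F : ℝ) ^ n := by
    have : (0 : ℝ) ≤ (Fintype.card F : ℝ) ^ n := by positivity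
    linarith
  exact_mod_cast this

end Cfsg.Agent.Lib.Elem70.ClassesO
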