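import Cfsg.Agent.Lib.Elem70.ClassesO.Twist
import Cfsg.Agent.Lib.Orth52.Spinor
import Cfsg.Agent.Lib.Forms.Reflections
import Cfsg.Agent.Lib.Orth52.Rank
import Cfsg.Agent.Lib.Orth52.Discriminant
import Cfsg.Agent.Lib.Orth52.Sum

/-!
Changing the form on the generalised eigenspace for `-1` by a nonsquare discriminant changes the spinor
norm of a rotation.
-/

set_option autoImplicit false
set_option linter.unusedSectionVars false
set_option linter.style.haveILetI false
set_option maxHeartbeats 1000000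

namespace Cfsg.Agent.Lib.Elem70.ClassesO

open Module QuadraticMap
open Cfsg.Agent.Lib.Forms
open Cfsg.Agent.Lib.Orth52 (oreflProd)
open Cfsg.Agent.Lib.Symplectic (restr)
open Cfsg.Agent.Lib.ClassesSp (shiftT shiftT_apply shiftT_pow_mem shiftT_pow_mem_range coe_shiftT_restrict_pow
  perp_ker_range isCompl_ker_range)

universe u

variable {F : Type u} [Field F] [Fintype F] {N : ℕ}

/-- The quadratic form with matrix `S` as polar form. -/
noncomputable def qf (S : Matrix (Fin N) (Fin N) F) : QuadraticForm F (Fin N → F) :=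
  LinearMap.BilinMap.toQuadraticMap ((2 : F)⁻¹ • bf S)

theorem qf_apply (S : Matrix (Fin N) (Fin N) F) (v : Fin N → F) : qf S v = (2 : F)⁻¹ * bf S v v := rfl

theorem polar_qf (h2 : (2 : F) ≠ 0) {S : Matrix (Fin N) (Fin N) F} (hS : S.IsSymm) (u v : Fin N → F) :
    polar (qf S) u v = bf S u v := by
  rw [QuadraticMap.polar, qf_apply, qf_apply, qf_apply]
  simp only [map_add, LinearMap.add_apply, show bf S v u = bf S u v by rw [bf_apply, bf_apply]; exact symm_apply hS v u]
  field_simp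
  ring

theorem qf_nondeg (h2 : (2 : F) ≠ 0) {S : Matrix (Fin N) (Fin N) F} (hS : S.IsSymm) (hd : S.det ≠ 0) :
    Nondeg (qf S) := fun x hx => (bf_isSymm hS hd).nondeg x fun y => by rw [← polar_qf h2 hS]; exact hx y

theorem isometryGroup_qf (h2 : (2 : F) ≠ 0) {S : Matrix (Fin N) (Fin N) F} (hS : S.IsSymm) :
    Cfsg.isometryGroup F ⇑(qf S) = OS S :=
  isometry_eq_OS h2 hS fun v => by rw [qf_apply, bf_apply]; field_simp

/-- The derived group of an orthogonal group, among matrices. -/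
def OmS (S : Matrix (Fin N) (Fin N) F) : Subgroup (GL (Fin N) F) := ⁅OS S, OS S⁆

theorem OmS_le (S : Matrix (Fin N) (Fin N) F) : OmS S ≤ OS S := Subgroup.commutator_le_self _

/-- The orthogonal group as a group of linear maps. -/
noncomputable def toOrthS (h2 : (2 : F) ≠ 0) {S : Matrix (Fin N) (Fin N) F} (hS : S.IsSymm) :
    OS S ≃* orth (qf S) :=
  (MulEquiv.subgroupCongr (isometryGroup_qf h2 hS).symm).trans (isoOrth (qf S) (fun _ => rfl))

theorem toOrthS_apply (h2 : (2 : F) ≠ 0) {S : Matrix (Fin N) (Fin N) F} (hS : S.IsSymm) (g : OS S)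
    (v : Fin N → F) : (toOrthS h2 hS g).1 v = lin g.1 v := by
  rw [toOrthS, MulEquiv.trans_apply, isoOrth_apply]
  rfl

theorem toOrthS_mem (h2 : (2 : F) ≠ 0) {S : Matrix (Fin N) (Fin N) F} (hS : S.IsSymm) (g : OS S) :
    toOrthS h2 hS g ∈ commutator (orth (qf S)) ↔ g.1 ∈ OmS S := by
  have e : g.1 ∈ OmS S ↔ g ∈ commutator (OS S) := by
    rw [OmS, ← Subgroup.map_subtype_commutator]
    exact Subgroup.mem_map_iff_mem (OS S).subtype_injective
  rw [e]
  constructor
  · intro h
    have := Orth52.apply_mem_commutator (toOrthS h2 hS).symm.toMonoidHom h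
    simpa using this
  · exact fun h => Orth52.apply_mem_commutator (toOrthS h2 hS).toMonoidHom h

theorem dickson_toOrthS (h2 : (2 : F) ≠ 0) {S : Matrix (Fin N) (Fin N) F} (hS : S.IsSymm) (hd : S.det ≠ 0)
    (g : OS S) :
    dickson (qf S) (toOrthS h2 hS g) = 0 ↔ ((g : GL (Fin N) F) : Matrix (Fin N) (Fin N) F).det = 1 :=
  (Orth52.det_orth_eq (qf S) (qf_nondeg h2 hS hd) h2 (MulEquiv.subgroupCongr (isometryGroup_qf h2 hS).symm g)).symm

theorem OmS_det (h2 : (2 : F) ≠ 0) (hN : 2 ≤ N) {S : Matrix (Fin N) (Fin N) F} (hS : S.IsSymm) (hd : S.det ≠ 0)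
    {g : GL (Fin N) F} (hg : g ∈ OmS S) : (g : Matrix (Fin N) (Fin N) F).det = 1 :=
  (dickson_toOrthS h2 hS hd ⟨g, OmS_le S hg⟩).1
    ((Orth52.mem_commutator_iff_spin (qf_nondeg h2 hS hd) h2 (by rw [finrank_space]; exact hN) _).1
      ((toOrthS_mem h2 hS _).2 hg)).1

/-- A unipotent orthogonal map is in the commutator subgroup. -/
theorem unipotent_mem_commutator (h2 : (2 : F) ≠ 0) (hN : 2 ≤ N) {q : QuadraticForm F (Fin N → F)}
    (hq : Nondeg q) (o : orth q) {m : ℕ}
    (h : ((o.1 : Module.End F (Fin N → F)) - 1) ^ m = 0) : o ∈ commutator (orth q) := by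
  classical
  haveI : Nonempty (Fin N) := ⟨⟨0, by omega⟩⟩
  obtain ⟨p, hp⟩ := CharP.exists F
  have hpp : p.Prime := CharP.char_is_prime F p
  haveI : Fact p.Prime := ⟨hpp⟩
  haveI : CharP (Module.End F (Fin N → F)) p :=
    charP_of_injective_algebraMap (algebraMap F (Module.End F (Fin N → F))).injective p
  have hodd : Odd p := hpp.odd_of_ne_two fun h' => h2 (by
    subst h'
    exact_mod_cast CharP.cast_eq_zero F 2)
  have hpm : m ≤ p ^ m := (Nat.lt_pow_self hpp.one_lt).le
  have h1 : (o.1 : Module.End F (Fin N → F)) ^ p ^ m = 1 := by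
    have e := add_pow_char_pow_of_commute (p := p) (n := m)
      (Commute.one_right ((o.1 : Module.End F (Fin N → F)) - 1))
    rw [sub_add_cancel, pow_eq_zero_of_le hpm h, one_pow, zero_add] at e
    exact e
  have h3 : o ^ p ^ m = 1 := by
    refine Subtype.ext (LinearEquiv.ext fun v => ?_)
    have : ∀ k : ℕ, ∀ v, (o ^ k).1 v = ((o.1 : Module.End F (Fin N → F)) ^ k) v := fun k => by
      induction k with
      | zero => intro v; rfl
      | succ k ih => intro v; rw [pow_succ, pow_succ, Module.End.mul_apply, ← ih]; rfl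
    rw [this, h1]; rfl
  obtain ⟨k, hk⟩ := hodd.pow (n := m)
  have e : o = o ^ (k + 1) * o ^ (k + 1) := by
    rw [← pow_add, show k + 1 + (k + 1) = p ^ m + 1 by omega, pow_succ, h3, one_mul]
  rw [e]
  exact Orth52.mul_self_mem_commutator hq (by rw [finrank_space]; exact hN) (Or.inl (exists_ne01 h2)) _

theorem exists_reflList {W : Type*} [AddCommGroup W] [Module F W] [FiniteDimensional F W]
    (h2 : (2 : F) ≠ 0) {q : QuadraticForm F W} (hq : Nondeg q) (o : orth q) :
    ∃ vs : List W, (∀ v ∈ vs, q v ≠ 0) ∧ oreflProd q vs = o := by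
  have ho : o ∈ Subgroup.closure (reflSet q) := by
    rw [closure_reflSet hq (Or.inl (exists_ne01 h2))]; trivial
  induction ho using Subgroup.closure_induction_right with
  | one => exact ⟨[], by simp, rfl⟩
  | mul_right x _ y hy ih =>
    obtain ⟨vs, hvs, rfl⟩ := ih
    obtain ⟨v, hv, rfl⟩ := hy
    exact ⟨vs ++ [v], fun x hx => (List.mem_append.1 hx).elim (hvs x)
      (fun h => List.mem_singleton.1 h ▸ hv), by simp [oreflProd]⟩
  | mul_inv_cancel x _ y hy ih =>
    obtain ⟨vs, hvs, rfl⟩ := ih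
    obtain ⟨v, hv, rfl⟩ := hy
    refine ⟨vs ++ [v], fun x hx => (List.mem_append.1 hx).elim (hvs x)
      (fun h => List.mem_singleton.1 h ▸ hv), ?_⟩
    have : (orefl q v)⁻¹ = orefl q v := Subtype.ext (refl_inv q v)
    rw [this]
    simp [oreflProd]

/-- The complement of the generalised eigenspace. -/
noncomputable abbrev cmp (x : GL (Fin N) F) (ε : F) : Submodule F (Fin N → F) :=
  LinearMap.range (shiftT (lin x) ε ^ N)

theorem eig_perp {S : Matrix (Fin N) (Fin N) F} {x : GL (Fin N) F} (hx : x ∈ OS S) {ε : F} (hε : ε * ε = 1)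
    {u v : Fin N → F} (hu : u ∈ eig x ε) (hv : v ∈ cmp x ε) : bf S u v = 0 := by
  obtain ⟨z, rfl⟩ := hv
  exact perp_ker_range (lin_bijective x) (lin_isometry hx) hε _ u z hu

/-- An orthogonal basis of the generalised eigenspace. -/
theorem exists_ortho_eig (h2 : (2 : F) ≠ 0) {S : Matrix (Fin N) (Fin N) F} (hB : IsSymmForm (bf S))
    {x : GL (Fin N) F} (hx : x ∈ OS S) {ε : F} (hε : ε * ε = 1) :
    ∃ b : Basis (Fin (finrank F (eig x ε))) F (eig x ε),
      (∀ i j, i ≠ j → bf S (b i).1 (b j).1 = 0) ∧ ∀ i, bf S (b i).1 (b i).1 ≠ 0 := by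
  haveI : Invertible (2 : F) := invertibleOfNonzero h2
  have hK := eig_symm hB hx hε
  obtain ⟨b, hb⟩ := LinearMap.BilinForm.exists_orthogonal_basis (B := restr (bf S) (eig x ε)) ⟨hK.symm⟩
  refine ⟨b, fun i j h => hb h, fun i h0 => b.ne_zero i (hK.nondeg _ fun y => ?_)⟩
  rw [← b.sum_repr y, map_sum]
  refine Finset.sum_eq_zero fun j _ => ?_
  rw [map_smul, smul_eq_mul]
  rcases eq_or_ne i j with rfl | hij
  · rw [show restr (bf S) (eig x ε) (b i) (b i) = 0 from h0, mul_zero]
  · rw [show restr (bf S) (eig x ε) (b i) (b j) = 0 from hb hij, mul_zero]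

/-- The membership criterion. -/
theorem omega_iff (h2 : (2 : F) ≠ 0) (hN : 2 ≤ N) {S : Matrix (Fin N) (Fin N) F} (hS : S.IsSymm) (hd : S.det ≠ 0)
    {x : GL (Fin N) F} (hx : x ∈ OS S) (hdet : (x : Matrix (Fin N) (Fin N) F).det = 1) {k : ℕ}
    (b : Basis (Fin k) F (eig x (-1))) (hb : ∀ i j, i ≠ j → bf S (b i).1 (b j).1 = 0)
    (hb0 : ∀ i, bf S (b i).1 (b i).1 ≠ 0) (l : List (cmp x (-1))) (hl0 : ∀ v ∈ l, res (qf S) (cmp x (-1)) v ≠ 0)
    (hl : ∀ v : cmp x (-1), ((oreflProd (res (qf S) (cmp x (-1))) l).1 v).1 = lin x v.1) :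
    x ∈ OmS S ↔ IsSquare ((∏ i, qf S (b i).1) * (l.map fun v => qf S v.1).prod) := by
  classical
  have hQ := qf_nondeg h2 hS hd
  have hn : 2 ≤ finrank F (Fin N → F) := by rw [finrank_space]; exact hN
  set bs : List (Fin N → F) := List.ofFn fun i => (b i).1 with hbs
  set vs : List (Fin N → F) := l.map Subtype.val with hvs
  have hq0 : ∀ v ∈ bs ++ vs, qf S v ≠ 0 := by
    intro v hv
    rcases List.mem_append.1 hv with hv | hv
    · obtain ⟨i, rfl⟩ := List.mem_ofFn.1 hv
      rw [qf_apply]; exact mul_ne_zero (inv_ne_zero h2) (hb0 i)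
    · obtain ⟨r, hr, rfl⟩ := List.mem_map.1 hv
      exact hl0 r hr
  set w := oreflProd (qf S) (bs ++ vs) with hw
  have hwsplit : w = oreflProd (qf S) bs * oreflProd (qf S) vs := by
    simp [hw, oreflProd]
  have hperp : ∀ {u v : Fin N → F}, u ∈ eig x (-1) → v ∈ cmp x (-1) → polar (qf S) u v = 0 := fun hu hv => by
    rw [polar_qf h2 hS]; exact eig_perp hx (by norm_num) hu hv
  have hvK : ∀ u ∈ eig x (-1), (oreflProd (qf S) vs).1 u = u := fun u hu =>
    Orth52.oreflProd_fix vs fun v hv => by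
      obtain ⟨r, -, rfl⟩ := List.mem_map.1 hv
      rw [polar_comm]; exact hperp hu r.2
  have hbR : ∀ v ∈ cmp x (-1), (oreflProd (qf S) bs).1 v = v := fun v hv =>
    Orth52.oreflProd_fix bs fun u hu => by
      obtain ⟨i, rfl⟩ := List.mem_ofFn.1 hu
      exact hperp (b i).2 hv
  have hbK : ∀ u : eig x (-1), (oreflProd (qf S) bs).1 u.1 = -u.1 := by
    intro u
    have hpw : bs.Pairwise fun v w => polar (qf S) v w = 0 := by
      rw [hbs, List.pairwise_ofFn]
      intro i j hij
      rw [polar_qf h2 hS]; exact hb i j hij.ne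
    have h1 : ∀ i, (oreflProd (qf S) bs).1 (b i).1 = -(b i).1 := fun i =>
      Orth52.oreflProd_neg bs (fun v hv => hq0 v (List.mem_append_left _ hv)) hpw (List.mem_ofFn.2 ⟨i, rfl⟩)
    have e : u.1 = ∑ i, b.repr u i • (b i).1 := by
      have e0 := congrArg Subtype.val (b.sum_repr u)
      rw [Submodule.coe_sum] at e0
      exact e0.symm
    rw [e, map_sum, ← Finset.sum_neg_distrib]
    exact Finset.sum_congr rfl fun i _ => by rw [map_smul, h1, smul_neg]
  have hlift : ∀ (l : List (cmp x (-1))) (v : cmp x (-1)),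
      (oreflProd (qf S) (l.map Subtype.val)).1 v.1 = ((oreflProd (res (qf S) (cmp x (-1))) l).1 v).1 := by
    intro l
    induction l with
    | nil => intro v; rfl
    | cons r l ih =>
      intro v
      rw [List.map_cons, Orth52.oreflProd_cons, Orth52.oreflProd_cons]
      show refl (qf S) r.1 ((oreflProd (qf S) (l.map Subtype.val)).1 v.1) = _
      rw [ih, refl_apply]
      show _ = (refl (res (qf S) (cmp x (-1))) r ((oreflProd (res (qf S) (cmp x (-1))) l).1 v)).1
      rw [refl_apply, res_apply, res_polar]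
      rfl
  have hwK : ∀ u ∈ eig x (-1), w.1 u = -u := fun u hu => by
    rw [hwsplit]
    show (oreflProd (qf S) bs).1 ((oreflProd (qf S) vs).1 u) = -u
    rw [hvK u hu]; exact hbK ⟨u, hu⟩
  have hwR : ∀ v ∈ cmp x (-1), w.1 v = lin x v := fun v hv => by
    rw [hwsplit]
    show (oreflProd (qf S) bs).1 ((oreflProd (qf S) vs).1 v) = lin x v
    rw [hvs, hlift l ⟨v, hv⟩, hl ⟨v, hv⟩]
    exact hbR _ (shiftT_pow_mem_range hv)
  set u := toOrthS h2 hS ⟨x, hx⟩ * w⁻¹ with hu
  have hcpl : IsCompl (eig x (-1)) (cmp x (-1)) := isCompl_ker_range finrank_space.le _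
  have hsurj : ∀ v, ∃ a ∈ eig x (-1), ∃ c ∈ cmp x (-1), v = a + c := fun v => by
    obtain ⟨a, ha, c, hc, e⟩ := Submodule.mem_sup.1
      ((SetLike.ext_iff.1 hcpl.sup_eq_top v).2 Submodule.mem_top)
    exact ⟨a, ha, c, hc, e.symm⟩
  have huw : ∀ v, u.1 (w.1 v) = lin x v := fun v => by
    rw [hu]
    show (toOrthS h2 hS ⟨x, hx⟩).1 (w.1.symm (w.1 v)) = lin x v
    rw [LinearEquiv.symm_apply_apply, toOrthS_apply]
  have huK : ∀ a ∈ eig x (-1), u.1 a = -(lin x a) := fun a ha => by
    have h := huw (-a)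
    rwa [hwK (-a) (neg_mem ha), neg_neg, map_neg] at h
  have hnil : ((u.1 : Module.End F (Fin N → F)) - 1) ^ (N + 1) = 0 := by
    have hK : ∀ (m : ℕ) a, a ∈ eig x (-1) →
        ((((u.1 : Module.End F (Fin N → F)) - 1) ^ m) a = (-1 : F) ^ m • (shiftT (lin x) (-1) ^ m) a) := by
      intro m
      induction m with
      | zero => intro a _; simp
      | succ m ih =>
        intro a ha
        have h1 : ((u.1 : Module.End F (Fin N → F)) - 1) a = -(shiftT (lin x) (-1) a) := by
          rw [LinearMap.sub_apply, shiftT_apply, Module.End.one_apply]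
          show u.1 a - a = _
          rw [huK a ha, neg_one_smul]; abel
        have h3 : shiftT (lin x) (-1) a ∈ eig x (-1) := by
          show (shiftT (lin x) (-1) ^ N) (shiftT (lin x) (-1) a) = 0
          rw [← Module.End.mul_apply, ← pow_succ, pow_succ', Module.End.mul_apply,
            show (shiftT (lin x) (-1) ^ N) a = 0 from ha, map_zero]
        rw [pow_succ, Module.End.mul_apply, h1, map_neg, ih _ h3, pow_succ (shiftT (lin x) (-1)),
          Module.End.mul_apply, pow_succ, mul_neg_one, neg_smul]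
    have hR : ∀ c ∈ cmp x (-1), ((u.1 : Module.End F (Fin N → F)) - 1) c = 0 := fun c hc => by
      have hsur : ∃ d ∈ cmp x (-1), lin x d = c := by
        let T : cmp x (-1) →ₗ[F] cmp x (-1) := (lin x).restrict fun _ h => shiftT_pow_mem_range h
        have hi : Function.Injective T := fun a a' h => Subtype.ext ((lin_bijective x).1 (congrArg Subtype.val h))
        obtain ⟨d, hd⟩ := LinearMap.injective_iff_surjective.1 hi ⟨c, hc⟩
        exact ⟨d.1, d.2, congrArg Subtype.val hd⟩
      obtain ⟨d, hd, rfl⟩ := hsur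
      have h := huw d
      rw [hwR d hd] at h
      rw [LinearMap.sub_apply, Module.End.one_apply]
      show u.1 (lin x d) - lin x d = 0
      rw [h, sub_self]
    refine LinearMap.ext fun v => ?_
    obtain ⟨a, ha, c, hc, rfl⟩ := hsurj v
    rw [map_add, hK _ a ha, pow_succ' (shiftT (lin x) (-1)), Module.End.mul_apply, pow_succ ((u.1 : Module.End F (Fin N → F)) - 1),
      Module.End.mul_apply, show (shiftT (lin x) (-1) ^ N) a = 0 from ha, hR c hc]
    simp
  have huc : u ∈ commutator (orth (qf S)) := unipotent_mem_commutator h2 hN hQ u hnil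
  have hx1 : toOrthS h2 hS ⟨x, hx⟩ = u * w := by rw [hu, inv_mul_cancel_right]
  have hmem : x ∈ OmS S ↔ w ∈ commutator (orth (qf S)) := by
    rw [← toOrthS_mem h2 hS ⟨x, hx⟩, hx1, Subgroup.mul_mem_cancel_left _ huc]
  have heven : Even (bs ++ vs).length := by
    have h1 := (dickson_toOrthS h2 hS hd ⟨x, hx⟩).2 hdet
    rw [hx1, Orth52.dickson_mul hQ (Or.inl (exists_ne01 h2)),
      ((Orth52.mem_commutator_iff_spin hQ h2 hn u).1 huc).1, zero_add, hw,
      Orth52.dickson_oreflProd hQ _ hq0, ZMod.natCast_eq_zero_iff_even] at h1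
    exact h1
  rw [hmem, hw, Orth52.oreflProd_mem_commutator_iff hQ h2 hn _ hq0, and_iff_right heven, List.map_append,
    List.prod_append, hbs, hvs, List.map_ofFn, List.prod_ofFn, List.map_map]
  rfl

/-- Changing the discriminant on the eigenspace for `-1` changes the spinor norm. -/
theorem omega_twist (h2 : (2 : F) ≠ 0) (hN : 2 ≤ N) {α : F} (hα : ¬ IsSquare α) {e : ℕ} (he : Odd e)
    {S S₂ : Matrix (Fin N) (Fin N) F} (hS : S.IsSymm) (hd : S.det ≠ 0) (hS₂ : S₂.IsSymm) (hd₂ : S₂.det ≠ 0)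
    {x : GL (Fin N) F} (hx : x ∈ OS S) (hx₂ : x ∈ OS S₂) (hdet : (x : Matrix (Fin N) (Fin N) F).det = 1)
    (hR : ∀ u, ∀ v ∈ cmp x (-1), bf S₂ u v = bf S u v) (HK : Module.End F (eig x (-1)))
    (hHK : LinearMap.det HK = α ^ e) (hK : ∀ u v : eig x (-1), bf S₂ u.1 v.1 = bf S u.1 (HK v).1) :
    x ∈ OmS S₂ ↔ x ∉ OmS S := by
  classical
  have hε : (-1 : F) * -1 = 1 := by norm_num
  have hB := bf_isSymm hS hd
  obtain ⟨b, hb, hb0⟩ := exists_ortho_eig h2 hB hx hε
  obtain ⟨b', hb', hb0'⟩ := exists_ortho_eig h2 (bf_isSymm hS₂ hd₂) hx₂ hε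
  have hq : Nondeg (res (qf S) (cmp x (-1))) := fun v hv => by
    have hcpl : IsCompl (eig x (-1)) (cmp x (-1)) := isCompl_ker_range finrank_space.le _
    refine (restr_nondeg hB hcpl.symm fun a ha c hc => ?_).nondeg v fun y => ?_
    · exact hB.comm_eq_zero.1 (eig_perp hx hε hc ha)
    · exact (polar_qf h2 hS v.1 y.1).symm.trans ((res_polar _ _ v y).symm.trans (hv y))
  let T : cmp x (-1) →ₗ[F] cmp x (-1) := (lin x).restrict fun _ h => shiftT_pow_mem_range h
  have hTi : Function.Injective T := fun a a' h => Subtype.ext ((lin_bijective x).1 (congrArg Subtype.val h))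
  let o : orth (res (qf S) (cmp x (-1))) :=
    ⟨LinearEquiv.ofBijective T ⟨hTi, LinearMap.injective_iff_surjective.1 hTi⟩, fun v => by
      show qf S (lin x v.1) = qf S v.1
      rw [qf_apply, qf_apply, lin_isometry hx]⟩
  obtain ⟨l, hl0, hl⟩ := exists_reflList h2 hq o
  have hl' : ∀ v : cmp x (-1), ((oreflProd (res (qf S) (cmp x (-1))) l).1 v).1 = lin x v.1 := fun v => by
    rw [hl]; rfl
  have hres : res (qf S₂) (cmp x (-1)) = res (qf S) (cmp x (-1)) :=
    QuadraticMap.ext fun v => by rw [res_apply, res_apply, qf_apply, qf_apply, hR _ _ v.2]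
  have h1 := omega_iff h2 hN hS hd hx hdet b hb hb0 l hl0 hl'
  have h3 := omega_iff h2 hN hS₂ hd₂ hx₂ hdet b' hb' hb0' l (by rw [hres]; exact hl0) (by rw [hres]; exact hl')
  have hmap : (l.map fun v => qf S₂ v.1) = l.map fun v => qf S v.1 :=
    List.map_congr_left fun v _ => by rw [qf_apply, qf_apply, hR _ _ v.2]
  rw [hmap] at h3
  set P := (l.map fun v => qf S v.1).prod
  have hP : P ≠ 0 := List.prod_ne_zero (by
    rw [List.mem_map]
    rintro ⟨v, hv, e0⟩
    exact hl0 v hv e0)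
  have hd' : ∏ i, bf S₂ (b' i).1 (b' i).1 =
      (b.toMatrix b').det * (b.toMatrix b').det * (α ^ e * ∏ i, bf S (b i).1 (b i).1) := by
    let A : LinearMap.BilinForm F (eig x (-1)) := restr (bf S) (eig x (-1))
    let A₂ : LinearMap.BilinForm F (eig x (-1)) := restr (bf S₂) (eig x (-1))
    have e1 : A₂ = A.compRight HK := LinearMap.ext fun u => LinearMap.ext fun v => hK u v
    have d1 : (LinearMap.BilinForm.toMatrix b A).det = ∏ i, bf S (b i).1 (b i).1 := by
      rw [show LinearMap.BilinForm.toMatrix b A = Matrix.diagonal fun i => bf S (b i).1 (b i).1 from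
        Matrix.ext fun i j => by
          rw [LinearMap.BilinForm.toMatrix_apply]
          rcases eq_or_ne i j with rfl | hij
          · rw [Matrix.diagonal_apply_eq]; rfl
          · rw [Matrix.diagonal_apply_ne _ hij]; exact hb i j hij, Matrix.det_diagonal]
    have d2 : (LinearMap.BilinForm.toMatrix b' A₂).det = ∏ i, bf S₂ (b' i).1 (b' i).1 := by
      rw [show LinearMap.BilinForm.toMatrix b' A₂ = Matrix.diagonal fun i => bf S₂ (b' i).1 (b' i).1 from
        Matrix.ext fun i j => by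
          rw [LinearMap.BilinForm.toMatrix_apply]
          rcases eq_or_ne i j with rfl | hij
          · rw [Matrix.diagonal_apply_eq]; rfl
          · rw [Matrix.diagonal_apply_ne _ hij]; exact hb' i j hij, Matrix.det_diagonal]
    rw [← d2, ← LinearMap.BilinForm.toMatrix_mul_basis_toMatrix b b' A₂, Matrix.det_mul, Matrix.det_mul,
      Matrix.det_transpose, e1, LinearMap.BilinForm.toMatrix_compRight, Matrix.det_mul, d1,
      LinearMap.det_toMatrix, hHK]
    ring
  set X := ∏ i, qf S (b i).1 with hX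
  have hX0 : X ≠ 0 := Finset.prod_ne_zero_iff.2 fun i _ => mul_ne_zero (inv_ne_zero h2) (hb0 i)
  have hd0 : (b.toMatrix b').det ≠ 0 := by
    intro h0
    rw [h0, zero_mul, zero_mul, Finset.prod_eq_zero_iff] at hd'
    obtain ⟨i, -, hi⟩ := hd'
    exact hb0' i hi
  have hX2 : ∏ i, qf S₂ (b' i).1 = (b.toMatrix b').det * (b.toMatrix b').det * α ^ e * X := by
    simp only [hX, qf_apply, Finset.prod_mul_distrib, hd']
    ring
  rw [h1, h3, hX2]
  obtain ⟨m, rfl⟩ := he
  have hα0 : α ≠ 0 := fun h => hα (h ▸ IsSquare.zero)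
  have hchar : ringChar F ≠ 2 := fun h => h2 (by
    have := ringChar.Nat.cast_ringChar (R := F)
    rw [h] at this; exact_mod_cast this)
  have e2 : (b.toMatrix b').det * (b.toMatrix b').det * α ^ (2 * m + 1) * X * P =
      ((b.toMatrix b').det * α ^ m) * ((b.toMatrix b').det * α ^ m) * ((X * P) * α) := by ring
  have hsq : ∀ {c y : F}, c ≠ 0 → (IsSquare (c * c * y) ↔ IsSquare y) := fun {c y} hc =>
    ⟨fun ⟨r, hr⟩ => ⟨r / c, by field_simp; linear_combination hr⟩, fun ⟨r, hr⟩ => ⟨c * r, by rw [hr]; ring⟩⟩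
  rw [e2, hsq (mul_ne_zero hd0 (pow_ne_zero _ hα0))]
  exact Orth52.isSquare_mul_nonsquare hchar (mul_ne_zero hX0 hP) hα0 hα

end Cfsg.Agent.Lib.Elem70.ClassesO
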