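import Cfsg.Agent.Lib.Elem70.ClassesO.Code

/-!
Changing the sign of one block changes the form to one of the other discriminant.
-/

set_option autoImplicit false
set_option linter.unusedSectionVars false
set_option linter.style.haveILetI false

namespace Cfsg.Agent.Lib.Elem70.ClassesO

open Polynomial Module
open Cfsg.Agent.Lib.ClassesSL
open Cfsg.Agent.Lib.Symplectic (restr)
open Cfsg.Agent.Lib.ClassesSp (Skew Blk Idx shiftC shiftT shiftT_apply shiftT_pow_mem_range perp_ker_range
  isCompl_ker_range ker_le_range cayley_pow)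

universe u

variable {F : Type u} [Field F] [Fintype F]

/-- The multiplier of the coordinates in the chosen block. -/
def blockMul (α : F) {r : ℕ → ℕ} {N : ℕ} (e : ℕ) (p : Idx r N) : F :=
  if (p.1.1 : ℕ) = e ∧ (p.1.2 : ℕ) + 1 = r (p.1.1 : ℕ) then α else 1

theorem NF.exists_twist {V : Type*} [AddCommGroup V] [Module F V] [FiniteDimensional F V]
    {B : V →ₗ[F] V →ₗ[F] F} {D : Module.End F V} {α : F} {N : ℕ} (hα : α ≠ 0) (hD : Skew B D)
    (P : NF B D α N) (e : ℕ) (he : Odd e) (hr : 0 < P.r e) :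
    ∃ H : Module.End F V, Commute H D ∧ (∀ x y, B x (H y) = B (H x) y) ∧ LinearMap.det H = α ^ e ∧
      ∃ Q : NF (B.compl₂ H) D α N, ∀ i, Q.s i = if i = e then !(P.s i) else P.s i := by
  classical
  have hb := P.bound e hr.ne'
  let φ := LinearEquiv.ofBijective P.comb (P.comb_bijective hα hD)
  let w : Idx P.r N → F := blockMul α e
  let L : (Idx P.r N → F) →ₗ[F] (Idx P.r N → F) := Matrix.toLin' (Matrix.diagonal w)
  let H : Module.End F V := φ.toLinearMap ∘ₗ L ∘ₗ φ.symm.toLinearMap
  have hH : ∀ c, H (P.comb c) = P.comb (fun p => w p * c p) := fun c => by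
    show φ (L (φ.symm (φ c))) = _
    rw [LinearEquiv.symm_apply_apply]
    show P.comb (L c) = _
    congr 1
    funext p
    simp [L, Matrix.mulVec_diagonal]
  have hcomm : Commute H D := by
    refine LinearMap.ext fun x => ?_
    obtain ⟨c, rfl⟩ := (P.comb_bijective hα hD).2 x
    rw [Module.End.mul_apply, Module.End.mul_apply, P.map_comb, hH, hH, P.map_comb]
    congr 1
    funext p
    simp only [shiftC]
    split_ifs with h
    · rw [mul_zero]
    · rfl
  have hv : ∀ i a (ha : a < P.r i), H (P.v i a) =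
      (if i = e ∧ a + 1 = P.r i then α else 1) • P.v i a := by
    intro i a ha
    have hb' := P.bound i (by omega)
    let p₀ : Idx P.r N := ⟨⟨⟨i, by omega⟩, ⟨a, ha⟩⟩, ⟨0, by simp only; omega⟩⟩
    have e0 : P.comb (Pi.single p₀ 1) = P.v i a := by
      rw [P.comb_apply, Finset.sum_eq_single p₀ (fun p _ hp => by rw [Pi.single_eq_of_ne hp, zero_smul])
        (by simp), Pi.single_eq_same, one_smul]
      rfl
    rw [← e0, hH, ← map_smul]
    congr 1
    funext p
    rw [Pi.smul_apply, smul_eq_mul]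
    rcases eq_or_ne p p₀ with rfl | hp
    · rfl
    · rw [Pi.single_eq_of_ne hp, mul_zero, mul_zero]
  have hadj : ∀ x y, B x (H y) = B (H x) y := by
    intro x y
    obtain ⟨c, rfl⟩ := (P.comb_bijective hα hD).2 x
    obtain ⟨d, rfl⟩ := (P.comb_bijective hα hD).2 y
    rw [hH, hH, P.form_comb hD, P.form_comb hD]
    refine Finset.sum_congr rfl fun p _ => Finset.sum_congr rfl fun q _ => ?_
    by_cases hcond : (p.1.1 : ℕ) = q.1.1 ∧ (p.2 : ℕ) + q.2 + 1 = p.1.1
    · rw [if_pos hcond]
      by_cases hpe : (p.1.1 : ℕ) = e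
      · by_cases hab : (p.1.2 : ℕ) = q.1.2
        · have : w p = w q := by
            show blockMul α e p = blockMul α e q
            have h1 := congrArg P.r hcond.1
            refine if_congr ?_ rfl rfl
            have h2 := hcond.1
            omega
          rw [this]; ring
        · rw [std, if_pos (by rwa [hpe]), if_neg hab]; ring
      · have h1 : w p = 1 := if_neg fun h => hpe h.1
        have h2 : w q = 1 := if_neg fun h => hpe (hcond.1.trans h.1)
        rw [h1, h2]; ring
    · rw [if_neg hcond]; ring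
  refine ⟨H, hcomm, hadj, ?_, ?_⟩
  · rw [LinearMap.det_conj, LinearMap.det_toLin', Matrix.det_diagonal, Fintype.prod_sigma]
    rw [Finset.prod_eq_single (⟨⟨e, by omega⟩, ⟨P.r e - 1, by simp only; omega⟩⟩ : Blk P.r N) ?_ (by simp)]
    · simp only [w, blockMul]
      rw [Finset.prod_congr rfl fun i _ => if_pos (by simp; omega), Finset.prod_const, Finset.card_univ,
        Fintype.card_fin]
    · rintro ⟨⟨i, hi⟩, ⟨a, ha⟩⟩ _ hne
      refine Finset.prod_eq_one fun k _ => if_neg ?_
      simp only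
      rintro ⟨rfl, h⟩
      refine hne ?_
      congr 1
      exact Fin.ext (by simp only; omega)
  · let t : F := if P.s e = true then α⁻¹ else 1
    let sc : ℕ → ℕ → F := fun i a => if i = e ∧ a + 1 = P.r i then t else 1
    have hsc : ∀ i a, sc i a ≠ 0 := fun i a => by
      simp only [sc, t]; split_ifs <;> simp [hα]
    let s' : ℕ → Bool := fun i => if i = e then !(P.s i) else P.s i
    have hpowH : ∀ (k : ℕ) x, H ((D ^ k) x) = (D ^ k) (H x) := fun k x =>
      LinearMap.congr_fun (hcomm.pow_right k).eq x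
    refine ⟨{
      r := P.r
      s := s'
      v := fun i a => sc i a • P.v i a
      bound := P.bound
      par := P.par
      supp := fun i hi => ?_
      kill := fun i a ha => by rw [map_smul, P.kill i a ha, smul_zero]
      gram_eq := fun i a b k ha hb => ?_
      gram_ne := fun i i' a b k hne ha hb => ?_
      span := ?_ }, fun i => rfl⟩
    · rcases eq_or_ne i e with rfl | hne
      · exact ⟨he, hr⟩
      · simp only [s', if_neg hne] at hi
        exact P.supp i hi
    · rw [LinearMap.compl₂_apply, hpowH]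
      simp only [map_smul, LinearMap.smul_apply, smul_eq_mul, hv i b hb, P.gram_eq i a b k ha hb]
      by_cases hk : k + 1 = i
      · rw [if_pos hk, if_pos hk]
        rcases eq_or_ne i e with rfl | hne
        · simp only [sc, s', std, if_pos he, true_and, if_true]
          by_cases hab : a = b
          · subst hab
            by_cases hl : a + 1 = P.r i
            · cases hs : P.s i <;> simp [hl, hs, t]; field_simp
            · simp [hl]
          · simp [hab]
        · simp [sc, s', hne]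
      · rw [if_neg hk, if_neg hk]; simp
    · rw [LinearMap.compl₂_apply, hpowH]
      simp only [map_smul, LinearMap.smul_apply, smul_eq_mul, hv i' b hb, P.gram_ne i i' a b k hne ha hb,
        mul_zero]
    · refine P.span.trans (Submodule.span_le.2 ?_)
      rintro _ ⟨i, a, k, ha, hk, rfl⟩
      rw [SetLike.mem_coe, show (D ^ k) (P.v i a) = (sc i a)⁻¹ • (D ^ k) (sc i a • P.v i a) by
        rw [map_smul, smul_smul, inv_mul_cancel₀ (hsc i a), one_smul]]
      exact Submodule.smul_mem _ _ (Submodule.subset_span ⟨i, a, k, ha, hk, rfl⟩)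

variable {N : ℕ}

/-- What commutes with the Cayley transform commutes with the operator. -/
theorem comm_of_comm_cayley {V : Type*} [AddCommGroup V] [Module F V] {T D H : Module.End F V} {ε : F} {M : ℕ}
    (h2 : (2 : F) ≠ 0) (hε : ε * ε = 1) (hnil : shiftT T ε ^ M = 0) (hD : D * shiftT T (-ε) = shiftT T ε)
    (hc : Commute H D) (a : V) : H (T a) = T (H a) := by
  have hrel : ∀ z, T z - D (T z) = ε • (z + D z) := fun z => by
    have h := LinearMap.congr_fun hD z
    rw [Module.End.mul_apply, shiftT_apply, shiftT_apply, map_sub, map_smul, neg_smul, sub_neg_eq_add] at h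
    calc T z - D (T z) = (D (T z) + ε • D z + ε • z) - D (T z) := by rw [h]; abel
      _ = _ := by rw [smul_add]; abel
  have hfix : ∀ z, D z = z → z = 0 := fun z hz => by
    have : ∀ k, (D ^ k) z = z := fun k => by
      induction k with
      | zero => rfl
      | succ k ih => rw [pow_succ, Module.End.mul_apply, hz, ih]
    rw [← this M, cayley_pow h2 hε hnil hD]; rfl
  have hcD : ∀ z, H (D z) = D (H z) := fun z => LinearMap.congr_fun hc.eq z
  refine sub_eq_zero.1 (hfix _ ?_)
  have h1 := congrArg H (hrel a)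
  rw [map_sub, hcD, map_smul, map_add, hcD, ← hrel] at h1
  rw [map_sub, ← sub_eq_zero]
  calc _ = (T (H a) - D (T (H a))) - (H (T a) - D (H (T a))) := by abel
    _ = 0 := by rw [h1, sub_self]

theorem exists_twist_valid' (h2 : (2 : F) ≠ 0) {α : F} (hα : α ≠ 0) {S : Matrix (Fin N) (Fin N) F}
    (hB : IsSymmForm (bf S)) {x : GL (Fin N) F} (hx : x ∈ OS S) {ε : F} (hε : ε * ε = 1) {s s₂ : ℕ → Bool}
    (hs : Signs S x ε α s) (hs₂ : Signs S x (-ε) α s₂) (j : Fin N) (ho : Odd ((j : ℕ) + 1))
    (hroot : ((invT x).1 j).eval ε = 0) :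
    ∃ S₂ : Matrix (Fin N) (Fin N) F, S₂.IsSymm ∧ SameClass S₂.det (α * S.det) ∧ x ∈ OS S₂ ∧
      Signs S₂ x (-ε) α s₂ ∧
      (∀ u, ∀ v ∈ LinearMap.range (shiftT (lin x) ε ^ N), bf S₂ u v = bf S u v) ∧
      (∃ HK : Module.End F (eig x ε), LinearMap.det HK = α ^ ((j : ℕ) + 1) ∧
        ∀ u v : eig x ε, bf S₂ u.1 v.1 = bf S u.1 (HK v).1) ∧
      ∃ s' : ℕ → Bool, Signs S₂ x ε α s' ∧ ∀ i, s' i = if i = (j : ℕ) + 1 then !(s i) else s i := by
  classical
  obtain ⟨D, hD, hskew, P, rfl⟩ := hs
  have hr : 0 < P.r ((j : ℕ) + 1) := by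
    rw [r_eq_count h2 hα x hε hD hskew P j, Multiset.count_pos]
    have hne : (invT x).1 j ≠ 0 := ((invT x).2.1 j).1.ne_zero
    obtain ⟨q, hq, hq'⟩ := UniqueFactorizationMonoid.exists_mem_normalizedFactors_of_dvd hne
      (irreducible_X_sub_C ε) (dvd_iff_isRoot.2 hroot)
    rwa [eq_of_monic_of_associated (monic_X_sub_C ε) (by
      rw [← UniqueFactorizationMonoid.normalize_normalized_factor q hq]
      exact monic_normalize (UniqueFactorizationMonoid.irreducible_of_normalized_factor q hq).ne_zero) hq']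
  obtain ⟨HK, hcomm, hadj, hdet, Q, hQ⟩ := P.exists_twist hα hskew _ ho hr
  set R := LinearMap.range (shiftT (lin x) ε ^ N) with hR
  have hc : IsCompl (eig x ε) R := isCompl_ker_range finrank_space.le _
  let Pe := Submodule.prodEquivOfIsCompl (eig x ε) R hc
  let H : Module.End F (Fin N → F) := Pe.toLinearMap ∘ₗ (HK.prodMap LinearMap.id) ∘ₗ Pe.symm.toLinearMap
  have hPe : ∀ (a : (eig x ε)) (b : R), Pe (a, b) = (a : Fin N → F) + b := fun a b => rfl
  have hHP : ∀ (a : (eig x ε)) (b : R), H (Pe (a, b)) = Pe (HK a, b) := fun a b => by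
    show Pe ((HK.prodMap LinearMap.id) (Pe.symm (Pe (a, b)))) = _
    rw [LinearEquiv.symm_apply_apply]; rfl
  have hHK : ∀ a : (eig x ε), H (a : Fin N → F) = (HK a : Fin N → F) := fun a => by
    simpa [hPe] using hHP a 0
  have hHR : ∀ b : R, H (b : Fin N → F) = b := fun b => by
    simpa [hPe] using hHP 0 b
  have hperp : ∀ (a : (eig x ε)) (b : R), bf S (a : Fin N → F) (b : Fin N → F) = 0 := by
    rintro ⟨a, ha⟩ ⟨_, z, rfl⟩
    exact perp_ker_range (lin_bijective x) (lin_isometry hx) hε _ a z ha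
  have hadjH : ∀ u v, bf S u (H v) = bf S (H u) v := by
    intro u v
    obtain ⟨⟨a, b⟩, rfl⟩ := Pe.surjective u
    obtain ⟨⟨a', b'⟩, rfl⟩ := Pe.surjective v
    have h1 : bf S (a : Fin N → F) (HK a' : Fin N → F) = bf S (HK a : Fin N → F) (a' : Fin N → F) := hadj a a'
    rw [hHP, hHP, hPe, hPe, hPe, hPe]
    simp only [map_add, LinearMap.add_apply, hperp, hB.comm_eq_zero.1 (hperp _ _), add_zero, zero_add]
    rw [h1]
  have hcomm_HK : ∀ a : (eig x ε), HK (linE x ε a) = linE x ε (HK a) :=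
    comm_of_comm_cayley h2 hε (eig_nil x ε) hD hcomm
  have hHT : ∀ u, H (lin x u) = lin x (H u) := by
    intro u
    obtain ⟨⟨a, b⟩, rfl⟩ := Pe.surjective u
    have e1 : lin x (b : Fin N → F) = ((⟨lin x b, shiftT_pow_mem_range b.2⟩ : R) : Fin N → F) := rfl
    rw [hHP, hPe, hPe, map_add, map_add, map_add, e1, hHR]
    exact congrArg (· + _) ((hHK (linE x ε a)).trans (congrArg Subtype.val (hcomm_HK a)))
  let M := LinearMap.toMatrix' H
  have hS2 : ∀ u v, bf (S * M) u v = bf S u (H v) := fun u v => by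
    rw [bf_apply, bf_apply, ← Matrix.mulVec_mulVec, LinearMap.toMatrix'_mulVec]
  have hdetH : M.det = α ^ ((j : ℕ) + 1) := by
    rw [LinearMap.det_toMatrix', LinearMap.det_conj, LinearMap.det_prodMap, LinearMap.det_id, mul_one, hdet]
  refine ⟨S * M, ?_, ?_, ?_, ?_, fun u v hv => ?_, ⟨HK, hdet, fun u v => ?_⟩, Q.s, ?_, hQ⟩
  · refine Matrix.ext fun a b => ?_
    have h1 : bf (S * M) (Pi.single b 1) (Pi.single a 1) = bf (S * M) (Pi.single a 1) (Pi.single b 1) := by
      rw [hS2, hS2, hadjH, hB.symm]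
    simpa [bf_apply] using h1
  · obtain ⟨k, hk⟩ := ho
    refine ⟨α ^ k, pow_ne_zero _ hα, ?_⟩
    rw [Matrix.det_mul, hdetH, hk]; ring
  · refine mem_OS.2 (bf_injective (LinearMap.ext fun u => LinearMap.ext fun v => ?_))
    rw [← bf_congr]
    show bf (S * M) (lin x u) (lin x v) = _
    rw [hS2, hS2, hHT, lin_isometry hx]
  · have e : restr (bf (S * M)) (eig x (-ε)) = restr (bf S) (eig x (-ε)) :=
      LinearMap.ext fun u => LinearMap.ext fun v => by
        show bf (S * M) u.1 v.1 = bf S u.1 v.1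
        rw [hS2, hHR ⟨v.1, ker_le_range h2 hε N v.2⟩]
    show HasCode _ _ _ _ _ _
    rw [e]; exact hs₂
  · rw [hS2, hHR ⟨v, hv⟩]
  · rw [hS2, hHK]
  · have e : restr (bf (S * M)) (eig x ε) = (restr (bf S) (eig x ε)).compl₂ HK :=
      LinearMap.ext fun u => LinearMap.ext fun v => by
        show bf (S * M) u.1 v.1 = bf S u.1 (HK v).1
        rw [hS2, hHK]
    show HasCode _ _ _ _ _ _
    rw [e]
    refine ⟨D, hD, fun u v => ?_, Q, rfl⟩
    show restr (bf S) (eig x ε) (D u) (HK v) = -restr (bf S) (eig x ε) u (HK (D v))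
    rw [show HK (D v) = D (HK v) from LinearMap.congr_fun hcomm.eq v]
    exact hskew u (HK v)

theorem exists_twist_valid (h2 : (2 : F) ≠ 0) {α : F} (hα : α ≠ 0) {S : Matrix (Fin N) (Fin N) F}
    (hB : IsSymmForm (bf S)) {x : GL (Fin N) F} (hx : x ∈ OS S) {ε : F} (hε : ε * ε = 1) {s s₂ : ℕ → Bool}
    (hs : Signs S x ε α s) (hs₂ : Signs S x (-ε) α s₂) (j : Fin N) (ho : Odd ((j : ℕ) + 1))
    (hroot : ((invT x).1 j).eval ε = 0) :
    ∃ S₂ : Matrix (Fin N) (Fin N) F, S₂.IsSymm ∧ SameClass S₂.det (α * S.det) ∧ x ∈ OS S₂ ∧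
      Signs S₂ x (-ε) α s₂ ∧
      ∃ s' : ℕ → Bool, Signs S₂ x ε α s' ∧ ∀ i, s' i = if i = (j : ℕ) + 1 then !(s i) else s i := by
  obtain ⟨S₂, h1, h2', h3, h4, -, -, h5⟩ := exists_twist_valid' h2 hα hB hx hε hs hs₂ j ho hroot
  exact ⟨S₂, h1, h2', h3, h4, h5⟩

end Cfsg.Agent.Lib.Elem70.ClassesO
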